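/- S3330, case II: the subgroup `(A₅ × A₅).2²` is the whole group. -/
import Cfsg.Agent.H19.S8Spec
import Cfsg.Agent.H49.CenCore
import Cfsg.Agent.H61.Platonic
import Cfsg.Agent.H21.S3S3

set_option autoImplicit false
set_option synthInstance.maxSize 5000
set_option linter.unusedSectionVars false

namespace H91.S8

open Cfsg Subgroup H98 H14 H56.L3 H42.L3 Equiv H49
open H21.L3 (SE)
open H42.Ree (Pair V4 V4_le left_mem_V4 right_mem_V4 two_of_sq sq_of_two)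
open H19.A8 (Ce_symm mem_zp3)

universe u

abbrev S5 := Perm (Fin 5)

def r : S5 := swap 0 1
def t : S5 := swap 0 1 * swap 2 3
def v : S5 := swap 0 2 * swap 1 3
def d : S5 := swap 1 2 * swap 2 3
def c : S5 := swap 2 3 * swap 3 4

theorem f1 : ∀ a : S5, a * a = 1 → a = 1 ∨
    (Perm.sign a = 1 ∧ ∃ k : S5, Perm.sign k = 1 ∧ k * t * k⁻¹ = a) ∨
    (Perm.sign a ≠ 1 ∧ ∃ k : S5, Perm.sign k = 1 ∧ k * r * k⁻¹ = a) := by decide +kernel

theorem f2 : ∀ a : S5, (Perm.sign a = 1 ∧ a * a = 1 ∧ a ≠ 1) ∧ a * r = r * a →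
    ∀ b : S5, (Perm.sign b = 1 ∧ b * b = 1 ∧ b ≠ 1) ∧ b * r = r * b → a * b * (a * b) = 1 →
      a * b = 1 := by decide +kernel

theorem f3 : ∀ a : S5, a * t = t * a → a ^ 4 = 1 ∧
    (Perm.sign a = 1 → a = 1 ∨ a = t ∨ a = v ∨ a = v * t) ∧ (a * v = v * a → Perm.sign a = 1) := by
  decide +kernel

theorem f4 : ∀ b : S5, Perm.sign b = 1 → b ≠ 1 → ∃ x : S5, Perm.sign x = 1 ∧ ∃ n ∈ [1, 2],
    b * (x * b ^ n * x⁻¹) * (b * (x * b ^ n * x⁻¹)) = 1 ∧ b * (x * b ^ n * x⁻¹) ≠ 1 := by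
  decide +kernel

theorem f5 : ∀ b : S5, (b * d = d * b → Perm.sign b = 1 → b = 1 ∨ b = d ∨ b = d⁻¹) ∧
    (b * c = c * b → b * v = v * b → b = 1) := by decide +kernel

/-- pairs of permutations of the same sign -/
def B : Subgroup (S5 × S5) :=
  (Perm.sign.comp (MonoidHom.fst S5 S5)).eqLocus (Perm.sign.comp (MonoidHom.snd S5 S5))

instance : DecidableEq B := fun _ _ => decidable_of_iff _ Subtype.ext_iff.symm

def pr (a b : S5) (h : Perm.sign a = Perm.sign b := by decide +kernel) : B := ⟨(a, b), h⟩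

theorem sg (x : B) : Perm.sign x.1.1 = Perm.sign x.1.2 := x.2

def sw (x : B) : B := pr x.1.2 x.1.1 (sg x).symm

theorem ext' {x y : B} (h1 : x.1.1 = y.1.1) (h2 : x.1.2 = y.1.2) : x = y :=
  Subtype.ext (Prod.ext h1 h2)

theorem one_sg {a : S5} (h : Perm.sign a = 1) : Perm.sign (1 : S5) = Perm.sign a := by
  rw [h, map_one]

theorem sg_cj (a b : S5) : Perm.sign (a * b * a⁻¹) = Perm.sign b := by
  rw [map_mul, map_mul, map_inv, mul_inv_cancel_comm]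

def uB : B := pr t 1
def vB : B := pr v 1
def wB : B := pr t t
def τB : B := pr r r
def zB : B := pr 1 d

variable {G : Type u} [Group G] [Finite G] {ψ : B →* G} {s g k x y : G}

/-- the subgroup `H` -/
abbrev HH (ψ : B →* G) (s : G) : Subgroup G := ψ.range ⊔ zpowers s

structure Q (ψ : B →* G) (s : G) : Prop where
  inj : Function.Injective ψ
  ss : s * s = 1
  cj : ∀ x, s * ψ x * s⁻¹ = ψ (sw x)
  se : SE 3 ⊤ (HH ψ s)
  ct : Ce (ψ τB) ≤ HH ψ s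

/-- conjugate in `H` -/
def HC (ψ : B →* G) (s x y : G) : Prop := ∃ k ∈ HH ψ s, k * x * k⁻¹ = y

theorem HC.isConj (h : HC ψ s x y) : IsConj x y := let ⟨k, _, e⟩ := h; isConj_iff.2 ⟨k, e⟩

theorem mem_H (x : B) : ψ x ∈ HH ψ s := mem_sup_left ⟨x, rfl⟩

theorem s_mem : s ∈ HH ψ s := mem_sup_right (mem_zpowers s)

theorem map_cj (a b : B) : ψ a * ψ b * (ψ a)⁻¹ = ψ (a * b * a⁻¹) := by simp

theorem map_Ce {a b : B} (h : a * b = b * a) : ψ a ∈ Ce (ψ b) :=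
  mem_Ce.2 (by rw [← map_mul, h, map_mul])

theorem two_le {D : Set G} {M P : Subgroup G} (h : UF D M) (hP : IsPGroup 2 P) (hx : x ∈ D)
    (h1 : x ∈ M) (h2 : x ∈ P) : P ≤ M := by
  by_contra h3
  obtain ⟨g, hg, h4⟩ := SetLike.exists_of_lt (lt_inf_normalizer hP (inf_lt_left.2 h3))
  exact h4 ⟨hg.1, h.mem_of_normalizes inf_le_right hx ⟨h2, h1⟩ hg.2⟩

/-- a group that is of odd order modulo a central involution -/
theorem zs_le {O M : Subgroup G} {z : G} (hz : z * z = 1) (h1 : O ≤ Ce z)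
    (h2 : ∃ m, Odd m ∧ ∀ o ∈ O, o ^ m = 1 ∨ o ^ m = z) (h3 : z ∈ M) (h4 : opp 2 O ≤ M) : O ≤ M := by
  obtain ⟨m, hm, h2⟩ := h2
  have h5 : IsSyl 2 (O ⊓ zpowers z) O := ⟨inf_le_left, (isPGroup_zpowers (k := 1)
    ((sq _).trans hz)).to_inf_right, fun Q hQ a b =>
      le_antisymm (fun x hx => ⟨b hx, by
        obtain ⟨n, hn⟩ := isPGroup_iff_forall.1 hQ x hx
        refine zpowers_le_of_mem (g := x ^ m) (H := zpowers z)
          ((h2 x (b hx)).elim (·.symm ▸ one_mem _) (·.symm ▸ mem_zpowers _))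
          (mem_zpowers_pow_iff.2 (((Nat.coprime_two_right.2 hm).pow_right n).coprime_dvd_right
            (orderOf_dvd_of_pow_eq_one hn)))⟩) a⟩
  exact (H87.burnside_dec h5 fun x hx =>
    centralizer_le inf_le_right ((H42.Ree.cens_zpowers z).ge (h1 hx.1))).2 M
      (inf_le_right.trans (zpowers_le_of_mem h3)) h4

theorem nor_opp {C O : Subgroup G} (h : ∀ g ∈ C, ∀ o ∈ O, g * o * g⁻¹ ∈ O) : C ≤ nr (opp 2 O) :=
  le_trans (fun x hx => mem_normalizer_of_cj_le (by rintro _ ⟨y, hy, rfl⟩; exact h x hx y hy))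
    (normalizer_le_normalizer_opp O)

namespace Q

variable (h : Q ψ s)
include h

theorem comm {a b : B} (e : ψ a ∈ Ce (ψ b)) : a * b = b * a := h.inj (by simpa using mem_Ce.1 e)

theorem sinv : s⁻¹ = s := inv_eq_of_mul_eq_one_right h.ss

theorem s_mul (x : B) : s * ψ x = ψ (sw x) * s := by rw [← h.cj, inv_mul_cancel_right]

theorem cases (hg : g ∈ HH ψ s) : ∃ x, g = ψ x ∨ g = ψ x * s := by
  obtain ⟨_, ⟨x, rfl⟩, a, ha, rfl⟩ := (mem_sup_right_norm (zpowers_le.2 (mem_normalizer_of_cj_le (by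
    rintro _ ⟨_, ⟨x, rfl⟩, rfl⟩; exact ⟨_, (h.cj x).symm⟩)))).1 hg
  rcases (H42.Ree.mem_zpowers_two h.ss).1 ha with rfl | rfl
  exacts [⟨x, .inl (mul_one _)⟩, ⟨x, .inr rfl⟩]

theorem ne_s (x y : B) : ψ x ≠ ψ y * s := fun e => by
  have h1 := h.cj zB
  rw [← inv_mul_eq_iff_eq_mul.2 e, ← map_inv, ← map_mul, map_cj] at h1
  have h2 : _ * 1 * _ = d := congrArg (fun x : B => x.1.1) (h.inj h1)
  exact absurd (h2.symm.trans (by simp)) (by decide +kernel : d ≠ 1)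

theorem cj_s (x y : B) : ψ x * s * ψ y * (ψ x * s)⁻¹ = ψ (x * sw y * x⁻¹) := by
  rw [← map_cj, ← h.cj]; group

theorem hc_map {y : B} (e : HC ψ s (ψ y) g) :
    ∃ x, g = ψ (x * y * x⁻¹) ∨ g = ψ (x * sw y * x⁻¹) := by
  obtain ⟨k, hk, rfl⟩ := e
  obtain ⟨x, rfl | rfl⟩ := h.cases hk
  exacts [⟨x, .inl (map_cj x y)⟩, ⟨x, .inr (h.cj_s x y)⟩]

theorem hc_s {y : B} (e : HC ψ s (ψ y * s) g) :
    ∃ x, g = ψ x * s ∧ Perm.sign x.1.1 = Perm.sign y.1.1 := by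
  obtain ⟨k, hk, rfl⟩ := e
  have k1 : ∀ x y : B, ψ x * (ψ y * s) * (ψ x)⁻¹ = ψ (x * y * sw x⁻¹) * s := fun x y => by
    rw [← map_inv, mul_assoc, mul_assoc, h.s_mul, map_mul, map_mul]; group
  have k2 : ∀ x y : B, Perm.sign (x * y * sw x⁻¹).1.1 = Perm.sign y.1.1 := fun x y => by
    change Perm.sign (x.1.1 * y.1.1 * x.1.2⁻¹) = _
    rw [map_mul, map_mul, map_inv, ← sg, mul_comm, ← mul_assoc, inv_mul_cancel, one_mul]
  obtain ⟨x, rfl | rfl⟩ := h.cases hk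
  · exact ⟨_, k1 x y, k2 x y⟩
  · refine ⟨_, Eq.trans ?_ (k1 x (sw y)), (k2 x _).trans (sg y).symm⟩
    rw [← h.cj]; group

theorem hc_sg {y : B} (e : HC ψ s (ψ y) g) : ∃ x, g = ψ x ∧ Perm.sign x.1.1 = Perm.sign y.1.1 := by
  obtain ⟨x, rfl | rfl⟩ := h.hc_map e
  · exact ⟨_, rfl, sg_cj _ _⟩
  · exact ⟨_, rfl, (sg_cj _ _).trans (sg y).symm⟩

theorem ord {x : B} {p : ℕ} [Fact p.Prime] (h1 : x ^ p = 1) (h2 : x ≠ 1) : orderOf (ψ x) = p :=
  (orderOf_injective ψ h.inj x).trans (orderOf_eq_prime h1 h2)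

theorem cl_map {x : B} (h1 : x * x = 1) (h2 : x ≠ 1) :
    (Perm.sign x.1.1 = 1 ∧ (HC ψ s (ψ uB) (ψ x) ∨ HC ψ s (ψ wB) (ψ x))) ∨ HC ψ s (ψ τB) (ψ x) := by
  have k : ∀ {a b : S5} (ha : Perm.sign a = 1) (hb : Perm.sign b = 1) (y : B),
      a * y.1.1 * a⁻¹ = x.1.1 → b * y.1.2 * b⁻¹ = x.1.2 → HC ψ s (ψ y) (ψ x) :=
    fun {a b} ha hb y e e' => ⟨_, mem_H (pr a b (ha.trans hb.symm)), by
      rw [map_cj]; exact congrArg ψ (ext' e e')⟩
  have := sg x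
  rcases f1 _ (congrArg (·.1.1) h1) with e | ⟨e, a, ha, ea⟩ | ⟨e, a, ha, ea⟩ <;>
    rcases f1 _ (congrArg (·.1.2) h1) with e' | ⟨e', b, hb, eb⟩ | ⟨e', b, hb, eb⟩
  · exact absurd (ext' e e') h2
  · obtain ⟨g, hg, e1⟩ := k (map_one _) hb (sw uB) (by rw [e]; rfl) eb
    exact .inl ⟨this.trans e', .inl ⟨g * s, mul_mem hg s_mem, by rw [← e1, ← h.cj]; group⟩⟩
  · exact absurd (by rw [← this, e, map_one]) e'
  · exact .inl ⟨e, .inl (k ha (map_one _) uB ea (by rw [e']; rfl))⟩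
  · exact .inl ⟨e, .inr (k ha hb wB ea eb)⟩
  · exact absurd (this ▸ e) e'
  · exact absurd (by rw [this, e', map_one]) e
  · exact absurd (this ▸ e') e
  · exact .inr (k ha hb τB ea eb)

theorem cl_s {x : B} (h1 : ψ x * s * (ψ x * s) = 1) :
    HC ψ s (ψ 1 * s) (ψ x * s) ∨ HC ψ s (ψ τB * s) (ψ x * s) := by
  rw [mul_assoc, ← mul_assoc s, h.s_mul, mul_assoc, h.ss, mul_one, ← map_mul, ← map_one ψ] at h1
  have h2 : x.1.2 = x.1.1⁻¹ := eq_inv_of_mul_eq_one_right (congrArg (·.1.1) (h.inj h1))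
  have k : ∀ (a : S5) (ha : Perm.sign a = 1) (y : B), a * y.1.1 = x.1.1 → y.1.2 * a⁻¹ = x.1.2 →
      HC ψ s (ψ y * s) (ψ x * s) := fun a ha y e e' => ⟨_, mem_H (pr a 1 (one_sg ha).symm), by
    rw [← map_inv, mul_assoc, mul_assoc, h.s_mul, ← mul_assoc, ← mul_assoc, ← map_mul, ← map_mul]
    exact congrArg (ψ · * s) (ext' ((mul_one _).trans e) ((congrArg (· * a⁻¹) (one_mul _)).trans e'))⟩
  rcases Int.units_eq_one_or (Perm.sign x.1.1) with e | e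
  · exact .inl (k _ e 1 (mul_one _) (by rw [h2]; exact one_mul _))
  · refine .inr (k (x.1.1 * r⁻¹) (by rw [map_mul, e]; decide +kernel) τB
      (inv_mul_cancel_right _ _) ?_)
    rw [h2, mul_inv_rev, inv_inv, ← mul_assoc]
    exact (congrArg (· * _) (by decide +kernel : r * r = 1)).trans (one_mul _)

/-- the involutions of `H` -/
theorem cl (hg : g ∈ HH ψ s) (h2 : orderOf g = 2) : HC ψ s (ψ uB) g ∨ HC ψ s (ψ wB) g ∨
    HC ψ s (ψ τB) g ∨ HC ψ s (ψ 1 * s) g ∨ HC ψ s (ψ τB * s) g := by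
  obtain ⟨x, rfl | rfl⟩ := h.cases hg
  · rcases h.cl_map (h.inj (by rw [map_mul, sq_of_two h2, map_one]))
      (fun e => H42.Ree.ne_one_of_two h2 (by rw [e, map_one])) with ⟨-, e | e⟩ | e
    exacts [.inl e, .inr (.inl e), .inr (.inr (.inl e))]
  · exact .inr (.inr (.inr (h.cl_s (sq_of_two h2))))

/-- centralised by an element of order three of `H` -/
def T3 (_ : Q ψ s) (x : G) : Prop := ∃ z ∈ HH ψ s, orderOf z = 3 ∧ z * x = x * z

theorem fus (hx : h.T3 x) (hy : h.T3 y) (e : IsConj x y) : HC ψ s x y := by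
  obtain ⟨g, rfl⟩ := isConj_iff.1 e
  obtain ⟨z, h1, h2, h3⟩ := hx
  obtain ⟨z', h1', h2', h3'⟩ := hy
  exact h.se.fus le_top trivial h1 h2 h3 h1' h2' h3'

theorem t3u : h.T3 (ψ uB) :=
  ⟨_, mem_H zB, h.ord (by decide +kernel) (by decide +kernel), mem_Ce.1 (map_Ce (by decide +kernel))⟩

theorem t3t : h.T3 (ψ τB) :=
  ⟨_, mem_H (pr c c), h.ord (by decide +kernel) (by decide +kernel),
    mem_Ce.1 (map_Ce (by decide +kernel))⟩

theorem t3s {x : B} (e : pr c c * x = x * pr c c) : h.T3 (ψ x * s) :=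
  ⟨_, mem_H (pr c c), h.ord (by decide +kernel) (by decide +kernel), by
    rw [mul_assoc, h.s_mul, ← mul_assoc, ← mul_assoc, ← map_mul, e, map_mul]; rfl⟩

theorem n_ut : ¬ IsConj (ψ uB) (ψ τB) := fun e => by
  obtain ⟨x, e1, e2⟩ := h.hc_sg (h.fus h.t3u h.t3t e)
  exact absurd (h.inj e1 ▸ e2) (by decide +kernel)

theorem n_s {x y : B} (hx : h.T3 (ψ x)) (e : pr c c * y = y * pr c c) :
    ¬ IsConj (ψ x) (ψ y * s) := fun e' =>
  let ⟨z, e1, _⟩ := h.hc_sg (h.fus hx (h.t3s e) e'); h.ne_s z y e1.symm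

theorem hc_of {x : B} (hx : h.T3 (ψ x)) (hg : g ∈ HH ψ s) (h2 : orderOf (ψ x) = 2)
    (e : IsConj (ψ x) g) : HC ψ s (ψ uB) g ∨ HC ψ s (ψ wB) g ∨ HC ψ s (ψ τB) g := by
  obtain ⟨k, rfl⟩ := isConj_iff.1 e
  rcases h.cl hg ((H42.Ree.orderOf_conj _ _).trans h2) with f | f | f | f | f
  exacts [.inl f, .inr (.inl f), .inr (.inr f),
    absurd (e.trans f.isConj.symm) (h.n_s hx (by decide +kernel)),
    absurd (e.trans f.isConj.symm) (h.n_s hx (by decide +kernel))]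

theorem ou : orderOf (ψ uB) = 2 := h.ord (by decide +kernel) (by decide +kernel)

theorem ot : orderOf (ψ τB) = 2 := h.ord (by decide +kernel) (by decide +kernel)

theorem ow : orderOf (ψ wB) = 2 := h.ord (by decide +kernel) (by decide +kernel)

theorem hc_u (hn : ¬ IsConj (ψ uB) (ψ wB)) (hg : g ∈ HH ψ s) (e : IsConj (ψ uB) g) :
    HC ψ s (ψ uB) g := by
  rcases h.hc_of h.t3u hg h.ou e with f | f | f
  exacts [f, absurd (e.trans f.isConj.symm) hn, absurd (e.trans f.isConj.symm) h.n_ut]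

/-- the shape of the conjugates of `U` in `H` -/
theorem ut (e : HC ψ s (ψ uB) g) : ∃ a : S5, ∃ ha : Perm.sign a = 1, (a * a = 1 ∧ a ≠ 1) ∧
    (g = ψ (pr a 1 (one_sg ha).symm) ∨ g = ψ (pr 1 a (one_sg ha))) := by
  have k : ∀ a : S5, Perm.sign (a * t * a⁻¹) = 1 ∧ a * t * a⁻¹ * (a * t * a⁻¹) = 1 ∧
      a * t * a⁻¹ ≠ 1 := by decide +kernel
  obtain ⟨x, rfl | rfl⟩ := h.hc_map e
  · exact ⟨_, (k x.1.1).1, (k x.1.1).2, .inl (congrArg ψ (ext' rfl (by simp [uB, pr])))⟩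
  · exact ⟨_, (k x.1.2).1, (k x.1.2).2, .inr (congrArg ψ (ext' (by simp [uB, pr, sw]) rfl))⟩

theorem ut_mul {a b : S5} (ha : Perm.sign a = Perm.sign b) (h1 : a ≠ 1) (h2 : b ≠ 1) :
    ¬ HC ψ s (ψ uB) (ψ (pr a b ha)) := fun e => by
  obtain ⟨_, _, -, e | e⟩ := h.ut e
  exacts [h2 (congrArg (·.1.2) (h.inj e)), h1 (congrArg (·.1.1) (h.inj e))]

theorem cuv : IsConj (ψ uB) (ψ vB) := ψ.map_isConj (isConj_iff.2 ⟨pr d 1, by decide +kernel⟩)

theorem cuw : IsConj (ψ uB) (ψ uB * ψ vB) :=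
  map_mul ψ uB vB ▸ ψ.map_isConj (isConj_iff.2 ⟨pr (d * d) 1, by decide +kernel⟩)

theorem pair : Pair (ψ uB) (ψ vB) :=
  ⟨h.ou, h.ord (by decide +kernel) (by decide +kernel), h.inj.ne (by decide +kernel),
    mem_Ce.1 (map_Ce (by decide +kernel))⟩

theorem n_wt : ¬ IsConj (ψ wB) (ψ τB) := fun e => by
  have hn : ¬ IsConj (ψ uB) (ψ wB) := fun f => h.n_ut (f.trans e)
  obtain ⟨g, hg⟩ := isConj_iff.1 e
  have k : ∀ x, IsConj (ψ uB) x → x ∈ Ce (ψ wB) → g * x * g⁻¹ ∈ Ce (ψ τB) ∧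
      HC ψ s (ψ uB) (g * x * g⁻¹) := fun x h1 h2 =>
    have := hg ▸ conj_mem_Ce h2 g
    ⟨this, h.hc_u hn (h.ct this) (h1.trans (isConj_iff.2 ⟨g, rfl⟩))⟩
  have c1 : ψ uB ∈ Ce (ψ wB) := map_Ce (by decide +kernel)
  have c2 : ψ vB ∈ Ce (ψ wB) := map_Ce (by decide +kernel)
  obtain ⟨a1, a2⟩ := k _ (IsConj.refl _) c1
  obtain ⟨b1, b2⟩ := k _ h.cuv c2
  obtain ⟨-, e2⟩ := k _ h.cuw (mul_mem c1 c2)
  have e3 := (h.pair.conj g).otu
  rw [← conj_mul] at e2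
  obtain ⟨a, ha, ha', ea | ea⟩ := h.ut a2 <;> obtain ⟨b, hb, hb', eb | eb⟩ := h.ut b2 <;>
    rw [ea, eb, ← map_mul] at e2 e3 <;> rw [ea] at a1 <;> rw [eb] at b1 <;>
    replace e3 := (orderOf_injective ψ h.inj _).symm.trans e3
  · exact H42.Ree.ne_one_of_two e3 (ext' (f2 a ⟨⟨ha, ha'⟩, congrArg (·.1.1) (h.comm a1)⟩ b
      ⟨⟨hb, hb'⟩, congrArg (·.1.1) (h.comm b1)⟩ (congrArg (·.1.1) (sq_of_two e3))) (mul_one _))
  · exact h.ut_mul _ (by simpa [pr] using ha'.2) (by simpa [pr] using hb'.2) e2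
  · exact h.ut_mul _ (by simpa [pr] using hb'.2) (by simpa [pr] using ha'.2) e2
  · exact H42.Ree.ne_one_of_two e3 (ext' (mul_one _) (f2 a ⟨⟨ha, ha'⟩, congrArg (·.1.2) (h.comm a1)⟩
      b ⟨⟨hb, hb'⟩, congrArg (·.1.2) (h.comm b1)⟩ (congrArg (·.1.2) (sq_of_two e3))))

theorem uft : UF {x | IsConj (ψ τB) x} (HH ψ s) :=
  UF.of_class h.ot h.ct fun g hg e => by
    rcases h.hc_of h.t3t hg h.ot e with f | f | f
    exacts [absurd (f.isConj.trans e.symm) h.n_ut, absurd (f.isConj.trans e.symm) h.n_wt, f]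

theorem cen_u (hg : g ∈ HH ψ s) (e : g ∈ Ce (ψ uB)) : ∃ x, g = ψ x ∧ x.1.1 * t = t * x.1.1 := by
  obtain ⟨x, rfl | rfl⟩ := h.cases hg
  · exact ⟨x, rfl, congrArg (·.1.1) (h.comm e)⟩
  · have h1 : _ * 1 * _ = t := congrArg (·.1.1) (h.inj ((h.cj_s x uB).symm.trans (mem_Ce'.1 e)))
    exact absurd (h1.symm.trans (by simp)) (by decide +kernel : t ≠ 1)

theorem n_uw : ¬ IsConj (ψ uB) (ψ wB) := fun e => by
  obtain ⟨g, hg⟩ := isConj_iff.1 e.symm
  have h1 : g * s * g⁻¹ ∈ Ce (ψ uB) := hg ▸ conj_mem_Ce (mem_Ce'.2 (h.cj wB)) g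
  obtain ⟨T, hT, h2⟩ := exists_isSyl_le (p := 2) (H := Ce (ψ uB)) (isPGroup_zpowers (k := 1)
    (x := ψ τB) ((sq _).trans (sq_of_two h.ot))) (zpowers_le_of_mem (map_Ce (by decide +kernel)))
  have h3 := two_le h.uft hT.isPGroup (IsConj.refl _) (mem_H _) (h2 (mem_zpowers _))
  obtain ⟨k, -, h4⟩ := hT.exists_cj_le (isPGroup_zpowers (k := 1)
    ((sq _).trans (by rw [conj_mul, h.ss]; simp))) (zpowers_le_of_mem h1)
  have h5 := h4 (conj_mem_cj (mem_zpowers _))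
  obtain ⟨x, h6, -⟩ := h.cen_u (h3 h5) (hT.le h5)
  have h7 : IsConj (ψ x) (ψ 1 * s) := by
    rw [map_one, one_mul, ← h6]
    exact ((isConj_iff.2 ⟨g, rfl⟩).trans (isConj_iff.2 ⟨k, rfl⟩)).symm
  rcases h.cl_map (x := x) (h.inj (by rw [map_mul, ← h6, conj_mul, conj_mul, h.ss]; simp))
    (fun e => h.ne_s 1 1 (by rw [e] at h7; simpa using h7)) with ⟨-, f | f⟩ | f
  exacts [h.n_s h.t3u (by decide +kernel) (f.isConj.trans h7),
    h.n_s h.t3u (by decide +kernel) (e.trans (f.isConj.trans h7)),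
    h.n_s h.t3t (by decide +kernel) (f.isConj.trans h7)]

theorem oz : orderOf (ψ zB) = 3 := h.ord (by decide +kernel) (by decide +kernel)

theorem z3 : ψ zB ^ 3 = 1 := by rw [← h.oz, pow_orderOf_eq_one]

theorem zX : ψ zB ∈ Ce (ψ uB) ⊓ Ce (ψ vB) := ⟨map_Ce (by decide +kernel), map_Ce (by decide +kernel)⟩

theorem gen {R : Subgroup G} (h1 : (Nat.card R).Coprime 3)
    (h2 : nr (Ce (ψ uB) ⊓ Ce (ψ vB)) ≤ nr R) : R ≤ HH ψ s := by
  refine h.se.gen (mem_H zB) (mem_H (pr d 1)) h.oz (h.ord (by decide +kernel) (by decide +kernel))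
    (mem_Ce.1 (map_Ce (by decide +kernel))) ?_ le_top h1 (h2 (le_normalizer h.zX)) (h2 ?_)
  · rw [mem_zp3 h.z3, ← map_inv, ← map_one ψ, h.inj.eq_iff, h.inj.eq_iff, h.inj.eq_iff]
    decide +kernel
  · refine Pair.cens_V4 (t := ψ uB) (u := ψ vB) ▸ normalizer_le_normalizer_centralizer _
      (mem_normalizer_of_cj_le ?_)
    rw [H42.Ree.cj_V4, map_cj, map_cj, show pr d 1 * uB * (pr d 1)⁻¹ = vB by decide +kernel,
      show pr d 1 * vB * (pr d 1)⁻¹ = uB * vB by decide +kernel, map_mul]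
    exact V4_le (right_mem_V4 _ _) (H42.Ree.mul_mem_V4 _ _)

theorem ft : FTHyp (Ce (ψ uB) ⊓ Ce (ψ vB)) (V4 (ψ uB) (ψ vB)) (ψ zB) := by
  have hp := h.pair
  refine ⟨le_inf (hp.V4_le_cen (left_mem_V4 _ _)) (hp.V4_le_cen (right_mem_V4 _ _)),
    fun z hz g hg => Pair.cens_V4.ge hg z hz, by rw [hp.card_V4]; decide, h.zX, h.oz,
    fun g hg e => ?_⟩
  obtain ⟨x, rfl, h1⟩ := h.cen_u (h.se.cen (mem_H zB) h.oz trivial e) hg.1
  have h2 := (f3 _ h1).2.2 (congrArg (·.1.1) (h.comm hg.2))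
  have h3 := (sg x).symm.trans h2
  rw [show x = pr x.1.1 1 (one_sg h2).symm * pr 1 x.1.2 (one_sg h3) from
    ext' (mul_one _).symm (one_mul _).symm, map_mul]
  refine mul_mem (mem_sup_left (hp.mem_V4.2 ?_)) (mem_sup_right ((mem_zp3 h.z3).2 ?_))
  · rw [← map_mul, ← map_one ψ]
    rcases (f3 _ h1).2.1 h2 with e | e | e | e
    exacts [.inl (congrArg ψ (ext' e rfl)), .inr (.inl (congrArg ψ (ext' e rfl))),
      .inr (.inr (.inl (congrArg ψ (ext' e rfl)))),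
      .inr (.inr (.inr (congrArg ψ (ext' (e.trans (by decide +kernel)) (mul_one _).symm))))]
  · rw [← map_inv, ← map_one ψ]
    rcases (f5 _).1 (congrArg (·.1.2) (h.comm (mem_Ce.2 e))) h3 with e | e | e
    exacts [.inl (congrArg ψ (ext' rfl e)), .inr (.inl (congrArg ψ (ext' rfl e))),
      .inr (.inr (congrArg ψ (ext' inv_one.symm e)))]

theorem cV : Ce (ψ uB) ⊓ Ce (ψ vB) ≤ HH ψ s := by
  let j : alternatingGroup (Fin 5) →* (Ce (ψ uB) ⊓ Ce (ψ vB) : Subgroup G) := MonoidHom.mk'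
    (fun a => ⟨ψ (pr 1 a (one_sg a.2)), map_Ce (ext' (by simp [pr]) (by simp [pr, uB])),
      map_Ce (ext' (by simp [pr]) (by simp [pr, vB]))⟩)
    fun a b => Subtype.ext ((congrArg ψ (ext' (one_mul _).symm rfl)).trans
      (map_mul ψ (pr 1 a (one_sg a.2)) (pr 1 b (one_sg b.2))))
  rcases jobFT0 G _ _ _ h.ft with ⟨N, -, -, h2, h3, -, h4⟩ | ⟨f, hf, -, h2⟩ | ⟨f, -, h1⟩
  · intro x hx
    obtain ⟨n, hn, k, -, e, rfl⟩ := h4 x hx
    exact mul_mem (h.gen h3 (fun g hg => mem_normalizer_of_cj_le (by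
      rintro _ ⟨y, hy, rfl⟩; exact h2 g hg y hy)) hn)
      (h.se _ (mem_H zB) h.oz k trivial (e.elim (·.symm ▸ mem_H _) (·.symm ▸ inv_mem (mem_H _))))
  · have k4 : ∀ n, f n = 1 → n ^ 2 ^ 2 = 1 := fun n hn => Subtype.ext (by
      have := h.pair.sq_V4 (h2 n n hn hn).1
      simpa [pow_succ, mul_assoc] using this)
    have hk : f.ker.map (Subgroup.subtype _) ≤ HH ψ s := by
      refine le_trans (le_opp (map_subtype_le _) (le_normalizer_map_subtype _) ?_)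
        (h.gen (coprime_card_opp _) (normalizer_le_normalizer_opp _))
      obtain ⟨n, hn⟩ := (IsPGroup.iff_card (G := f.ker)).1
        (isPGroup_iff_forall.2 fun n hn => ⟨2, k4 n hn⟩)
      rw [card_map_of_injective (subtype_injective _), hn]
      exact Nat.Coprime.pow_left n (by decide)
    have := alternatingGroup.isSimpleGroup (α := Fin 5) (by simp)
    have hs : Function.Surjective (f.comp j) := by
      refine Finite.injective_iff_surjective.1 ((MonoidHom.ker_eq_bot_iff _).1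
        ((f.comp j).normal_ker.eq_bot_or_eq_top.resolve_right fun e => ?_))
      have := orderOf_dvd_of_pow_eq_one (k4 _ (e.ge (mem_top ⟨d, Perm.mem_alternatingGroup.2 (by decide +kernel)⟩)))
      rw [← orderOf_coe] at this
      exact absurd (h.oz ▸ this) (by decide)
    intro x hx
    obtain ⟨a, e⟩ := hs (f ⟨x, hx⟩)
    exact (mul_mem_cancel_left (inv_mem (mem_H (pr 1 a (one_sg a.2))))).1
      (hk ⟨(j a)⁻¹ * ⟨x, hx⟩, by simp [MonoidHom.mem_ker, ← e], rfl⟩)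
  · have := Fact.mk (show Nat.Prime 7 by norm_num)
    let a : alternatingGroup (Fin 5) := ⟨c * v, Perm.mem_alternatingGroup.2 (by decide +kernel)⟩
    have h4 := (_root_.orderOf_dvd_natCard (f (j a))).trans (H61.card_psl_dvd (F := ZMod 7))
    rw [Nat.card_zmod] at h4
    have h2 : f (j a) = 1 := orderOf_eq_one_iff.1 (Nat.eq_one_of_dvd_coprimes
      (by decide) (orderOf_dvd_of_pow_eq_one (n := 5) (by
        rw [← map_pow, ← map_pow, show a ^ 5 = 1 by decide +kernel, map_one, map_one])) h4)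
    have h3 := h.pair.sq_V4 ((h1 _).1 h2)
    exact absurd (h.inj ((map_mul ψ _ _).trans (h3.trans (map_one ψ).symm))) (by decide +kernel)

theorem nV (h1 : g * ψ uB * g⁻¹ ∈ V4 (ψ uB) (ψ vB)) (h2 : g * ψ vB * g⁻¹ ∈ V4 (ψ uB) (ψ vB)) :
    g ∈ HH ψ s :=
  h.se _ (mem_H zB) h.oz g trivial (h.cV (Pair.cens_V4.le (conj_mem_of_mem_normalizer
    (normalizer_le_normalizer_centralizer _ (mem_normalizer_of_cj_le
      (by rw [H42.Ree.cj_V4]; exact V4_le h1 h2))) (Pair.cens_V4.ge h.zX))))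

theorem nV' (hg : g ∈ Ce (ψ uB)) (e : g * ψ vB * g⁻¹ = ψ vB ∨ g * ψ vB * g⁻¹ = ψ vB * ψ uB) :
    g ∈ HH ψ s :=
  h.nV ((mem_Ce'.1 hg).symm ▸ left_mem_V4 _ _) (e.elim (·.symm ▸ right_mem_V4 _ _)
    (·.symm ▸ mul_mem (right_mem_V4 _ _) (left_mem_V4 _ _)))

theorem odd_bot {N : Subgroup G} (h1 : N ≤ Ce (ψ uB)) (h2 : Ce (ψ uB) ≤ nr N)
    (h3 : Odd (Nat.card N)) : N = ⊥ := by
  have od : ∀ x ∈ N, x * x = 1 → x = 1 := fun x hx =>
    H42.Ree.eq_one_of_odd_of_sq (H42.Ree.odd_orderOf_of_mem h3 hx)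
  have nn : ∀ (a : S5) (ha : Perm.sign a = 1), ψ (pr 1 a (one_sg ha)) ∈ nr N := fun a ha =>
    h2 (map_Ce (ext' (by simp [pr]) (by simp [pr, uB])))
  have h5 : ∀ x ∈ N, x ∈ HH ψ s → x = 1 := fun x hx hH => by
    obtain ⟨y, rfl, e⟩ := h.cen_u hH (h1 hx)
    have o := H42.Ree.odd_orderOf_of_mem h3 hx
    rw [orderOf_injective ψ h.inj] at o
    have e1 : y.1.1 = 1 := orderOf_eq_one_iff.1 (Nat.eq_one_of_dvd_coprimes
      ((Nat.coprime_two_left.2 o).pow_left 2) (orderOf_dvd_of_pow_eq_one (f3 _ e).1)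
      (orderOf_dvd_of_pow_eq_one (congrArg (·.1.1) (pow_orderOf_eq_one y))))
    by_contra h0
    obtain ⟨a, ha, n, -, e2, e3⟩ := f4 y.1.2 (by rw [← sg, e1, map_one])
      fun e => h0 (by rw [ext' (y := 1) e1 e, map_one])
    have h4 := mul_mem hx (conj_mem_of_mem_normalizer (nn a ha) (pow_mem hx n))
    rw [← map_pow, map_cj, ← map_mul] at h4
    refine e3 (congrArg (·.1.2) (h.inj ((od _ h4 ?_).trans (map_one ψ).symm)))
    rw [← map_mul, ← map_one ψ]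
    exact congrArg ψ (ext' (by simp [pr, e1]) e2)
  have cm : ∀ x ∈ N, ∀ y ∈ N, x * y = y * x := fun x hx y hy => H42.Ree.comm_of_inv
    (fun y hy => H42.Ree.inv_of_fpf (sq_of_two h.pair.ou) (h2 (mem_Ce.2 h.pair.comm.symm))
      (eq_bot_iff.2 fun x hx => h5 x hx.1 (h.cV ⟨h1 hx.1, hx.2⟩)) hy) hx hy
  refine H19.A8.a4_bot od cm (nn d (by decide +kernel)) (nn t (by decide +kernel))
    (by rw [← pow_three']; exact h.z3) ?_ ?_ ?_
    (fun x hx e => h5 x hx (h.se.cen (mem_H zB) h.oz trivial (mem_Ce.1 e))) fun x hx e f => ?_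
  iterate 3
    simp only [← map_mul, ← map_inv, ← map_one ψ]
    exact congrArg ψ (by decide +kernel)
  refine h5 x hx ((mul_mem_cancel_left s_mem).1 ((mul_mem_cancel_right (inv_mem s_mem)).1
    (h.cV ⟨?_, ?_⟩)))
  · exact (h.cj _ ▸ conj_mem_Ce e s :)
  · rw [map_cj] at f
    have := h.cj _ ▸ conj_mem_Ce f s
    rwa [show sw _ = vB by decide +kernel] at this

theorem cU : Ce (ψ uB) ≤ HH ψ s := fun g hg => by
  have hp := h.pair
  obtain ⟨O, h1, h2, h3, h4⟩ := H59.zstar_mod (B := Ce (ψ uB)) (sq_of_two hp.ot)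
    (mem_Ce.2 rfl) (fun g hg => (mem_Ce.1 hg).symm) (sq_of_two hp.ou)
    (mem_Ce.2 hp.comm.symm) (H42.Ree.ne_one_of_two hp.ou) hp.ne.symm fun g hg e => by
      have k1 : g * ψ vB * g⁻¹ ∈ Ce (ψ uB) :=
        mul_mem (mul_mem hg (mem_Ce.2 hp.comm.symm)) (inv_mem hg)
      have k2 := h.nV' k1 e
      have k3 := h.hc_u h.n_uw (mul_mem (mem_H uB) k2) (h.cuw.trans (isConj_iff.2 ⟨g, by
        rw [← conj_mul, mem_Ce'.1 hg]⟩))
      obtain ⟨a, ha, ⟨-, a1⟩, ea | ea⟩ :=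
        h.ut (h.hc_u h.n_uw k2 (h.cuv.trans (isConj_iff.2 ⟨g, rfl⟩))) <;>
        rw [ea] at k1 k3 ⊢ <;> rw [← map_mul] at k3
      · rcases (f3 a (congrArg (·.1.1) (h.comm k1))).2.1 ha with rfl | rfl | rfl | rfl
        · exact absurd rfl a1
        · have : IsConj (ψ uB) (ψ (uB * uB)) := k3.isConj
          rw [show uB * uB = 1 by decide +kernel, map_one, isConj_one_left] at this
          exact absurd this (H42.Ree.ne_one_of_two hp.ot)
        · exact .inl rfl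
        · exact .inr ((congrArg ψ (ext' rfl (mul_one _).symm)).trans (map_mul ψ vB uB))
      · exact absurd k3 (h.ut_mul _ (by decide +kernel : t * 1 ≠ 1) (by simpa [uB, pr] using a1))
  obtain ⟨k, hk, o, ho, rfl, e⟩ := h4 g hg
  refine mul_mem (h.nV' hk e) (zs_le (sq_of_two hp.ot) h1 h3 (mem_H _) ?_ ho)
  rw [h.odd_bot ((opp_le O).trans h1) (nor_opp h2) (H10.W.odd_card_opp O)]
  exact bot_le

theorem ufu : UF {x | IsConj (ψ uB) x} (HH ψ s) :=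
  UF.of_class h.ou h.cU fun _ hg e => h.hc_u h.n_uw hg e

theorem cW : Ce (ψ wB) ≤ HH ψ s := fun g hg => by
  have hp := h.pair
  have c1 : ψ uB ∈ Ce (ψ wB) := map_Ce (by decide +kernel)
  have c2 : ψ vB ∈ Ce (ψ wB) := map_Ce (by decide +kernel)
  have k0 : ∀ g, g * ψ uB * g⁻¹ = ψ uB ∨ g * ψ uB * g⁻¹ = ψ uB * ψ wB → g ∈ HH ψ s := fun g e =>
    h.ufu.uniq _ (IsConj.refl _) (mem_H _) g
      (e.elim (·.symm ▸ mem_H _) (·.symm ▸ mul_mem (mem_H _) (mem_H _)))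
  obtain ⟨O, h1, h2, h3, h4⟩ := H59.zstar_mod (B := Ce (ψ wB)) (sq_of_two h.ow)
    (mem_Ce.2 rfl) (fun g hg => (mem_Ce.1 hg).symm) (sq_of_two hp.ot) c1
    (H42.Ree.ne_one_of_two hp.ot) (h.inj.ne (by decide +kernel)) fun g hg e => by
      obtain ⟨x, rfl | rfl⟩ := h.cases (h.ufu.uniq _ (IsConj.refl _) (mem_H _) g (k0 _ e))
      · have := h.comm hg
        exact .inl (mem_Ce'.1 (map_Ce (ext' (congrArg (·.1.1) this) (by simp [uB, pr]))))
      · have : x.1.2 * t * x.1.2⁻¹ = t :=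
          congrArg (·.1.2) (h.inj ((h.cj_s x wB).symm.trans (mem_Ce'.1 hg)))
        refine .inr ((h.cj_s x uB).trans ((congrArg ψ (ext' ?_ ?_)).trans (map_mul ψ _ _)))
        · exact (by simp : x.1.1 * 1 * x.1.1⁻¹ = 1).trans (by decide +kernel)
        · exact this.trans (one_mul _).symm
  obtain ⟨k, -, o, ho, rfl, e⟩ := h4 g hg
  exact mul_mem (k0 k e) (zs_le (sq_of_two h.ow) h1 h3 (mem_H _)
    (hp.le_of_cen (H10.W.odd_card_opp O) (nor_opp h2 c1) (nor_opp h2 c2) (inf_le_right.trans h.cU)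
      (inf_le_right.trans (h.ufu.cent_le h.cuv (mem_H _)))
      (inf_le_right.trans (h.ufu.cent_le h.cuw (mul_mem (mem_H _) (mem_H _))))) ho)

theorem hc_w (hg : g ∈ HH ψ s) (e : IsConj (ψ wB) g) : HC ψ s (ψ wB) g := by
  have k : ∀ y : B, pr c c * y = y * pr c c → ¬ IsConj (ψ y * s) (ψ wB) := fun y hy f => by
    obtain ⟨k, hk⟩ := isConj_iff.1 f
    obtain ⟨z, h1, h2, h3⟩ := h.t3s hy
    obtain ⟨x, h4, -⟩ := h.hc_s ⟨k, h.se z h1 h2 k trivial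
      (h.cW (hk ▸ conj_mem_Ce (mem_Ce.2 h3) k)), hk⟩
    exact h.ne_s _ _ h4
  obtain ⟨a, rfl⟩ := isConj_iff.1 e
  rcases h.cl hg ((H42.Ree.orderOf_conj _ _).trans h.ow) with f | f | f | f | f
  exacts [absurd (f.isConj.trans e.symm) h.n_uw, f, absurd (e.trans f.isConj.symm) h.n_wt,
    absurd (f.isConj.trans e.symm) (k _ (by decide +kernel)),
    absurd (f.isConj.trans e.symm) (k _ (by decide +kernel))]

theorem top : HH ψ s = ⊤ := by
  rcases (h.ufu.union (UF.of_class h.ow h.cW fun _ hg e => h.hc_w hg e)).key' (K := ⊤) (W := ⊥)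
    bot_le (fun k _ w hw => by simp [mem_bot.1 hw]) (.inl (IsConj.refl _)) (mem_H _) trivial
    (fun y hy _ h2 _ e => ⟨1, one_mem _, by
      have h3 := mul_mem (mem_H uB) hy
      obtain ⟨x, e1, e2⟩ : ∃ x, ψ uB * y = ψ x ∧ Perm.sign x.1.1 = 1 := by
        rcases e with e | e
        · exact (h.hc_sg (h.hc_u h.n_uw h3 e)).imp fun x f => ⟨f.1, f.2.trans (by decide +kernel)⟩
        · exact (h.hc_sg (h.hc_w h3 e)).imp fun x f => ⟨f.1, f.2.trans (by decide +kernel)⟩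
      obtain rfl : y = ψ (uB⁻¹ * x) := by rw [map_mul, map_inv, ← e1, inv_mul_cancel_left]
      rw [mul_one]
      rcases h.cl_map (h.inj (by rw [map_mul, sq_of_two h2, map_one]))
        (fun e => H42.Ree.ne_one_of_two h2 (by rw [e, map_one])) with ⟨-, f | f⟩ | f
      · exact .inl f.isConj
      · exact .inr f.isConj
      · obtain ⟨z, e3, e4⟩ := h.hc_sg f
        rw [← h.inj e3] at e4
        have : Perm.sign (t⁻¹ * x.1.1) = Perm.sign r := e4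
        rw [map_mul, e2] at this
        exact absurd this (by decide +kernel)⟩) with e | ⟨Y, -, -, -, e⟩
  · exact top_le_iff.1 e
  · obtain ⟨y, -, e⟩ := e _ (.inr (IsConj.refl _)) (mem_H _) trivial
    exact absurd (isConj_iff.2 ⟨y, e⟩) h.n_uw

end Q

end H91.S8
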