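/- S3330, case II with `C(τ) = N(D)`. -/
import Cfsg.Agent.H91.S8Q
import Cfsg.Agent.H19.S8B

set_option autoImplicit false
set_option synthInstance.maxSize 5000
set_option linter.unusedSectionVars false

namespace H91.S8

open Cfsg Subgroup H98 H14 H56.L3 H42.L3 Equiv H19.S8
open H42.Ree (Pair two_of_sq)
open H19.A8 (Ce_symm)

universe u

variable {G : Type u} [Group G] [Finite G] {l : S5 →* G} {φ : L →* G} {s : G}

theorem a5_gen {M : Subgroup S5} (h1 : c ∈ M) (h2 : t ∈ M) (h3 : v ∈ M) {a : S5}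
    (ha : Perm.sign a = 1) : a ∈ M := by
  have m : ∀ x ∈ M, Perm.sign x = 1 → x ∈ M ⊓ alternatingGroup (Fin 5) := fun x hx e => ⟨hx, e⟩
  have := Fact.mk Nat.prime_five
  have d3 := orderOf_eq_prime (p := 3) (x := c) (by decide +kernel) (by decide +kernel) ▸
    orderOf_dvd_natCard _ (m c h1 (by decide +kernel))
  have d5 := orderOf_eq_prime (p := 5) (x := c * v) (by decide +kernel) (by decide +kernel) ▸
    orderOf_dvd_natCard _ (m _ (mul_mem h1 h3) (by decide +kernel))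
  have d4 := Pair.four_dvd (t := t) (u := v) ⟨two_of_sq (by decide +kernel) (by decide +kernel),
    two_of_sq (by decide +kernel) (by decide +kernel), by decide +kernel, by decide +kernel⟩
    (m t h2 (by decide +kernel)) (m v h3 (by decide +kernel))
  have c60 : Nat.card (alternatingGroup (Fin 5)) = 60 := by
    rw [nat_card_alternatingGroup]; simp [Nat.factorial]
  exact ((eq_of_le_of_card_ge inf_le_right (c60.trans_le (Nat.le_of_dvd Nat.card_pos
    (Nat.Coprime.mul_dvd_of_dvd_of_dvd (m := 12) (n := 5) (by decide)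
      (Nat.Coprime.mul_dvd_of_dvd_of_dvd (m := 3) (n := 4) (by decide) d3 d4) d5)))).ge
    (Perm.mem_alternatingGroup.2 ha)).1

/-- `1` or `(0 1)`, with the sign of `a` -/
def δ (a : S5) : S5 := if Perm.sign a = 1 then 1 else r

theorem δ_all : ∀ a : S5, Perm.sign (δ a) = Perm.sign a ∧ δ a * δ a = 1 ∧ (δ a = 1 ∨ δ a = r) := by
  decide +kernel

theorem δ_mul (a b : S5) : δ (a * b) = δ b * δ a := by
  rcases Int.units_eq_one_or (Perm.sign a) with e | e <;>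
    rcases Int.units_eq_one_or (Perm.sign b) with e' | e' <;> simp [δ, e, e'] <;> decide +kernel

theorem sg_δ {a b : S5} (h : Perm.sign a = Perm.sign b) : Perm.sign (δ a * b) = 1 := by
  rw [map_mul, (δ_all a).1, h, Int.units_mul_self]

section Two

variable (h : Two l s)
include h

theorem l_δ (a : S5) : s * l (δ a) * s⁻¹ = l (δ a) := by
  rcases (δ_all a).2.2 with e | e <;> rw [e]
  · simp
  · exact mul_inv_eq_iff_eq_mul.2 h.st

theorem key {e : S5} (he : Perm.sign e = 1) (a : S5) :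
    s * l e * s⁻¹ * l a = l a * (s * l (δ a * e * δ a) * s⁻¹) := by
  have h1 := (δ_all a).2.1
  have h2 : l a = l (a * δ a) * l (δ a) := by rw [← map_mul, mul_assoc, h1, mul_one]
  have h3 := h.comm (a * δ a) e (by rw [map_mul, (δ_all a).1, Int.units_mul_self]) he
  rw [h2, ← mul_assoc, ← h3, mul_assoc, mul_assoc (l (a * δ a)), ← l_δ h a, conj_mul, conj_mul,
    ← map_mul, ← map_mul, ← mul_assoc (δ a), ← mul_assoc (δ a), h1, one_mul]

/-- the homomorphism onto `(L₁ × L₂)⟨τ⟩` -/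
def psi : B →* G := MonoidHom.mk' (fun x => l x.1.1 * (s * l (δ x.1.1 * x.1.2) * s⁻¹)) fun x y => by
  change l (x.1.1 * y.1.1) * (s * l (δ (x.1.1 * y.1.1) * (x.1.2 * y.1.2)) * s⁻¹) = _
  rw [mul_assoc (l x.1.1), ← mul_assoc _ (l y.1.1), key h (sg_δ (sg x)), mul_assoc (l y.1.1),
    conj_mul, ← map_mul, ← mul_assoc (l x.1.1), ← map_mul, δ_mul, mul_assoc _ (δ y.1.1),
    ← mul_assoc (δ y.1.1) (δ y.1.1), (δ_all _).2.1, one_mul, mul_assoc (δ y.1.1),
    mul_assoc (δ y.1.1), mul_assoc (δ x.1.1)]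

theorem psi_apply (x : B) : psi h x = l x.1.1 * (s * l (δ x.1.1 * x.1.2) * s⁻¹) := rfl

theorem psi_l (a : S5) : psi h (pr a (δ a) (δ_all a).1.symm) = l a := by
  simp [psi_apply, pr, (δ_all a).2.1]

theorem psi_cj (x : B) : s * psi h x * s⁻¹ = psi h (sw x) := by
  have e : δ x.1.2 = δ x.1.1 := by rw [δ, δ, sg]
  have h1 := (δ_all x.1.1).2.1
  have h2 := key h (e := x.1.1 * δ x.1.1) (by rw [map_mul, (δ_all _).1, Int.units_mul_self]) x.1.2
  rw [e, mul_assoc (δ x.1.1), mul_assoc x.1.1, h1, mul_one] at h2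
  change _ = l x.1.2 * (s * l (δ x.1.2 * x.1.1) * s⁻¹)
  have h3 : ∀ g, s * (s * g * s⁻¹) * s⁻¹ = g := fun g => by
    rw [← mul_assoc, ← mul_assoc, h.ss, one_mul, mul_assoc, ← mul_inv_rev, h.ss, inv_one, mul_one]
  rw [e, ← h2, psi_apply, ← conj_mul, h3, map_mul l x.1.1, ← conj_mul (b := s) (a := l x.1.1),
    l_δ h, map_mul, mul_assoc _ (l (δ x.1.1))]

theorem psi_inj : Function.Injective (psi h) := by
  refine (injective_iff_map_eq_one _).2 fun x e => ?_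
  have k : ∀ a, Perm.sign a = 1 → x.1.1 * a = a * x.1.1 := fun a ha => h.inj (by
    rw [map_mul, map_mul, eq_inv_of_mul_eq_one_left e]
    exact (Commute.inv_right (h.comm a _ ha (sg_δ (sg x)))).symm)
  have h1 := (f5 _).2 (k c (by decide +kernel)) (k v (by decide +kernel))
  rw [psi_apply, h1, map_one, one_mul, conj_eq_one_iff, δ, if_pos (map_one _), one_mul] at e
  exact ext' h1 (h.inj (e.trans (map_one l).symm))

end Two

theorem l_cases : ∀ k : L, k * τ0 = τ0 * k → k * t0 = t0 * k → k * (τ0 * t6) = τ0 * t6 * k →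
    (1, v) * k * (1, v) * k = 1 → k = 1 ∨ k = t0 ∨ k = τ0 * t6 ∨ k = t0 * (τ0 * t6) := by
  have k1 : ∀ a : Perm (Fin 3), a * swap 0 1 = swap 0 1 * a → a = 1 ∨ a = swap 0 1 := by
    decide +kernel
  have k2 : ∀ a : S5, a * r = r * a → a * t = t * a → v * a * v * a = 1 → a = 1 ∨ a = t := by
    decide +kernel
  rintro ⟨a, b⟩ h1 h2 h3 h4
  rcases k1 a (congrArg Prod.fst h2) with rfl | rfl <;>
    rcases k2 b (congrArg Prod.snd h1) (congrArg Prod.snd h3) (congrArg Prod.snd h4) with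
      rfl | rfl <;> decide +kernel

section II

variable (h : Hyp φ s) (h1 : s * φ t0 * s⁻¹ = φ (τ0 * t6)) (h2 : Ce (φ τ0) ≤ nr (DD φ))
include h h1 h2

theorem v_comm : s * φ (1, v) * s⁻¹ ∈ Ce (φ (1, v)) := by
  obtain ⟨x, hx⟩ : ∃ x, x = φ (1, v) := ⟨_, rfl⟩
  obtain ⟨y, hy⟩ : ∃ y, y = s * φ (1, v) * s⁻¹ := ⟨_, rfl⟩
  have h3 := h.swap h1
  have h4 := mem_Ce'.1 h.st
  have x2 : x * x = 1 := hx ▸ map_sq (by decide +kernel)
  have y2 : y * y = 1 := by rw [hy, conj_mul, ← hx, x2]; simp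
  have xi := inv_eq_of_mul_eq_one_right x2
  have yi := inv_eq_of_mul_eq_one_right y2
  have a : ∀ p q : L, (1, v) * p * (1, v)⁻¹ = q → x * φ p * x⁻¹ = φ q := fun p q e => by
    rw [hx, map_conj, e]
  have b : ∀ p q p' q' : G, x * p * x⁻¹ = q → s * p * s⁻¹ = p' → s * q * s⁻¹ = q' →
      y * p' * y⁻¹ = q' := fun p q p' q' e e1 e2 => by rw [hy, ← hx, ← e1, ← e2, ← e]; group
  have y1 : y * φ τ0 * y⁻¹ = φ (τ0 * t0) := b _ _ _ _ (a τ0 (τ0 * (τ0 * t6)) (by decide +kernel)) h4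
    (by rw [map_mul φ τ0 (τ0 * t6), ← conj_mul, h4, h3, map_mul])
  have y3 : y * φ t0 * y⁻¹ = φ t0 := b _ _ _ _ (a _ _ (by decide +kernel)) h3 h3
  have y4 : y * φ (τ0 * t6) * y⁻¹ = φ (τ0 * t6) := b _ _ _ _ (a _ _ (by decide +kernel)) h1 h1
  have y5 : y * φ z1 * y⁻¹ = φ z1 := b _ _ _ _ (a _ _ (by decide +kernel)) h.sz h.sz
  have cj : ∀ p q1 q2 q3 q4 : G, x * p * x⁻¹ = q1 → y * q1 * y⁻¹ = q2 → x * q2 * x⁻¹ = q3 →
      y * q3 * y⁻¹ = q4 → y * x * y * x * p * (y * x * y * x)⁻¹ = q4 := by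
    rintro p _ _ _ _ rfl rfl rfl rfl; group
  have c1 := cj _ _ (φ (τ0 * t0 * (τ0 * t6))) _ (φ τ0) (a τ0 (τ0 * (τ0 * t6)) (by decide +kernel))
    (by rw [map_mul φ τ0 (τ0 * t6), ← conj_mul, y1, y4, ← map_mul])
    (a _ (τ0 * t0) (by decide +kernel)) (by
      rw [map_mul, ← conj_mul, y1, y3, ← map_mul]; exact congrArg φ (by decide +kernel))
  have c2 := cj _ _ _ _ _ (a t0 t0 (by decide +kernel)) y3 (a t0 t0 (by decide +kernel)) y3
  have c3 := cj _ _ _ _ _ (a (τ0 * t6) _ (by decide +kernel)) y4 (a _ _ (by decide +kernel)) y4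
  rcases h.nD _ (h2 (mem_Ce'.2 c1)) with ⟨k, hk⟩ | ⟨k, hk⟩
  swap
  · have : φ k * φ (τ0 * t6) * (φ k)⁻¹ = φ t0 := by rw [hk, ← c2, ← h3]; group
    rw [map_conj] at this
    have e : k.1 * (1 * 1) * k.1⁻¹ = swap 0 1 := congrArg Prod.fst (h.inj this)
    exact absurd (e.symm.trans (by simp)) (by decide +kernel : swap (0 : Fin 3) 1 ≠ 1)
  rw [← hk] at c1 c2 c3
  have c4 : x * φ k * x * φ k = 1 := by
    rw [hk]
    calc _ = x * y * x * y * (x * x) * y * x * y * x := by group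
      _ = x * y * x * (y * y) * x * y * x := by rw [x2]; group
      _ = x * y * (x * x) * y * x := by rw [y2]; group
      _ = x * (y * y) * x := by rw [x2]; group
      _ = 1 := by rw [y2, mul_one, x2]
  have c5 : s * φ k * s⁻¹ = (φ k)⁻¹ := by
    rw [hk, ← conj_mul, ← conj_mul, ← conj_mul, h.swap (hx ▸ hy.symm), hx, ← hy, ← hx]
    simp only [mul_inv_rev, xi, yi, mul_assoc]
  rw [← hy, ← hx]
  rcases l_cases k (h.comm (mem_Ce'.2 c1)) (h.comm (mem_Ce'.2 c2)) (h.comm (mem_Ce'.2 c3))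
    (h.inj (by rw [map_mul, map_mul, map_mul, ← hx, c4, map_one])) with rfl | rfl | rfl | rfl
  · rw [map_one, mul_assoc (y * x), eq_comm, mul_eq_one_iff_eq_inv, mul_inv_rev, xi, yi] at hk
    exact mem_Ce.2 hk
  · rw [h1, ← map_inv] at c5
    exact absurd (h.inj c5) (by decide +kernel)
  · rw [h3, ← map_inv] at c5
    exact absurd (h.inj c5) (by decide +kernel)
  · have e1 : y * x * y⁻¹ = φ (t0 * (τ0 * t6)) * x := by rw [hk, yi, mul_assoc _ x x, x2, mul_one]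
    have e2 : y * φ (τ0 * (z1 * (1, v)) * τ0⁻¹) * y⁻¹ = φ (z1 * t0 * (1, v)) := by
      rw [show τ0 * (z1 * (1, v)) * τ0⁻¹ = z1 * (τ0 * t6) * (1, v) by decide +kernel, map_mul,
        map_mul φ z1, ← conj_mul, ← conj_mul, y5, y4, ← hx, e1, hx, ← map_mul, ← map_mul, ← map_mul]
      exact congrArg φ (by decide +kernel)
    have e3 := congrArg (· ^ 5) e2
    simp only [conj_pow, ← map_pow φ] at e3
    rw [show (z1 * (1, v)) ^ 5 = 1 by decide +kernel] at e3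
    exact absurd (h.inj ((by simp : φ 1 = _).trans e3)) (by decide +kernel)

theorem two : Two (φ.comp (MonoidHom.inr _ _)) s := by
  refine ⟨h.inj.comp (fun a b e => congrArg Prod.snd e), h.ss, mem_Ce.1 h.st, fun a b ha hb => ?_⟩
  refine (mem_Ce.1 (a5_gen (M := (Ce (φ (1, a))).comap ((MulAut.conj s).toMonoidHom.comp
    (φ.comp (MonoidHom.inr _ _)))) ?_ ?_ ?_ hb)).symm
  · change s * φ z1 * s⁻¹ ∈ Ce _
    rw [h.sz']
    exact map_mem_Ce (Prod.ext (by simp) (by simp [z0]))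
  · change s * φ (τ0 * t6) * s⁻¹ ∈ Ce _
    rw [h.swap h1]
    exact map_mem_Ce (Prod.ext (by simp) (by simp [t0]))
  · refine Ce_symm (a5_gen (M := (Ce (s * φ (1, v) * s⁻¹)).comap (φ.comp (MonoidHom.inr _ _)))
      ?_ ?_ (Ce_symm (v_comm h h1 h2)) ha)
    · change φ z1 ∈ Ce _
      rw [← h.sz]
      exact conj_mem_Ce (map_mem_Ce (by decide +kernel)) s
    · change φ (τ0 * t6) ∈ Ce _
      rw [← h1]
      exact conj_mem_Ce (map_mem_Ce (by decide +kernel)) s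

end II

theorem jobII (hF : JobFin.{u}) : JobII.{u} := by
  intro G _ _ φ s h h1 h2
  have T := two h h1 h2
  have h3 : φ.range ≤ HH (psi T) s := by
    rintro _ ⟨⟨σ, a⟩, rfl⟩
    have k : ∀ b : S5, φ (1, b) ∈ HH (psi T) s := fun b => psi_l T b ▸ mem_H _
    have k' : ∀ b : S5, s * φ (1, b) * s⁻¹ ∈ HH (psi T) s := fun b =>
      mul_mem (mul_mem s_mem (k b)) (inv_mem s_mem)
    have kz : φ z0 ∈ HH (psi T) s := h.sz' ▸ k' c
    have kt : φ t0 ∈ HH (psi T) s := h.swap h1 ▸ k' t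
    have : ∀ σ : Perm (Fin 3), ∃ i ∈ [0, 1], ∃ j ∈ [0, 1, 2], ((σ, 1) : L) = t0 ^ i * z0 ^ j := by
      decide +kernel
    obtain ⟨i, -, j, -, e⟩ := this σ
    rw [show ((σ, a) : L) = (σ, 1) * (1, a) by simp, map_mul, e, map_mul, map_pow, map_pow]
    exact mul_mem (mul_mem (pow_mem kt i) (pow_mem kz j)) (k a)
  have hQ : Q (psi T) s := ⟨psi_inj T, h.ss, psi_cj T, h.se h3 s_mem,
    (congrArg Ce (psi_l T r)).le.trans (h2.trans (h.nr_le_of h3 s_mem))⟩
  refine hF G _ s T (top_le_iff.1 (hQ.top.ge.trans (sup_le ?_ le_sup_right)))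
  rintro _ ⟨x, rfl⟩
  exact mul_mem (mem_sup_left ⟨_, rfl⟩) (mul_mem (mul_mem (mem_sup_right (mem_zpowers s))
    (mem_sup_left ⟨_, rfl⟩)) (inv_mem (mem_sup_right (mem_zpowers s))))

end H91.S8
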