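import Cfsg.Agent.Base

/-! CL3 tower (row S3621): the 3-closure of a solvable permutation group is solvable.
Common definitions, the interface `JobPiece` to chapter 3, and the `SolMod` kit.
Notes: `blueprints/CL3.md`. -/

set_option autoImplicit false
set_option linter.unusedSectionVars false

namespace H91.CL

open Subgroup
open scoped commutatorElement

/-- All elements of some term of the derived series of `H` have the property `P`. -/
def SolMod (H : Type) [Group H] (P : H → Prop) : Prop := ∃ n, ∀ h ∈ derivedSeries H n, P h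

/-- The group of permutations induced by `H` on `Ω` is solvable. -/
abbrev SolOn (H Ω : Type) [Group H] [MulAction H Ω] : Prop := SolMod H fun h => ∀ x : Ω, h • x = x

/-- `H` agrees with `G` on triples. -/
def C3 (G H Ω : Type) [Group G] [Group H] [MulAction G Ω] [MulAction H Ω] : Prop :=
  ∀ (h : H) (a b c : Ω), ∃ g : G, h • a = g • a ∧ h • b = g • b ∧ h • c = g • c

/-- The permutation statement for sets with fewer than `n` points. -/
def PP (n : ℕ) : Prop := ∀ (Ω G H : Type) [Finite Ω] [Group G] [Finite G] [Group H] [Finite H]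
  [MulAction G Ω] [MulAction H Ω], Nat.card Ω < n → Group.IsSolvable G → C3 G H Ω → SolOn H Ω

/-- `H` agrees with `G` on pairs of cyclic subgroups of `V`. -/
def PC (G H V : Type) [Group G] [Group H] [AddCommGroup V] [DistribMulAction G V]
    [DistribMulAction H V] : Prop :=
  ∀ (h : H) (u v : V), ∃ (g : G) (a b : ℤ), h • u = a • g • u ∧ h • v = b • g • v

/-- The linear statement for abelian groups with fewer than `n` elements. -/
def LL (n : ℕ) : Prop := ∀ (V G H : Type) [AddCommGroup V] [Finite V] [Group G] [Finite G]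
  [Group H] [Finite H] [DistribMulAction G V] [DistribMulAction H V],
  Nat.card V < n → Group.IsSolvable G → PC G H V → SolOn H V

section K

variable (K V : Type) {Γ : Type} [Field K] [AddCommGroup V] [Module K V] [Group Γ]
  [DistribMulAction Γ V]

/-- `γ` is `K`-linear. -/
def Lin (γ : Γ) : Prop := ∀ (a : K) (v : V), γ • a • v = a • γ • v

/-- `γ` is `K`-semilinear. -/
def Semi (γ : Γ) : Prop := ∃ σ : K ≃+* K, ∀ (a : K) (v : V), γ • a • v = σ a • γ • v

variable {K}

/-- The semilinear setting: `sc` are the scalars, `G` is solvable, `H` agrees with `G` on pairs of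
points. -/
structure KS (sc : Kˣ →* Γ) (G H : Subgroup Γ) : Prop where
  hsc : ∀ (a : Kˣ) (v : V), sc a • v = (a : K) • v
  sol : Group.IsSolvable G
  le : G ≤ H
  scG : sc.range ≤ G
  semi : ∀ h ∈ H, Semi K V h
  pc : ∀ h ∈ H, ∀ u v : V, ∃ g ∈ G, ∃ a b : K, h • u = a • g • u ∧ h • v = b • g • v

/-- One piece: `E / Kˣ` is a `G`-irreducible elementary abelian group and `Z(E) = Kˣ`. -/
structure Piece (sc : Kˣ →* Γ) (G E : Subgroup Γ) : Prop where
  le : E ≤ G
  nor : G ≤ normalizer (E : Set Γ)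
  sc_le : sc.range ≤ E
  ne : ¬ E ≤ sc.range
  lin : ∀ x ∈ E, Lin K V x
  comm : ∀ x ∈ E, ∀ y ∈ E, ⁅x, y⁆ ∈ sc.range
  cen : ∀ x ∈ E, (∀ y ∈ E, x * y = y * x) → x ∈ sc.range
  exp : ∃ r : ℕ, r.Prime ∧ ∀ x ∈ E, x ^ r ∈ sc.range
  irr : ∀ T : Subgroup Γ, sc.range ≤ T → T ≤ E → G ≤ normalizer (T : Set Γ) → T = sc.range ∨ T = E

end K

/-- A statement in the semilinear setting. -/
def AllK (P : ∀ (K V Γ : Type) [Field K] [AddCommGroup V] [Module K V] [Group Γ]
    [DistribMulAction Γ V], (Kˣ →* Γ) → Subgroup Γ → Subgroup Γ → Prop) : Prop :=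
  ∀ (K V Γ : Type) [Field K] [Finite K] [AddCommGroup V] [Module K V] [Finite V] [Nontrivial V]
    [Group Γ] [Finite Γ] [DistribMulAction Γ V] [FaithfulSMul Γ V] (sc : Kˣ →* Γ)
    (G H : Subgroup Γ), KS V sc G H → P K V Γ sc G H

/-- Chapter 3: `H` is solvable modulo the elements that act trivially on `E / Kˣ`. -/
def JobPiece : Prop := AllK fun _ V Γ _ _ _ _ _ sc G H => LL (Nat.card V) →
  ∀ E : Subgroup Γ, Piece V sc G E → SolMod H fun h => ∀ x ∈ E, ⁅(h : Γ), x⁆ ∈ sc.range

/-! ### Kit -/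

section Kit

variable {H H' : Type} [Group H] [Group H'] {P Q : H → Prop}

theorem ds_anti {m n : ℕ} (h : m ≤ n) : derivedSeries H n ≤ derivedSeries H m := by
  induction h with
  | refl => exact le_rfl
  | step _ ih => exact (commutator_le_left _ _).trans ih

theorem SolMod.of_forall (h : ∀ a, P a) : SolMod H P := ⟨0, fun a _ => h a⟩

theorem SolMod.mono (h : SolMod H P) (hPQ : ∀ a, P a → Q a) : SolMod H Q :=
  h.imp fun _ k a ha => hPQ a (k a ha)

theorem SolMod.and (h : SolMod H P) (h' : SolMod H Q) : SolMod H fun a => P a ∧ Q a := by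
  obtain ⟨m, hm⟩ := h
  obtain ⟨n, hn⟩ := h'
  exact ⟨max m n, fun a ha => ⟨hm a (ds_anti (le_max_left _ _) ha), hn a (ds_anti (le_max_right _ _) ha)⟩⟩

theorem SolMod.forall {ι : Sort*} [Finite ι] {R : ι → H → Prop} (h : ∀ i, SolMod H (R i)) :
    SolMod H fun a => ∀ i, R i a := by
  choose n hn using h
  obtain ⟨N, hN⟩ := (Set.finite_range n).bddAbove
  exact ⟨N, fun a ha i => hn i a (ds_anti (hN ⟨i, rfl⟩) ha)⟩

/-- Pull back along a homomorphism. -/
theorem SolMod.comap {R : H' → Prop} (φ : H →* H') (h : SolMod H' R) : SolMod H fun a => R (φ a) :=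
  h.imp fun n k a ha => k _ (map_derivedSeries_le_derivedSeries φ n ⟨a, ha, rfl⟩)

/-- Push forward along a surjection. -/
theorem SolMod.map {R : H' → Prop} (φ : H →* H') (hφ : Function.Surjective φ)
    (h : SolMod H fun a => R (φ a)) : SolMod H' R :=
  h.imp fun n k a ha => by
    obtain ⟨b, hb, rfl⟩ := derivedSeries_le_map_derivedSeries hφ n ha
    exact k b hb

theorem solMod_one_iff : (SolMod H fun a => a = 1) ↔ Group.IsSolvable H :=
  ⟨fun ⟨n, h⟩ => ⟨n, eq_bot_iff.2 h⟩, fun ⟨n, h⟩ => ⟨n, fun _ ha => by rwa [h] at ha⟩⟩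

theorem SolMod.of_solvable (h : Group.IsSolvable H) (h1 : P 1) : SolMod H P :=
  (solMod_one_iff.2 h).mono fun _ k => k ▸ h1

theorem SolMod.of_hom (φ : H →* H') (h : Group.IsSolvable H') : SolMod H fun a => φ a = 1 :=
  (solMod_one_iff.2 h).comap φ

theorem SolMod.of_range (φ : H →* H') (h : Group.IsSolvable φ.range) : SolMod H fun a => φ a = 1 :=
  (SolMod.of_hom φ.rangeRestrict h).mono fun _ k => congrArg Subtype.val k

/-- Extensions. -/
theorem SolMod.trans (N : Subgroup H) (h : SolMod H (· ∈ N)) (h' : SolMod N fun a => P a) :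
    SolMod H P := by
  obtain ⟨m, hm⟩ := h
  obtain ⟨n, hn⟩ := h'
  have key : ∀ k, derivedSeries H (m + k) ≤ (derivedSeries N k).map N.subtype := fun k => by
    induction k with
    | zero => exact fun a ha => ⟨⟨a, hm a ha⟩, mem_top _, rfl⟩
    | succ k ih =>
      rw [← add_assoc, derivedSeries_succ, derivedSeries_succ, Subgroup.map_commutator]
      exact commutator_mono ih ih
  refine ⟨m + n, fun a ha => ?_⟩
  obtain ⟨b, hb, rfl⟩ := key n ha
  exact hn b hb

/-- One more step of the derived series. -/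
theorem SolMod.step (N : Subgroup H) (h : SolMod H P) (hc : ∀ a b, P a → P b → ⁅a, b⁆ ∈ N) :
    SolMod H (· ∈ N) := by
  obtain ⟨n, hn⟩ := h
  exact ⟨n + 1, fun a ha => (commutator_le.2 fun a ha b hb => hc a b (hn a ha) (hn b hb)) ha⟩

theorem SolMod.solvable (N : Subgroup H) (h : SolMod H (· ∈ N)) (h' : Group.IsSolvable N) :
    Group.IsSolvable H :=
  solMod_one_iff.1 (SolMod.trans N h (SolMod.of_solvable h' rfl))

theorem SolOn.solvable {Ω : Type} [MulAction H Ω] [FaithfulSMul H Ω] (h : SolOn H Ω) :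
    Group.IsSolvable H :=
  solMod_one_iff.1 (h.mono fun a k => eq_of_smul_eq_smul (α := Ω) fun x => by rw [k, one_smul])

theorem SolOn.of_solvable {Ω : Type} [MulAction H Ω] (h : Group.IsSolvable H) : SolOn H Ω :=
  SolMod.of_solvable h fun x => one_smul _ x

/-- The action on an invariant subset. -/
@[reducible] def resAct {Ω : Type} [MulAction H Ω] (D : Set Ω) (h : ∀ (g : H), ∀ x ∈ D, g • x ∈ D) :
    MulAction H D where
  smul g x := ⟨g • x.1, h g _ x.2⟩
  one_smul x := Subtype.ext (one_smul _ x.1)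
  mul_smul a b x := Subtype.ext (mul_smul a b x.1)

/-- The action on an invariant subgroup. -/
@[reducible] def subAct {V : Type} [AddCommGroup V] [DistribMulAction H V] (W : AddSubgroup V)
    (h : ∀ (g : H), ∀ x ∈ W, g • x ∈ W) : DistribMulAction H W where
  smul g x := ⟨g • x.1, h g _ x.2⟩
  one_smul x := Subtype.ext (one_smul _ x.1)
  mul_smul a b x := Subtype.ext (mul_smul a b x.1)
  smul_zero a := Subtype.ext (smul_zero a)
  smul_add a x y := Subtype.ext (smul_add a x.1 y.1)

/-- The action on the quotient by an invariant subgroup. -/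
@[reducible] def quoAct {V : Type} [AddCommGroup V] [DistribMulAction H V] (W : AddSubgroup V)
    (h : ∀ (g : H), ∀ x ∈ W, g • x ∈ W) : DistribMulAction H (V ⧸ W) where
  smul g := QuotientAddGroup.map W W (DistribSMul.toAddMonoidHom V g) fun x hx => h g x hx
  one_smul x := QuotientAddGroup.induction_on x fun x => congrArg QuotientAddGroup.mk (one_smul _ x)
  mul_smul a b x := QuotientAddGroup.induction_on x fun x =>
    congrArg QuotientAddGroup.mk (mul_smul a b x)
  smul_zero _ := map_zero (QuotientAddGroup.map W W _ _)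
  smul_add _ x y := map_add (QuotientAddGroup.map W W _ _) x y

end Kit

section KitK

variable {K V Γ : Type} [Field K] [AddCommGroup V] [Module K V] [Group Γ] [DistribMulAction Γ V]
  {a b : Γ} {sc : Kˣ →* Γ} {G H : Subgroup Γ}

theorem Lin.semi (h : Lin K V a) : Semi K V a := ⟨RingEquiv.refl K, h⟩
theorem lin_one : Lin K V (1 : Γ) := fun _ _ => by rw [one_smul, one_smul]
theorem Lin.mul (h : Lin K V a) (h' : Lin K V b) : Lin K V (a * b) := fun c v => by
  rw [mul_smul, h', h, mul_smul]
theorem Lin.inv (h : Lin K V a) : Lin K V a⁻¹ := fun c v => by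
  rw [inv_smul_eq_iff, h, smul_inv_smul]
theorem Semi.mul (h : Semi K V a) (h' : Semi K V b) : Semi K V (a * b) := by
  obtain ⟨σ, h⟩ := h
  obtain ⟨τ, h'⟩ := h'
  exact ⟨τ.trans σ, fun c v => by rw [mul_smul, h', h, mul_smul]; rfl⟩
theorem Semi.inv (h : Semi K V a) : Semi K V a⁻¹ := by
  obtain ⟨σ, h⟩ := h
  exact ⟨σ.symm, fun c v => by rw [inv_smul_eq_iff, h, smul_inv_smul, σ.apply_symm_apply]⟩
theorem Lin.conj (h : Lin K V b) (h' : Semi K V a) : Lin K V (a * b * a⁻¹) := by
  obtain ⟨σ, h'⟩ := h'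
  intro c v
  obtain ⟨c, rfl⟩ := σ.surjective c
  obtain ⟨v, rfl⟩ := MulAction.surjective a v
  rw [← h', mul_smul, inv_smul_smul, mul_smul, h, h', mul_smul, mul_smul, inv_smul_smul]

variable (K V Γ) in
/-- The `K`-linear elements. -/
def linG : Subgroup Γ where
  carrier := {a | Lin K V a}
  one_mem' := lin_one
  mul_mem' := Lin.mul
  inv_mem' := Lin.inv

theorem KS.lin_sc (s : KS V sc G H) (c : Kˣ) : Lin K V (sc c) := fun d v => by
  rw [s.hsc, s.hsc, smul_comm]

theorem KS.comm_sc [FaithfulSMul Γ V] (s : KS V sc G H) (h : Lin K V a) (c : Kˣ) :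
    a * sc c = sc c * a :=
  eq_of_smul_eq_smul (α := V) fun v => by rw [mul_smul, mul_smul, s.hsc, s.hsc, h]

theorem KS.lin_of_comm (s : KS V sc G H) (h : ∀ c, a * sc c = sc c * a) : Lin K V a := fun c v => by
  rcases eq_or_ne c 0 with rfl | hc
  · rw [zero_smul, zero_smul, smul_zero]
  · have := congrArg (· • v) (h (Units.mk0 c hc))
    simpa only [mul_smul, s.hsc, Units.val_mk0] using this

theorem KS.conj_sc [FaithfulSMul Γ V] (s : KS V sc G H) {σ : K ≃+* K}
    (h : ∀ (c : K) (v : V), a • c • v = σ c • a • v) (c : Kˣ) :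
    a * sc c * a⁻¹ = sc (Units.map (σ : K →* K) c) :=
  eq_of_smul_eq_smul (α := V) fun v => by
    rw [mul_smul, mul_smul, s.hsc, s.hsc, h, smul_inv_smul]; rfl

theorem KS.conj_mem [FaithfulSMul Γ V] (s : KS V sc G H) (h : Semi K V a) (hb : b ∈ sc.range) :
    a * b * a⁻¹ ∈ sc.range := by
  obtain ⟨σ, h⟩ := h
  obtain ⟨c, rfl⟩ := hb
  exact ⟨_, (s.conj_sc h c).symm⟩

theorem KS.nor_sc [FaithfulSMul Γ V] (s : KS V sc G H) : H ≤ normalizer (sc.range : Set Γ) :=
  fun a ha => mem_normalizer_iff.2 fun b => ⟨s.conj_mem (s.semi a ha), fun k => by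
    simpa [mul_assoc] using s.conj_mem (s.semi a ha).inv k⟩

theorem KS.sc_inj [Nontrivial V] (s : KS V sc G H) : Function.Injective sc := fun c d h => by
  obtain ⟨v, hv⟩ := exists_ne (0 : V)
  have := congrArg (· • v) h
  simp only [s.hsc] at this
  exact Units.ext (smul_left_injective K hv this)

end KitK

end H91.CL
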