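import Cfsg.Agent.H78.TEDef
import Cfsg.Agent.H48.SgFa

/-! STD-2E6, slot CY: an automorphism of `E₆(K)` that fixes `W`. -/

set_option autoImplicit false
set_option linter.unusedSectionVars false

namespace H91.TeCY

open Cfsg Cfsg.Lie H63 H65 H64 H64.SG H68 H46.SF H78.TE H48.SgFa Subgroup

variable {F K : Type} [Field F] [Finite F] [CharP F 2] [Field K] [Finite K] [CharP K 2] {T : Qd F K}

/-- The roots used as tests. -/
abbrev Ts (r : Rt E6) : Prop := 2 ≤ a4 r ∧ r.1 ≤ (gm r).1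

theorem ts_pos : ∀ r, Ts r → 36 ≤ r.1 ∧ 36 ≤ (gm r).1 := by decide +kernel

theorem exists_test (kb : T.KB) {r : Rt E6} (hr : Ts r) (a : K) (ha : gm r = r → a = 1) :
    ∃ y ∈ T.W, ∃ b, (gm r = r → b = 0) ∧ (y : YY K) = xG E6 K r a * xG E6 K (gm r) b := by
  by_cases h : gm r = r
  · obtain ⟨w, hw⟩ := kb.half
    exact ⟨_, T.xs_mem (S := SW) hr.1 w, 0, fun _ => rfl, by
      rw [T.xs_val, h, ← xE_add, ← xE_add, hw, ha h, add_zero]⟩
  · exact ⟨_, T.xs_mem (S := SW) hr.1 a, _, fun k => absurd k h, T.xs_val r a⟩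

theorem snd_mem {r : Rt E6} (hr : Ts r) {b : K} (hb : gm r = r → b = 0) :
    xG E6 K (gm r) b ∈ Uge E6 (xG E6 K) (r + 1) := by
  by_cases h : gm r = r
  · rw [hb h, xE_zero]; exact one_mem _
  · exact x_mem_gen (S := {s : Rt E6 | Pos s ∧ (r : ℕ) + 1 ≤ s}) ⟨pos_iff.2 (ts_pos r hr).2,
      lt_of_le_of_ne hr.2 fun e => h (Fin.ext e.symm)⟩ b

theorem lead {r : Rt E6} (hr : Ts r) (a : K) {b : K} (hb : gm r = r → b = 0) {u : YY K}
    (hu : u ∈ UU E6 (xG E6 K)) : ∃ v ∈ Uge E6 (xG E6 K) (r + 1),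
      u * (xG E6 K r a * xG E6 K (gm r) b) * u⁻¹ = xG E6 K r a * v := by
  obtain ⟨v, hv, e⟩ := U_conj_x (stY K).toSt (pos_iff.2 (ts_pos r hr).1) a hu
  exact ⟨_, mul_mem hv (conj_mem_Uge (stY K).toSt hu (snd_mem hr hb)), by
    rw [← mul_assoc (xG E6 K r a) v, ← e, conj_mul]⟩

theorem w_one (w : W6) (h : ∀ r, Ts r → hN r ≤ hN (w.1 r)) : w = 1 := by
  have ip' : ∀ r s, ip (w.1 r) (w.1 s) = ip r s := fun r s => by rw [ip_eq, ip_eq, W_pairing]
  have e71 : w.1 (R6 71) = R6 71 := (by decide +kernel : ∀ s : Rt E6, hN (R6 71) ≤ hN s → s = R6 71) _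
    (h _ (by decide +kernel))
  have p71 := fun s => ip' (R6 71) s
  rw [e71] at p71
  have e70 : w.1 (R6 70) = R6 70 := (by decide +kernel : ∀ s : Rt E6, hN (R6 70) ≤ hN s →
    ip (R6 71) s = ip (R6 71) (R6 70) → s = R6 70) _ (h _ (by decide +kernel)) (p71 _)
  have p70 := fun s => ip' (R6 70) s
  rw [e70] at p70
  have e69 : w.1 (R6 69) = R6 69 := (by decide +kernel : ∀ s : Rt E6, hN (R6 69) ≤ hN s →
    ip (R6 71) s = ip (R6 71) (R6 69) → ip (R6 70) s = ip (R6 70) (R6 69) → s = R6 69) _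
    (h _ (by decide +kernel)) (p71 _) (p70 _)
  have p69 := fun s => ip' (R6 69) s
  rw [e69] at p69
  have e65 : w.1 (R6 65) = R6 65 := (by decide +kernel : ∀ s : Rt E6, hN (R6 65) ≤ hN s →
    ip (R6 71) s = ip (R6 71) (R6 65) → ip (R6 70) s = ip (R6 70) (R6 65) →
    ip (R6 69) s = ip (R6 69) (R6 65) → s = R6 65) _
    (h _ (by decide +kernel)) (p71 _) (p70 _) (p69 _)
  have p65 := fun s => ip' (R6 65) s
  rw [e65] at p65
  have key : ∀ r, Ts r → hN (w.1 r) = hN r := fun r hr =>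
    (by decide +kernel : ∀ r s : Rt E6, Ts r → hN r ≤ hN s → ip (R6 71) s = ip (R6 71) r →
      ip (R6 70) s = ip (R6 70) r → ip (R6 69) s = ip (R6 69) r → ip (R6 65) s = ip (R6 65) r →
      hN s = hN r) r _ hr (h r hr) (p71 r) (p70 r) (p69 r) (p65 r)
  refine WData.eq_one_of_pos _ fun i => ?_
  obtain ⟨r, s, h1, h2, h3, h4, h5⟩ := (by decide +kernel : ∀ i : Fin E6.rank, ∃ r s : Rt E6, Ts r ∧ Ts s ∧
    ip s (R6 (E6.simple i)) = -1 ∧ r = su s (R6 (E6.simple i)) ∧ hN s < hN r) i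
  have e : R6 (E6.simple i) = simpleR i := R6_val (simpleR i)
  rw [e] at h3 h4
  have h6 := ht_of_add (W_add w (add_iff.2 ⟨h3, h4⟩))
  rw [← hN_eq, ← hN_eq, key r h1, key s h2] at h6
  exact pos_iff_ht.2 (show 0 < ht (w.1 (simpleR i)) by omega)

theorem mem_B {g : YY K} (hx : ∀ r, Ts r → ∃ b, (gm r = r → b = 0) ∧ ∃ a' b',
    g * (xG E6 K r 1 * xG E6 K (gm r) b) * g⁻¹ = xG E6 K r a' * xG E6 K (gm r) b') :
    g ∈ (stY K).rgd.B := by
  have h := ad E6 K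
  obtain ⟨w, hw⟩ := (stY K).rgd.exists_cell (g := g) (by rw [h.Gp_eq]; trivial)
  suffices h4 : w = 1 by rw [h4] at hw; exact RGD.cell_one_iff.1 hw
  refine w_one w fun r hr => ?_
  have p1 : Pos r := pos_iff.2 (ts_pos r hr).1
  have p2 : Pos (gm r) := pos_iff.2 (ts_pos r hr).2
  obtain ⟨m, hm, hmw⟩ := (stY K).rgd.exists_mem_N_act w
  obtain ⟨b, hb, u, hu, rfl⟩ := hw.normal_form hm hmw
  obtain ⟨t, t0, a', b', ha⟩ := hx r hr
  obtain ⟨v, hv, e⟩ := lead hr 1 t0 ((stY K).rgd.gen_Inv_le_U w hu)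
  rw [hN_eq, hN_eq]
  refine (act_of_conj (stY K) (S := {p | Pos p ∧ ht r ≤ ht p}) (commUp_of_comb (stY K).toSt
    (fun _ h => h.1) fun a ha b hb c i j hi hj e => ?_) (fun _ h => h.1) p1 one_ne_zero hv hmw ?_).2
  · refine ⟨pos_of_comb ha.1 hb.1 hi hj e, ?_⟩
    have h1 := ht_of_eq e
    have h2 := pos_iff_ht.1 ha.1
    have h3 := pos_iff_ht.1 hb.1
    have h4 := ha.2
    nlinarith
  obtain ⟨c, hc, u', hu', e'⟩ := (stY K).rgd.mem_B'.1 (inv_mem hb)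
  rw [← e, show ∀ y, m * (u * y * u⁻¹) * m⁻¹ = b⁻¹ * (b * m * u * y * (b * m * u)⁻¹) * b⁻¹⁻¹
    from fun y => by group, ha, e', show ∀ y, c * u' * y * (c * u')⁻¹ = c * (u' * y * u'⁻¹) * c⁻¹
    from fun y => by group]
  refine (stY K).rgd.h_conj_gen hc ?_
  have sh : ∀ s : Rt E6, Pos s → ht r ≤ ht s → ∀ a, u' * xG E6 K s a * u'⁻¹ ∈
      gen (XR E6 (xG E6 K)) {p | Pos p ∧ ht r ≤ ht p} := fun s hs k a =>
    gen_mono _ (show SH s ⊆ {p | Pos p ∧ ht r ≤ ht p} from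
      fun p hp => ⟨hp.1, hp.2.elim (fun e => e ▸ k) fun e => k.trans e.le⟩)
      (U_conj_SH (stY K).toSt hs hu' (x_mem_gen (S := SH s) ⟨hs, Or.inl rfl⟩ a))
  rw [← conj_mul]
  exact mul_mem (sh r p1 le_rfl a') (sh _ p2 (by rw [← hN_eq, ← hN_eq, hN_gm]) b')

theorem main (kb : T.KB) (ct : T.CT) {α : MulAut (YY K)} (hα : ∀ g ∈ T.W, α g = g) {g : YY K}
    {c : Fin E6.rank → Kˣ} {τ : RingAut K} (h1 : DT E6 K (MulAut.conj g * α) id c τ) :
    ∃ ζ ∈ gY K SW, α = MulAut.conj ζ := by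
  have h := ad E6 K
  have h6 := h.eq_of_dat h1 (dat_diag_field c τ)
  have h3 : g ∈ (stY K).rgd.B := mem_B fun r hr => by
    obtain ⟨y, hy, b, hb, e⟩ := exists_test kb hr 1 fun _ => rfl
    refine ⟨b, hb, chr E6 c r * τ 1, chr E6 c (gm r) * τ b, ?_⟩
    rw [← e, ← hα y hy]
    refine (DFunLike.congr_fun h6 (y : YY K)).trans ?_
    rw [e, map_mul, MulAut.mul_apply, MulAut.mul_apply, fieldAut_xG, diagAut_xG, fieldAut_xG,
      diagAut_xG]
  obtain ⟨u, hu, k, hk, e⟩ := (stY K).rgd.mem_B.1 (inv_mem h3)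
  obtain ⟨d, hd⟩ := H48.SgTy.dat_conj e6 h.toStN hk
  have h7 : α = MulAut.conj u * (diagAut E6 (d * c) * fieldAut E6 τ) := by
    rw [map_mul, mul_assoc, ← h6, ← h.eq_of_dat hd (dat_diagAut d), ← mul_assoc, ← mul_assoc,
      ← map_mul, ← e, ← map_mul, inv_mul_cancel, map_one, one_mul]
  have h8 : ∀ r, Ts r → ∀ a, (gm r = r → a = 1) → chr E6 (d * c) r * τ a = a := fun r hr a ha => by
    obtain ⟨y, hy, b, hb, e⟩ := exists_test kb hr a ha
    obtain ⟨v, hv, e'⟩ := lead hr (chr E6 (d * c) r * τ a) (b := chr E6 (d * c) (gm r) * τ b)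
      (fun k => by rw [hb k, map_zero, mul_zero]) hu
    refine (eq_of_split (stY K) (pos_iff.2 (ts_pos r hr).1) hv (snd_mem hr hb) ?_).1
    rw [← e', ← e, ← hα y hy, h7, e, MulAut.mul_apply, map_mul, MulAut.mul_apply, MulAut.mul_apply,
      fieldAut_xG, diagAut_xG, fieldAut_xG, diagAut_xG]
    rfl
  have h9 : ∀ r, Ts r → chr E6 (d * c) r = 1 := fun r hr =>
    Units.ext (by simpa using h8 r hr 1 fun _ => rfl)
  have h10 : d * c = 1 := funext fun i => by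
    obtain ⟨r, s, h1, h2, h3, h4⟩ := (by decide +kernel : ∀ i : Fin E6.rank, ∃ r s : Rt E6, Ts r ∧
      Ts s ∧ ip s (R6 (E6.simple i)) = -1 ∧ r = su s (R6 (E6.simple i))) i
    have e : R6 (E6.simple i) = simpleR i := R6_val (simpleR i)
    rw [e] at h3 h4
    have := chr_comb (d * c) (i := 1) (j := 1) (r := s) (s := simpleR i) (u := r)
      (by simpa using add_iff.2 ⟨h3, h4⟩)
    rw [h9 r h1, h9 s h2, simpleR_val, chr_simple] at this
    simpa using this.symm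
  have h11 : τ = 1 := RingEquiv.ext fun a => by
    have := h8 (R6 66) (by decide +kernel) a fun k => absurd k (by decide +kernel)
    rw [h9 _ (by decide +kernel)] at this
    simpa using this
  rw [h10, h11, map_one, map_one, mul_one, mul_one] at h7
  refine ⟨u, ct SU SW ∅ SW (by decide +kernel) (by decide +kernel) ?_ (by decide +kernel)
    (fun _ h => h.elim) ?_ ?_ u (by rw [gY_SU]; exact hu) fun s hs a => ?_, h7⟩
  · exact (by decide +kernel : ∀ r : Rt E6, 2 ≤ a4 r → 36 ≤ r.1)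
  · have : ∀ r : Rt E6, 2 ≤ a4 r → ∀ s : Rt E6, 2 ≤ a4 s → ip r s ≠ -1 ∧ ip r (gm s) ≠ -1 := by
      decide +kernel
    exact fun r hr s hs => ⟨fun k => (this r hr s hs).1 k, fun k => (this r hr s hs).2 k⟩
  · have : ∀ r : Rt E6, 36 ≤ r.1 → ¬ 2 ≤ a4 r → ∃ s : Rt E6, 2 ≤ a4 s ∧ ip r s = -1 := by
      decide +kernel
    exact fun r hr k => (this r hr k).imp fun s hs => ⟨hs.1, hs.2, fun k => k⟩
  · have := hα _ (T.xs_mem (S := SW) hs a)
    rw [h7, MulAut.conj_apply] at this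
    rw [this, mul_inv_cancel]; exact one_mem _

theorem jobCY : JobCY := by
  intro F K _ _ _ _ _ _ T kb ct α hα
  obtain ⟨τ⟩ := H48.SgTy.jobTy E6 e6 K
  have hp : DT E6 K (MulAut.conj 1 * T.ph) gn 1 T.σ := (H48.SgTy.dat_iff e6).2 fun i t => by
    rw [map_one, one_mul]
    constructor
    · have := T.ph_x (simpleR i) t
      rw [gm_simple] at this
      simpa using this
    · have := T.ph_x (negR (simpleR i)) t
      rw [← ng_eq, gm_ng, gm_simple, ng_eq, ng_eq] at this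
      simpa using this
  have gp : τ.gr T.ph ≠ 1 := fun k => absurd ((τ.spec _ _ _ _ _ hp).2.1 k) (by decide +kernel)
  have aux : ∀ β : MulAut (YY K), (∀ g ∈ T.W, β g = g) → τ.gr β = 1 →
      ∃ ζ ∈ gY K SW, β = MulAut.conj ζ := fun β hβ k => by
    obtain ⟨g, π, c, s, h1⟩ := τ.ex β
    rw [(τ.spec _ _ _ _ _ h1).2.1 k] at h1
    exact main kb ct hβ h1
  by_cases k : τ.gr α = 1
  · obtain ⟨ζ, h1, h2⟩ := aux α hα k
    exact ⟨ζ, h1, Or.inl h2⟩
  · obtain ⟨ζ, h1, h2⟩ := aux (α * T.ph) (fun g hg => by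
      rw [MulAut.mul_apply, mem_fx.1 g.2, hα g hg]) (by
      rw [map_mul]
      exact (by decide : ∀ a b : Multiplicative (ZMod 2), a ≠ 1 → b ≠ 1 → a * b = 1) _ _ k gp)
    refine ⟨ζ, h1, Or.inr ?_⟩
    rw [← h2]
    exact MulEquiv.ext fun g => by rw [MulAut.mul_apply, MulAut.mul_apply, T.ph_ph]

end H91.TeCY
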