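import Cfsg.Agent.H78.TEW
import Cfsg.Agent.H4.TDW3

/-! STD-2E6, slot W3: centralisers of the elements `e₁ y s` of order `4` (generic `X`). -/

set_option autoImplicit false
set_option linter.unusedSectionVars false

namespace H91.TeW3

open H64.SG (O2 Syl Cz Cs Ns cjs Is2 Inv2 UF IsO2 fx mem_Cs mem_Cz mem_fx is2_of_sq isPGroup_iff_is2)
open H67.SA (St cI cm mem_cI card_cjs conj_mem_cjs mem_cjs cm_eq_one)
open H81.SU (El Ind exists_ind inv2_e)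
open H4.SUW3 (conj_or cz_conj)
open H4.TDW3 (st_O2)
open H62.TW (CW pr G12)
open H78.TW H98 Subgroup

universe u

variable {X : Type} [Group X] [Finite X] {d : Sg X} {G : Type u} [Group G] [Finite G]
  {e e₁ e₂ : X →* G} {t : G}

theorem is2_map {a : X} (ha : Is2 a) (β : MulAut X) : Is2 (β a) := by
  obtain ⟨k, hk⟩ := ha
  exact ⟨k, by rw [← map_pow, hk, map_one]⟩

theorem fix_both (i : WI d) (c : CW e t e₁ e₂) {m : G} {β γ : MulAut X}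
    (h1 : Ind e₁ m β) (h2 : Ind e₂ m γ) {a b : X} (ha : Is2 a)
    (h : m * (e₁ a * e₂ b) * m⁻¹ = e₁ a * e₂ b) : β a = a ∧ γ b = b :=
  inj2 i c (is2_map ha β) ha (by rw [← h1, ← h2, conj_mul, h])

theorem odd_nor (h : GW d e t e₁ e₂) {m : G} (hm : m ∈ Ns (G12 e₁ e₂)) (ho : Odd (orderOf m)) :
    m ∈ Ns e₁.range ∧ m ∈ Ns e₂.range := by
  refine H64.SG.mem_of_sq_mem (K := Ns e₁.range ⊓ Ns e₂.range) ?_ ho
  rcases h.pm m hm with k | k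
  · exact mul_mem k k
  · exact ⟨cj_eq_self_iff.1 (by rw [← cj_cj]; exact (congrArg (cjs m) k.1).trans k.2),
      cj_eq_self_iff.1 (by rw [← cj_cj]; exact (congrArg (cjs m) k.2).trans k.1)⟩

theorem core (f : WF d) (b : CE d.q e.range t) (c : CW e t e₁ e₂)
    (g : GW d e t e₁ e₂) {y : X} (hy : Inv2 y) (h1 : y ∈ d.E) :
    Cz (e₁ y * t) ≤ Ns (G12 e₁ e₂) := by
  have hE := f.u.el
  have i := f.i
  have tt := b.inv.1
  have ti : t⁻¹ = t := inv_eq_of_mul_eq_one_right tt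
  have bc : ∀ v, t * e v = e v * t := fun v => (b.cen _ ⟨v, rfl⟩).symm
  have y2 : Is2 y := is2_of_sq hy.1
  have e1 : e₁ y * e₁ y = 1 := by rw [← map_mul, hy.1, map_one]
  have i1 := inv_eq_of_mul_eq_one_right e1
  have dd : e₁ y * t * (e₁ y * t) = e₁ y * e₂ y := by rw [← c.sw, ti]; group
  have d2 : e₁ y * e₂ y * (e₁ y * e₂ y) = 1 := by rw [c.mul_mul, hy.1]; simp
  have d4 : (e₁ y * t) ^ 4 = 1 := by
    rw [show 4 = 2 * 2 from rfl, pow_mul, pow_two, pow_two, dd, d2]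
  have di : t * (e₁ y * t) * t⁻¹ = (e₁ y * t)⁻¹ := by
    rw [_root_.mul_inv_rev, ti, i1, mul_assoc, mul_assoc, tt, mul_one]
  have eM : ∀ v, e v ∈ Ns (G12 e₁ e₂) := fun v => le_normalizer (c.le ⟨v, rfl⟩)
  have cd : ∀ v ∈ Cz y, e v * (e₁ y * t) = e₁ y * t * e v := fun v hv => by
    rw [mul_assoc, bc v, ← mul_assoc, ← mul_assoc, c.diag, ← mul_assoc, ← map_mul,
      mem_Cz.1 hv, map_mul, mul_assoc (e₁ v), ← c.comm y v, ← mul_assoc]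
  have ey : ∀ v ∈ d.E, v ∈ Cz y := fun v hv => mem_Cz.2 (by
    have k := hE _ (mul_mem h1 hv)
    rw [← inv_eq_of_mul_eq_one_right k, _root_.mul_inv_rev, inv_eq_of_mul_eq_one_right (hE v hv),
      inv_eq_of_mul_eq_one_right hy.1] )
  refine le_trans (fun a ha => H64.SG.Cs_le_Ns _ (H64.SG.mem_Cs_zpowers.2 (mem_Cz.1 ha)))
    (H64.SG.jobK8 g.uf (IsConj.refl t) g.uf.mem di d4 (fun m m1 m2 => ?_) (d.E.map e) ?_
      (by rw [closure_eq]; exact g.cE) fun O o1 o2 o3 o4 w hw o ho => ?_)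
  · have k1 := conj_or d4 (fun k => hy.2 (inj2 i c (a := y) (b := y) (c := 1) (f := 1) y2
      H64.SG.is2_one (by rw [← dd, k]; simp)).1) m1
    have k2 : m * (e₁ y * e₂ y) * m⁻¹ = e₁ y * e₂ y := by
      rw [← dd, ← conj_mul]
      rcases k1 with k | k <;> rw [k]
      rw [← _root_.mul_inv_rev, dd, inv_eq_of_mul_eq_one_right d2]
    have k3 : e₁ y * (m * (e₁ y * t) * m⁻¹) * t⁻¹ ∈ zpowers (e₁ y * t) := by
      rcases k1 with k | k <;> rw [k]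
      · rw [← mul_assoc, e1, one_mul, mul_inv_cancel]; exact one_mem _
      · rw [_root_.mul_inv_rev, i1, ti, ← mul_assoc, mul_assoc (e₁ y * t)]
        exact mul_mem (mem_zpowers _) (mem_zpowers _)
    have k4 : m * t * m⁻¹ * t⁻¹ = m * e₁ y * m⁻¹ * (m * (e₁ y * t) * m⁻¹) * t⁻¹ := by
      rw [conj_mul, ← mul_assoc (e₁ y), e1, one_mul]
    rw [k4]
    rcases g.pm m m2 with k | k
    · obtain ⟨β, hβ⟩ := exists_ind c.inj k.1
      obtain ⟨γ, hγ⟩ := exists_ind c.inj₂ k.2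
      rwa [hβ, (fix_both i c hβ hγ y2 k2).1]
    · obtain ⟨p, hp⟩ : m * e₁ y * m⁻¹ ∈ e₂.range := k.1 ▸ conj_mem_cjs.2 ⟨y, rfl⟩
      obtain ⟨q, hq⟩ : m * e₂ y * m⁻¹ ∈ e₁.range := k.2 ▸ conj_mem_cjs.2 ⟨y, rfl⟩
      have q2 : Is2 q := is2_of_sq (c.inj (by
        rw [map_mul, hq, conj_mul, ← map_mul, hy.1]; simp))
      rw [← conj_mul, ← hp, ← hq, ← c.comm] at k2
      rw [← hp, (inj2 i c q2 y2 k2).2, show e₂ y = e₁ y * t * (e₁ y * t) * e₁ y by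
        rw [dd, c.comm, mul_assoc, e1, mul_one], mul_assoc _ (e₁ y), mul_assoc]
      exact mul_mem (mul_mem (mem_zpowers _) (mem_zpowers _)) k3
  · rintro _ ⟨v, hv, rfl⟩
    exact ⟨by rw [← map_mul, hE v hv, map_one], eM v, cd v (ey v hv), bc v, g.tx v (hE v hv)⟩
  · obtain ⟨w, -, rfl⟩ := hw
    have oo := H64.SG.odd_orderOf_of_mem o2 ho
    obtain ⟨n1, n2⟩ := odd_nor g (o1 ho) oo
    obtain ⟨β, hβ⟩ := exists_ind c.inj n1
    obtain ⟨γ, hγ⟩ := exists_ind c.inj₂ n2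
    obtain ⟨f1, f2⟩ := fix_both i c hβ hγ (a := y) (b := y) y2 (by
      rw [← dd, ← conj_mul, ← mem_Cz.1 (o4 ho), mul_inv_cancel_right])
    have hD := H64.SG.isO2_pCoreOf (Cz y)
    generalize Cfsg.pCoreOf 2 (Cz y) = D at hD
    have key : ∀ v ∈ D, β v = v ∧ γ v = v := fun v hv => by
      have k1 : cm o (e v) ∈ pr e₁ e₂ D D := by
        refine mul_mem ?_ (inv_mem (c.map_le _ ⟨v, hv, rfl⟩))
        rw [c.diag, ← conj_mul, hβ, hγ]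
        exact c.mem_pr.2 ⟨_, st_O2 hD f1 hv, _, st_O2 hD f2 hv, rfl⟩
      have k2 : cm o (e v) ∈ O := by
        simpa only [cm, mul_assoc] using mul_mem ho (conj_mem_of_mem_normalizer (o3
          ⟨H64.SG.Cs_le_Ns _ (H64.SG.mem_Cs_zpowers.2 (cd v (hD.1 hv)).symm), eM v⟩) (inv_mem ho))
      have k3 := cm_eq_one.1 ((isPGroup_iff_is2.1 (c.isP_pr hD.2.2.1 hD.2.2.1) _ k1).eq_one
        (H64.SG.odd_orderOf_of_mem o2 k2))
      exact fix_both i c hβ hγ (isPGroup_iff_is2.1 hD.2.2.1 _ hv) (by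
        rw [← c.diag, k3, mul_inv_cancel_right])
    have b1 := f.a.oc y D β hy hD (fun v hv => (key v hv).1) (hβ.odd c.inj oo)
    have b2 := f.a.oc y D γ hy hD (fun v hv => (key v hv).2) (hγ.odd c.inj₂ oo)
    refine mem_Cz.2 ?_
    rw [eq_comm, ← mul_inv_eq_iff_eq_mul, c.diag, ← conj_mul, hβ, hγ, b1, b2]
    rfl

theorem at_t (f : WF d) (b : CE d.q e.range t) (c : CW e t e₁ e₂) (g : GW d e t e₁ e₂) {y : X}
    (hy : Inv2 y) : Cz (e₁ y * t) ≤ Ns (G12 e₁ e₂) := by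
  obtain ⟨h, h2⟩ := f.i.ic y hy
  have := cz_conj (le_normalizer (c.le ⟨h⁻¹, rfl⟩))
    (core f b c g (H9.UF.inv2_conj hy (isConj_iff.2 ⟨h, rfl⟩)) h2)
  rwa [← conj_mul, show e h⁻¹ * t * (e h⁻¹)⁻¹ = t by
    rw [b.cen _ ⟨h⁻¹, rfl⟩, mul_inv_cancel_right], c.diag, c.ind₁ h⁻¹ h⁻¹,
    show MulAut.conj h⁻¹ (h * y * h⁻¹) = y by simp [mul_assoc]] at this

theorem jobW3 : JobW3.{u} := fun X _ _ d f G _ _ e t b e₁ e₂ c g s hs h1 y hy => by
  obtain ⟨m, rfl⟩ := isConj_iff.1 h1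
  have hm := g.uf.uf m hs
  have key : ∀ {f' : X →* G} {p : X}, f' p = m⁻¹ * e₁ y * m⁻¹⁻¹ → Function.Injective f' → Inv2 p :=
    fun h2 h3 => (inv2_e h3).1 (h2 ▸ H9.UF.inv2_conj ((inv2_e c.inj).2 hy) (isConj_iff.2 ⟨_, rfl⟩))
  rw [show e₁ y * (m * t * m⁻¹) = m * (m⁻¹ * e₁ y * m⁻¹⁻¹ * t) * m⁻¹ by group]
  refine cz_conj hm ?_
  rcases g.pm _ (inv_mem hm) with k | k
  · obtain ⟨p, hp⟩ := conj_mem_of_mem_normalizer k.1 (⟨y, rfl⟩ : e₁ y ∈ e₁.range)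
    exact hp ▸ at_t f b c g (key hp c.inj)
  · obtain ⟨p, hp⟩ : m⁻¹ * e₁ y * m⁻¹⁻¹ ∈ e₂.range := k.1 ▸ conj_mem_cjs.2 ⟨y, rfl⟩
    have := cz_conj g.uf.mem (at_t f b c g (key hp c.inj₂))
    rwa [← conj_mul, c.sw, mul_inv_cancel_right, hp] at this

end H91.TeW3
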