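import Cfsg.Agent.H28.TESpec

/-! Tower TE, part 1, job NR: the normaliser of `R` in `Q₁` centralises `E`. -/

set_option autoImplicit false

open Cfsg Subgroup H14 H98 H1.Gold H31.S2 H14.GC H14.FE H14.NF H28.TE
open scoped commutatorElement

namespace H91.TeNR

universe u

theorem nor_OZ {G : Type u} [Group G] [Finite G] (R : Subgroup G) : nor R ≤ nor (OZ R) :=
  fun g hg => mem_normalizer_fintype fun x hx => ⟨conj_mem_of_mem_normalizer hg hx.1,
    conj_mem_of_mem_normalizer (le_normalizer_centralizer le_rfl hg) hx.2.1, by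
      rw [conj_mul, hx.2.2, mul_one, mul_inv_cancel]⟩

theorem jobNR : JobNR.{u} := by
  intro _ kp g1 g3 b2 na zc G _ _ Q Q₁ E Q₂ T ln R ar g gQ gR
  have : Fact (Nat.Prime 2) := ⟨Nat.prime_two⟩
  have kp := kp G _ _ _ _ _ ln R ar
  have g1 := g1 G _ _ _ _ _ ln R ar
  have g3 := g3 G _ _ _ _ _ ln R ar
  have b2 := b2 G _ _ _ _ _ ln R ar
  have na := na G _ _ _ _ _ ln
  have eZ := (zc G _ _ _ _ _ ln R ar).1
  have nE : nor R ≤ nor E := eZ ▸ nor_OZ R
  have RE : R ≤ cen E := fun r hr e he => ((eZ.le he).2.1 r hr).symm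
  have TE : T ≤ cen E := fun t ht e he => ln.comm e he t ht
  have TQ : T ≤ nor Q₁ := ln.sT.le.trans inf_le_right
  have cQ : ∀ w ∈ Q₁, ∀ t ∈ T, ⁅t, w⁆ ∈ Q₁ := fun w hw t ht =>
    mul_mem (conj_mem_of_mem_normalizer (TQ ht) hw) (inv_mem hw)
  have cN : ∀ (K : Subgroup G) (w : G), w ∈ nor K → T ≤ K → ∀ t ∈ T, ⁅t, w⁆ ∈ K :=
    fun K w hw h t ht => by
      rw [show ⁅t, w⁆ = t * (w * t⁻¹ * w⁻¹) by rw [commutatorElement_def]; group]
      exact mul_mem (h ht) (conj_mem_of_mem_normalizer hw (inv_mem (h ht)))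
  have nS : ∀ (K : Subgroup G) (w : G), w ∈ nor K → (∀ t ∈ T, ⁅t, w⁆ ∈ K) → w ∈ nor (K ⊔ T) :=
    fun K w hw h => mem_normalizer_of_cj_le (by
      rw [cj_sup, cj_eq_self hw]
      refine sup_le le_sup_left ?_
      rintro _ ⟨t, ht, rfl⟩
      change w * t * w⁻¹ ∈ _
      rw [show w * t * w⁻¹ = t * ⁅t⁻¹, w⁆ by rw [commutatorElement_def]; group]
      exact mul_mem (mem_sup_right ht) (mem_sup_left (h _ (inv_mem ht))))
  have two : IsPGroup 2 ↥(R ⊔ T) := ar.syl.isPGroup.to_sup_of_normal_left' ln.sT.isPGroup ar.nr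
  have inR : ∀ U : Subgroup G, IsPGroup 2 U → R ≤ U → ∀ x ∈ U, x ∈ Q₁ → x ∈ R :=
    fun U hU h x h1 h2 => (ar.syl.eq_of_le (hU.to_le inf_le_left) (le_inf h ar.syl.le)
      inf_le_right).le ⟨h1, h2⟩
  have pp : ∀ w ∈ Q₁, w ∈ nor (R ⊔ T) → ∀ t ∈ T, ⁅t, w⁆ ∈ PP E T R := fun w h1 h2 =>
    g3 w fun t ht => by
      have m := inR _ two le_sup_left _ (cN _ w h2 le_sup_right t ht) (cQ w h1 t ht)
      refine ⟨m, ?_⟩
      by_cases h : ⁅t, w⁆ ∈ PP E T R
      · exact fun t' ht' => kp.lt.le ((kp.mem _ m).1 h t' ht')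
      · exact (b2 _ m h).1
  have key : ∀ n ∈ Q₁, n ∈ nor R → n ∈ nor (R ⊔ T) → n ∈ cen E := fun n h1 h2 h3 => by
    have sq : n * n ∈ cen E := by
      by_cases c1 : ∀ t ∈ T, ⁅t, n⁆ ∈ E
      · exact mul_mem (na n h1 (nS E n (nE h2) c1)) (na n h1 (nS E n (nE h2) c1))
      by_cases c2 : ∀ t ∈ T, ⁅t, n * n⁆ ∈ E
      · exact na _ (mul_mem h1 h1) (nS E _ (nE (mul_mem h2 h2)) c2)
      push Not at c1 c2
      have p2 := pp _ (mul_mem h1 h1) (mul_mem h3 h3)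
      have k1 := g1 n (pp n h1 h3) c1
      obtain ⟨t, ht, hn⟩ := c1
      have t2 : t * t = 1 := ln.elT t ht
      have e := k1.2.2.2 t ht _ (p2 t ht) ((g1 _ p2 c2).1 t ht (by
        rintro rfl
        exact hn (by simp))) (by
        rw [show t * ⁅t, n * n⁆ = (t * t) * (n * n * t⁻¹ * (n * n)⁻¹) by
          rw [commutatorElement_def]; group, t2, one_mul, conj_mul, ← mul_inv_rev, t2]
        group)
      have e1 := conj_mem_of_mem_normalizer' (nE h2)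
        (conj_mem_of_mem_normalizer' (nE (ar.nr ht)) e)
      refine absurd ?_ hn
      have ti : t⁻¹ = t := inv_eq_of_mul_eq_one_right t2
      have e2 : n⁻¹ * (t⁻¹ * (⁅t, n⁆ * ⁅t, n * n⁆⁻¹) * t) * n = t⁻¹ * n * t⁻¹⁻¹ * n⁻¹ := by
        simp only [commutatorElement_def]
        group
      rwa [e2, ti] at e1
    obtain ⟨k, m, ⟨j, rfl⟩, hm⟩ := Nat.exists_eq_two_pow_mul_odd (orderOf_pos n).ne'
    have l : zpowers (n ^ (2 * j + 1)) ≤ R := ar.syl.le_of_le_normalizer'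
      (isPGroup_zpowers (k := k) (by rw [← pow_mul, mul_comm, ← hm, pow_orderOf_eq_one]))
      (zpowers_le.2 (pow_mem h1 _)) (zpowers_le.2 (pow_mem h2 _))
    have := RE (l (mem_zpowers _))
    rw [pow_succ, pow_mul, pow_two] at this
    exact (mul_mem_cancel_left (pow_mem sq j)).1 this
  let C := Q₁ ⊓ cen E ⊓ nor R
  have nC : ∀ K : Subgroup G, K ≤ nor Q₁ → K ≤ nor R → K ≤ nor C := fun K h1 h2 =>
    le_normalizer_inf (le_normalizer_inf h1 (le_normalizer_centralizer (h2.trans nE)))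
      (h2.trans le_normalizer)
  have TC := nC T TQ ar.nr
  have gM : g ∈ nor (C ⊔ T) := nS C g
    (nC (zpowers g) (zpowers_le.2 (le_normalizer gQ)) (zpowers_le.2 gR) (mem_zpowers g))
    fun t ht => ⟨⟨cQ g gQ t ht, cN _ g (le_normalizer_centralizer le_rfl (nE gR)) TE t ht⟩,
      cN _ g (le_normalizer gR) ar.nr t ht⟩
  have syl : IsSyl 2 (R ⊔ T) (C ⊔ T) :=
    ⟨sup_le_sup_right (le_inf (le_inf ar.syl.le RE) le_normalizer) T, two, fun U hU h1 h2 =>
      le_antisymm (fun x hx => by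
        obtain ⟨c, hc, t, ht, rfl⟩ := (mem_sup_right_norm TC).1 (h2 hx)
        exact mul_mem (mem_sup_left (inR U hU (le_sup_left.trans h1) c
          ((mul_mem_cancel_right (h1 (mem_sup_right ht))).1 hx) hc.1.1)) (mem_sup_right ht)) h1⟩
  obtain ⟨a, ha, m, hm, rfl⟩ := syl.frattini_mem gM
  rw [sup_comm] at hm
  obtain ⟨t, ht, c, hc, rfl⟩ := (mem_sup_left_norm TC).1 hm
  rw [← mul_assoc] at gQ gR ⊢
  exact mul_mem (key _ ((Q₁.mul_mem_cancel_right hc.1.1).1 gQ)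
    (((nor R).mul_mem_cancel_right hc.2).1 gR)
    (mul_mem ha (le_normalizer (mem_sup_right ht)))) hc.1.2

end H91.TeNR
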