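/- SPECTRA (S3535), job SP-COP: the arithmetic of the orders. -/
import Cfsg.Agent.H40.SPSpec

set_option autoImplicit false

namespace H91.SP

open H40.SP

/-- the product of a list of prime powers -/
def prodL : List (ℕ × ℕ) → ℕ
  | [] => 1
  | x :: L => x.1 ^ x.2 * prodL L

/-- the divisors with all prime power parts congruent to one -/
def cands (r : ℕ) : List (ℕ × ℕ) → List ℕ
  | [] => [1]
  | x :: L => ((List.range (x.2 + 1)).filter fun j => x.1 ^ j % r == 1 % r).flatMap fun j =>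
      (cands r L).map fun t => x.1 ^ j * t

def prs : List ℕ := [2, 3, 5, 7, 11, 13, 17, 19, 23, 29, 31, 37, 41, 43, 47, 59, 67, 71, 73, 127,
  178481]

theorem prs_prime : ∀ s ∈ prs, s.Prime := by
  simp only [prs, List.forall_mem_cons, List.not_mem_nil, IsEmpty.forall_iff, implies_true]
  norm_num

def good : List (ℕ × ℕ) → Bool
  | [] => true
  | x :: L => prs.contains x.1 && prodL L % x.1 != 0 && good L

theorem good_cons {x : ℕ × ℕ} {L : List (ℕ × ℕ)} (h : good (x :: L) = true) :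
    x.1.Prime ∧ ¬ x.1 ∣ prodL L ∧ good L = true := by
  simp only [good, Bool.and_eq_true, List.contains_iff_mem, bne_iff_ne, ne_eq] at h
  exact ⟨prs_prime _ h.1.1, fun hd => h.1.2 (Nat.mod_eq_zero_of_dvd hd), h.2⟩

theorem mem_cands {r : ℕ} : ∀ (L : List (ℕ × ℕ)), good L = true → ∀ t, t ∣ prodL L →
    (∀ s, s.Prime → s ^ t.factorization s ≡ 1 [MOD r]) → t ∈ cands r L
  | [], _, t, ht, _ => by simpa [cands, prodL] using ht
  | x :: L, hg, t, ht, h => by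
    obtain ⟨hp, hm, hL⟩ := good_cons hg
    have hm0 : prodL L ≠ 0 := fun e => hm (e ▸ dvd_zero _)
    have ht0 : t ≠ 0 := fun e => by
      rw [e, zero_dvd_iff, prodL] at ht
      exact mul_ne_zero (pow_ne_zero _ hp.ne_zero) hm0 ht
    have e := Nat.ordProj_mul_ordCompl_eq_self t x.1
    have h1 : ordCompl[x.1] t ∣ prodL L :=
      (((Nat.coprime_ordCompl hp ht0).symm.pow_right x.2).dvd_mul_left).1
        ((Nat.ordCompl_dvd t x.1).trans ht)
    have h2 : t.factorization x.1 ≤ x.2 := by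
      have : x.1 ^ t.factorization x.1 ∣ x.1 ^ x.2 :=
        ((((Nat.Prime.coprime_iff_not_dvd hp).2 hm).pow_left _).dvd_mul_right).1
          ((Nat.ordProj_dvd t x.1).trans ht)
      exact (Nat.pow_dvd_pow_iff_le_right hp.one_lt).1 this
    have h3 := mem_cands L hL _ h1 fun s hs => by
      rw [Nat.factorization_ordCompl]
      by_cases hx : s = x.1
      · rw [hx, Finsupp.erase_same, pow_zero]
      · rw [Finsupp.erase_ne hx]
        exact h s hs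
    simp only [cands, List.mem_flatMap, List.mem_filter, List.mem_range, List.mem_map, beq_iff_eq]
    exact ⟨t.factorization x.1, ⟨by omega, h _ hp⟩, _, h3, e⟩

theorem exists_mem_of_pow_dvd {s j : ℕ} (hs : s.Prime) (hj : 0 < j) : ∀ (L : List (ℕ × ℕ)),
    good L = true → s ^ j ∣ prodL L → ∃ x ∈ L, x.1 = s ∧ j ≤ x.2
  | [], _, h => by
    have := (dvd_pow_self s hj.ne').trans h
    exact absurd (Nat.dvd_one.1 this) hs.ne_one
  | x :: L, hg, h => by
    obtain ⟨hp, hm, hL⟩ := good_cons hg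
    by_cases hx : x.1 = s
    · refine ⟨x, List.mem_cons_self, hx, ?_⟩
      rw [prodL, hx] at h
      rw [hx] at hm
      exact (Nat.pow_dvd_pow_iff_le_right hs.one_lt).1
        (((((Nat.Prime.coprime_iff_not_dvd hs).2 hm).pow_left _).dvd_mul_right).1 h)
    · have hc : (s ^ j).Coprime (x.1 ^ x.2) :=
        Nat.Coprime.pow _ _ ((Nat.coprime_primes hs hp).2 (Ne.symm hx))
      obtain ⟨y, hy, h1⟩ := exists_mem_of_pow_dvd hs hj L hL (hc.dvd_mul_left.1 h)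
      exact ⟨y, List.mem_cons_of_mem _ hy, h1⟩

/-- the prime `p` excludes an automorphism of order `r` with a centralizer of odd order -/
structure Tb (n r p : ℕ) : Prop where
  prime : p.Prime
  dvd : p ∣ n
  sq : ¬ p ^ 2 ∣ n
  ne : p ≠ n
  nr : ¬ p ≡ 1 [MOD r]
  odd : ∀ s j, s.Prime → s ≠ 2 → s ≠ p → 0 < j → s ^ j ∣ n → ¬ s ^ j ≡ 1 [MOD p]
  idx : ∀ t, t ∣ n → (∀ s, s.Prime → s ^ t.factorization s ≡ 1 [MOD r]) → t ≡ 1 [MOD p] → t = 1

def chkT (L : List (ℕ × ℕ)) (r p : ℕ) : Bool :=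
  prs.contains p && prodL L % p == 0 && prodL L % p ^ 2 != 0 && p != prodL L && p % r != 1 % r &&
    (L.all fun x => x.1 == 2 || x.1 == p ||
      (List.range (x.2 + 1)).all fun j => j == 0 || x.1 ^ j % p != 1 % p) &&
    (cands r L).all fun t => t == 1 || t % p != 1 % p

theorem tb_of_chk {L : List (ℕ × ℕ)} {r p : ℕ} (hg : good L = true) (h : chkT L r p = true) :
    Tb (prodL L) r p := by
  simp only [chkT, Bool.and_eq_true, List.contains_iff_mem, bne_iff_ne, ne_eq, beq_iff_eq,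
    List.all_eq_true, Bool.or_eq_true, List.mem_range] at h
  obtain ⟨⟨⟨⟨⟨⟨h1, h2⟩, h3⟩, h4⟩, h5⟩, h6⟩, h7⟩ := h
  refine ⟨prs_prime _ h1, Nat.dvd_of_mod_eq_zero h2, fun hd => h3 (Nat.mod_eq_zero_of_dvd hd), h4,
    h5, fun s j hs s2 sp hj hd => ?_, fun t ht hs hp => ?_⟩
  · obtain ⟨x, hx, rfl, hjx⟩ := exists_mem_of_pow_dvd hs hj L hg hd
    rcases h6 x hx with (h | h) | h
    · exact absurd h s2
    · exact absurd h sp
    · exact (h j (by omega)).resolve_left hj.ne'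
  · exact (h7 t (mem_cands L hg t ht hs)).resolve_right fun h => h hp

/-- factorization, exponent of `2`, the possible `r` and the prime `p` -/
def tab : List (List (ℕ × ℕ) × ℕ × ℕ × ℕ) :=
  [([(2, 4), (3, 2), (5, 1), (11, 1)], 4, 1, 2),
   ([(2, 6), (3, 3), (5, 1), (11, 1)], 6, 7, 11),
   ([(2, 7), (3, 2), (5, 1), (7, 1), (11, 1)], 7, 1, 2),
   ([(2, 7), (3, 2), (5, 1), (7, 1), (11, 1), (23, 1)], 7, 1, 2),
   ([(2, 10), (3, 3), (5, 1), (7, 1), (11, 1), (23, 1)], 10, 31, 23),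
   ([(2, 3), (3, 1), (5, 1), (7, 1), (11, 1), (19, 1)], 3, 1, 2),
   ([(2, 7), (3, 3), (5, 2), (7, 1)], 7, 1, 2),
   ([(2, 7), (3, 5), (5, 1), (17, 1), (19, 1)], 7, 1, 2),
   ([(2, 21), (3, 3), (5, 1), (7, 1), (11, 3), (23, 1), (29, 1), (31, 1), (37, 1), (43, 1)], 21, 127, 37),
   ([(2, 21), (3, 9), (5, 4), (7, 2), (11, 1), (13, 1), (23, 1)], 21, 127, 23),
   ([(2, 18), (3, 6), (5, 3), (7, 1), (11, 1), (23, 1)], 18, 73, 23),
   ([(2, 10), (3, 7), (5, 3), (7, 1), (11, 1), (23, 1)], 10, 31, 23),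
   ([(2, 17), (3, 9), (5, 2), (7, 1), (11, 1), (13, 1)], 17, 1, 2),
   ([(2, 18), (3, 13), (5, 2), (7, 1), (11, 1), (13, 1), (17, 1), (23, 1)], 18, 73, 17),
   ([(2, 21), (3, 16), (5, 2), (7, 3), (11, 1), (13, 1), (17, 1), (23, 1), (29, 1)], 21, 127, 29),
   ([(2, 9), (3, 2), (5, 3), (7, 1), (11, 1)], 9, 1, 2),
   ([(2, 7), (3, 6), (5, 3), (7, 1), (11, 1)], 7, 1, 2),
   ([(2, 10), (3, 3), (5, 2), (7, 3), (17, 1)], 10, 31, 17),
   ([(2, 14), (3, 3), (5, 3), (7, 1), (13, 1), (29, 1)], 14, 127, 29),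
   ([(2, 13), (3, 7), (5, 2), (7, 1), (11, 1), (13, 1)], 13, 1, 2),
   ([(2, 9), (3, 4), (5, 1), (7, 3), (11, 1), (19, 1), (31, 1)], 9, 1, 2),
   ([(2, 14), (3, 6), (5, 6), (7, 1), (11, 1), (19, 1)], 14, 127, 19),
   ([(2, 8), (3, 7), (5, 6), (7, 1), (11, 1), (31, 1), (37, 1), (67, 1)], 8, 1, 2),
   ([(2, 15), (3, 10), (5, 3), (7, 2), (13, 1), (19, 1), (31, 1)], 15, 1, 2),
   ([(2, 41), (3, 13), (5, 6), (7, 2), (11, 1), (13, 1), (17, 1), (19, 1), (23, 1), (31, 1), (47, 1)], 41, 1, 2),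
   ([(2, 46), (3, 20), (5, 9), (7, 6), (11, 2), (13, 3), (17, 1), (19, 1), (23, 1), (29, 1), (31, 1), (41, 1), (47, 1), (59, 1), (71, 1)], 46, 178481, 59),
   ([(2, 11), (3, 3), (5, 2), (13, 1)], 11, 1, 2)]

def chkA (x : List (ℕ × ℕ) × ℕ × ℕ × ℕ) : Bool :=
  good x.1 && prodL x.1 % 2 ^ x.2.1 == 0 && prodL x.1 % 2 ^ (x.2.1 + 1) != 0 &&
    (prodL x.1 % (2 ^ x.2.1 - 1) == 0 || (prodL x.1 != 175560 &&
      ((List.range x.2.1).all fun b => b == 0 ||
        prodL x.1 * x.2.2.1 % Nat.gcd (2 ^ x.2.1 - 1) (2 ^ b - 1) == 0) &&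
      (x.2.2.1 == 1 || (prs.contains x.2.2.1 && chkT x.1 x.2.2.1 x.2.2.2))))

theorem tab_ords : tab.map (fun x => prodL x.1) = ords := by decide +kernel

theorem tab_chk : tab.all chkA = true := by decide +kernel

theorem exists_tb {n r : ℕ} (hn : n ∈ ords) (hr : r.Prime) (hrn : ¬ r ∣ n)
    (ha : 2 ^ n.factorization 2 ≡ 1 [MOD r])
    (hb : n ≠ 175560 → ∃ b, 0 < b ∧ b < n.factorization 2 ∧ 2 ^ b ≡ 1 [MOD r]) :
    ∃ p, Tb n r p := by
  rw [← tab_ords, List.mem_map] at hn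
  obtain ⟨⟨L, a, r0, p⟩, hx, rfl⟩ := hn
  have h := List.all_eq_true.1 tab_chk _ hx
  simp only [chkA, Bool.and_eq_true, List.contains_iff_mem, bne_iff_ne, ne_eq, beq_iff_eq,
    List.all_eq_true, Bool.or_eq_true, List.mem_range] at h ha hb hrn ⊢
  obtain ⟨⟨⟨hg, h1⟩, h2⟩, h3⟩ := h
  have h0 : prodL L ≠ 0 := fun e => h2 (by rw [e, Nat.zero_mod])
  have ea : (prodL L).factorization 2 = a := by
    have a1 := (Nat.prime_two.pow_dvd_iff_le_factorization h0).1 (Nat.dvd_of_mod_eq_zero h1)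
    have a2 : ¬ a + 1 ≤ (prodL L).factorization 2 := fun hl =>
      h2 (Nat.mod_eq_zero_of_dvd ((Nat.prime_two.pow_dvd_iff_le_factorization h0).2 hl))
    omega
  rw [ea] at ha hb
  have d1 : r ∣ 2 ^ a - 1 := (Nat.modEq_iff_dvd' Nat.one_le_two_pow).1 ha.symm
  rcases h3 with h3 | ⟨⟨h3, h4⟩, h5⟩
  · exact absurd (d1.trans (Nat.dvd_of_mod_eq_zero h3)) hrn
  · obtain ⟨b, b0, ba, hb⟩ := hb h3
    have d2 : r ∣ 2 ^ b - 1 := (Nat.modEq_iff_dvd' Nat.one_le_two_pow).1 hb.symm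
    have d3 : r ∣ r0 := ((hr.dvd_mul).1 ((Nat.dvd_gcd d1 d2).trans
      (Nat.dvd_of_mod_eq_zero ((h4 b ba).resolve_left b0.ne')))).resolve_left hrn
    rcases h5 with h5 | ⟨h5, h6⟩
    · rw [h5] at d3
      exact absurd (Nat.dvd_one.1 d3) hr.ne_one
    · rw [(Nat.prime_dvd_prime_iff_eq hr (prs_prime _ h5)).1 d3]
      exact ⟨p, tb_of_chk hg h6⟩

theorem ords_even : ∀ n ∈ ords, 2 ∣ n ∧ n ≠ 2 := by decide +kernel

end H91.SP
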