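/- SPECTRA (S3535), job SP-COP: coprime automorphisms of prime order centralize an involution. -/
import Cfsg.Agent.H91.SPNum
import Cfsg.Agent.H83.OrdA
import Cfsg.Agent.H1.InvSylow
import Cfsg.Agent.S0205
import Cfsg.Agent.H2.MinNormal
import Cfsg.Agent.H98.Sylow

set_option autoImplicit false

namespace H91.SP

open H40.SP Subgroup H98

universe u

section

variable {A : Type*} [Group A] [Finite A]

theorem inv_syl {U J : Subgroup A} {y : A} {r : ℕ} (hr : r.Prime) (hy : orderOf y = r)
    (hU : y ∈ normalizer (U : Set A)) (hrU : ¬ r ∣ Nat.card U) (s : ℕ) [Fact s.Prime]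
    (hJ : IsPGroup s J) (hJU : J ≤ U) (hJy : y ∈ normalizer (J : Set A)) :
    ∃ Q, IsSyl s Q U ∧ J ≤ Q ∧ y ∈ normalizer (Q : Set A) := by
  obtain ⟨P, h1, h2⟩ := H1.exists_invariant_sylow_ge_subgroup (zpowers y) U (zpowers_le.2 hU)
    (by rw [Nat.card_zpowers, hy]; exact (Nat.Prime.coprime_iff_not_dvd hr).2 hrU)
    (.inl (Group.isSolvable_of_comm fun a b => mul_comm' a b)) s J hJU hJ (zpowers_le.2 hJy)
  exact ⟨_, isSyl_map_subtype P, h1, h2 (mem_zpowers y)⟩

theorem mem_nor_of_le_cent {J : Subgroup A} {y : A} (h : J ≤ centralizer ({y} : Set A)) :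
    y ∈ normalizer (J : Set A) :=
  centralizer_le_normalizer _ (mem_centralizer_iff.2 fun g hg =>
    (mem_centralizer_iff.1 (h hg) y rfl).symm)

theorem mem_nor_inf {U V : Subgroup A} {y : A} (hU : y ∈ normalizer (U : Set A))
    (hV : y ∈ normalizer (V : Set A)) : y ∈ normalizer ((U ⊓ V : Subgroup A) : Set A) :=
  mem_normalizer_iff.2 fun g => by
    rw [mem_inf, mem_inf, ← mem_normalizer_iff.1 hU g, ← mem_normalizer_iff.1 hV g]

theorem mem_nor_cent {U : Subgroup A} {y : A} (hU : y ∈ normalizer (U : Set A)) :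
    y ∈ normalizer ((centralizer (U : Set A) : Subgroup A) : Set A) := by
  have key : ∀ z ∈ normalizer (U : Set A), ∀ g ∈ centralizer (U : Set A),
      z * g * z⁻¹ ∈ centralizer (U : Set A) := fun z hz g hg => mem_centralizer_iff.2 fun x hx => by
    have h1 : z⁻¹ * x * z⁻¹⁻¹ ∈ U := (mem_normalizer_iff.1 (inv_mem hz) x).1 hx
    have h2 := mem_centralizer_iff.1 hg _ h1
    calc x * (z * g * z⁻¹) = z * (z⁻¹ * x * z⁻¹⁻¹ * g) * z⁻¹ := by group
      _ = z * g * z⁻¹ * x := by rw [h2]; group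
  refine mem_normalizer_iff.2 fun g => ⟨key y hU g, fun h => ?_⟩
  simpa [mul_assoc] using key y⁻¹ (inv_mem hU) _ h

theorem part_modEq {U : Subgroup A} {y : A} {r : ℕ} (hr : r.Prime) (hy : orderOf y = r)
    (hU : y ∈ normalizer (U : Set A)) (hrU : ¬ r ∣ Nat.card U) {s : ℕ} (hs : s.Prime) :
    s ^ (Nat.card U).factorization s ≡
      s ^ (Nat.card ↥(U ⊓ centralizer ({y} : Set A))).factorization s [MOD r] := by
  have := Fact.mk hs
  have := Fact.mk hr
  obtain ⟨J, hJ⟩ := exists_isSyl s (U ⊓ centralizer ({y} : Set A))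
  obtain ⟨Q, hQ, hJQ, hyQ⟩ := inv_syl hr hy hU hrU s hJ.isPGroup (hJ.le.trans inf_le_left)
    (mem_nor_of_le_cent (hJ.le.trans inf_le_right))
  have e : Q ⊓ centralizer ({y} : Set A) = J :=
    hJ.eq_of_le (hQ.isPGroup.to_le inf_le_left) (le_inf hJQ (hJ.le.trans inf_le_right))
      (inf_le_inf_right _ hQ.le)
  have h := H83.Ord.conj_modEq (p := r) (by rw [← hy, pow_orderOf_eq_one]) hyQ
  rwa [e, hQ.card_eq, hJ.card_eq] at h

theorem normal_of_solv [Group.IsSolvable A] {p : ℕ} (hp : p.Prime) {P : Subgroup A}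
    (hP : Nat.card P = p) (h2 : ¬ p ^ 2 ∣ Nat.card A)
    (h : ∀ s j, s.Prime → s ≠ p → 0 < j → s ^ j ∣ Nat.card A → ¬ s ^ j ≡ 1 [MOD p]) :
    P.Normal := by
  have := Fact.mk hp
  have hPp : IsPGroup p P := IsPGroup.of_card (n := 1) (by rw [hP, pow_one])
  have key : ∀ Q : Subgroup A, IsPGroup p Q → P ≤ Q → Q = P := fun Q hQ hPQ => by
    obtain ⟨k, hk⟩ := hQ.exists_card_eq
    have h3 : k ≤ 1 := by
      by_contra hl
      exact h2 ((pow_dvd_pow p (by omega)).trans (hk ▸ card_subgroup_dvd_card Q))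
    refine (eq_of_le_of_card_ge hPQ ?_).symm
    rw [hP, hk]
    calc p ^ k ≤ p ^ 1 := Nat.pow_le_pow_right hp.pos h3
      _ = p := pow_one p
  have hO : Cfsg.pCore p A ≤ P := by
    exact le_sup_right.trans (key _ (hPp.to_sup_of_normal_right (H2.pCore_isPGroup p A))
      le_sup_left).le
  have hc : IsCyclic P := isCyclic_of_prime_card hP
  have hF : Cfsg.fittingSubgroup A ≤ centralizer (P : Set A) := by
    rw [H2.fitting_eq_iSup_pCore]
    refine iSup_le fun q => ?_
    by_cases hq : q.1 = p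
    · rw [hq]
      exact hO.trans fun a ha => mem_centralizer_iff.2 fun b hb =>
        congrArg Subtype.val (hc.isMulCommutative.is_comm.comm (⟨b, hb⟩ : P) ⟨a, ha⟩)
    · have := Fact.mk q.2
      obtain ⟨k, hk⟩ := (H2.pCore_isPGroup q.1 A).exists_card_eq
      refine fun a ha => mem_centralizer_iff.2 fun b hb => ?_
      have hb1 : b ^ p = 1 := by
        have := pow_card_eq_one' (G := P) (x := ⟨b, hb⟩)
        rw [hP] at this
        exact congrArg Subtype.val this
      refine mem_centralizer_iff.1 (H83.Ord.le_cent_of_modEq q.2 hb1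
        (K := Cfsg.pCore q.1 A) (by rw [normalizer_eq_top]; trivial) hk (fun j hj e => ?_) ha) b rfl
      refine h q.1 (k - j) q.2 hq (by omega) ((pow_dvd_pow _ (by omega)).trans
        (hk ▸ card_subgroup_dvd_card _)) ?_
      refine Nat.ModEq.cancel_left_of_coprime (c := q.1 ^ j)
        (((Nat.coprime_primes hp q.2).2 (Ne.symm hq)).pow_right j) ?_
      rwa [← pow_add, mul_one, Nat.add_sub_cancel' hj.le]
  have h3 : P ≤ Cfsg.pCore p A := H2.le_pCore_of_le_fitting hPp
    ((le_centralizer_iff.1 hF).trans (H2.centralizer_fitting_le A))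
  rw [le_antisymm h3 hO]
  infer_instance

end

theorem jobCOP (hS : JobSyl.{u}) : JobCOP.{u} := by
  intro A _ _ S hs hn y hy r hr hyr hrS
  by_contra h2
  have := Fact.mk hr
  have hy1 : y ^ r = 1 := by rw [← hyr, pow_orderOf_eq_one]
  obtain ⟨ev, -⟩ := ords_even _ hn
  have r2 : r ≠ 2 := fun e => hrS (e ▸ ev)
  have hodd : ¬ 2 ∣ Nat.card ↥(S ⊓ centralizer ({y} : Set A)) := fun hd => by
    obtain ⟨g, hg, og⟩ := H83.Ord.exists_orderOf_mem Nat.prime_two hd
    have hc : Commute y g := mem_centralizer_iff.1 hg.2 y rfl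
    exact h2 ⟨y * g, by
      rw [hc.orderOf_mul_eq_mul_orderOf_of_coprime, hyr, og]
      rw [hyr, og]
      exact (Nat.coprime_primes hr Nat.prime_two).2 r2⟩
  have ha : 2 ^ (Nat.card S).factorization 2 ≡ 1 [MOD r] := by
    have := part_modEq hr hyr hy hrS Nat.prime_two
    rwa [Nat.factorization_eq_zero_of_not_dvd hodd, pow_zero] at this
  obtain ⟨p, tb⟩ := exists_tb hn hr hrS ha fun hJ => by
    obtain ⟨T, hT, -, hyT⟩ := inv_syl hr hyr hy hrS 2 (J := ⊥) IsPGroup.of_bot bot_le
      (mem_nor_of_le_cent bot_le)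
    have hZ : IsPGroup 2 ↥(T ⊓ centralizer (T : Set A)) := hT.isPGroup.to_le inf_le_left
    obtain ⟨b, hb⟩ := hZ.exists_card_eq
    have hT0 : T ≠ ⊥ := fun e => hT.eq_bot_iff.1 e ev
    have h1 := H83.Ord.conj_modEq hy1 (mem_nor_inf hyT (mem_nor_cent hyT))
    have h3 : Nat.card ↥(T ⊓ centralizer (T : Set A) ⊓ centralizer ({y} : Set A)) = 1 := by
      obtain ⟨c, hc⟩ := (hZ.to_le (inf_le_left (b := centralizer ({y} : Set A)))).exists_card_eq
      rcases c with _ | c
      · rw [hc, pow_zero]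
      · refine absurd ((dvd_pow_self 2 c.succ_ne_zero).trans ?_) hodd
        rw [← hc]
        exact card_dvd_of_le (inf_le_inf_right _ (inf_le_left.trans hT.le))
    rw [h3, hb] at h1
    refine ⟨b, Nat.pos_of_ne_zero fun e => ?_, ?_, h1⟩
    · have := hT.isPGroup.isNilpotent
      have h4 := H2.inf_inf_centralizer_ne_bot (N := T) (K := T) le_normalizer
        (by rwa [inf_idem])
      rw [inf_idem] at h4
      rw [e, pow_zero, card_eq_one] at hb
      exact h4 hb
    · by_contra hl
      have h4 : T ⊓ centralizer (T : Set A) = T := eq_of_le_of_card_ge inf_le_left (by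
        rw [hb, hT.card_eq]
        exact Nat.pow_le_pow_right two_pos (by omega))
      obtain ⟨P, hP⟩ := hT.exists_sylow_map
      refine (hS S hs hn P).2.2 hJ ⟨⟨fun a c => Subtype.ext (Subtype.ext ?_)⟩⟩
      have ha : (a.1 : A) ∈ T := hP ▸ mem_map_of_mem S.subtype a.2
      have hc : (c.1 : A) ∈ T := hP ▸ mem_map_of_mem S.subtype c.2
      exact mem_centralizer_iff.1 ((inf_eq_left.1 h4) hc) _ ha
  have hp := tb.prime
  have := Fact.mk hp
  have n0 : Nat.card S ≠ 0 := Nat.card_pos.ne'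
  obtain ⟨P, hP, -, hyP⟩ := inv_syl hr hyr hy hrS p (J := ⊥) IsPGroup.of_bot bot_le
    (mem_nor_of_le_cent bot_le)
  have cP : Nat.card P = p := by
    have a1 := (hp.pow_dvd_iff_le_factorization n0 (k := 1)).1 (by simpa using tb.dvd)
    have a2 : ¬ 2 ≤ (Nat.card S).factorization p := fun hl =>
      tb.sq ((hp.pow_dvd_iff_le_factorization n0).2 hl)
    rw [hP.card_eq, show (Nat.card S).factorization p = 1 by omega, pow_one]
  have hPy : P ≤ centralizer ({y} : Set A) :=
    H83.Ord.le_cent_of_modEq (k := 1) hp hy1 hyP (by rw [cP, pow_one]) fun j hj e => by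
      rw [show j = 0 by omega, pow_zero, pow_one] at e
      exact tb.nr e
  have hPH : P ≤ S ⊓ centralizer ({y} : Set A) := le_inf hP.le hPy
  have dH : Nat.card ↥(S ⊓ centralizer ({y} : Set A)) ∣ Nat.card S := card_dvd_of_le inf_le_left
  have hHN : S ⊓ centralizer ({y} : Set A) ≤ normalizer (P : Set A) := by
    have := Cfsg.Agent.S0205.result (G := ↥(S ⊓ centralizer ({y} : Set A)))
      (Nat.odd_iff.2 (Nat.two_dvd_ne_zero.1 hodd))
    refine (normal_subgroupOf_iff_le_normalizer hPH).1 (normal_of_solv hp ?_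
      (fun hd => tb.sq (hd.trans dH)) fun s j hs sp hj hd => tb.odd s j hs ?_ sp hj (hd.trans dH))
    · rw [Nat.card_congr (subgroupOfEquivOfLe hPH).toEquiv, cP]
    · rintro rfl
      exact hodd ((dvd_pow_self 2 hj.ne').trans hd)
  have hyN : y ∈ normalizer ((S ⊓ normalizer (P : Set A) : Subgroup A) : Set A) :=
    mem_nor_inf hy (le_normalizer hyP)
  have eN : S ⊓ normalizer (P : Set A) ⊓ centralizer ({y} : Set A) =
      S ⊓ centralizer ({y} : Set A) :=
    le_antisymm (inf_le_inf_right _ inf_le_left) (le_inf (le_inf inf_le_left hHN) inf_le_right)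
  obtain ⟨Q, hQ⟩ := hP.exists_sylow
  have eQ : normalizer ((Q : Subgroup S) : Set S) = (S ⊓ normalizer (P : Set A)).subgroupOf S := by
    rw [hQ, ← subgroupOf_normalizer_eq hP.le, inf_subgroupOf_left]
  have cN : Nat.card (normalizer ((Q : Subgroup S) : Set S)) =
      Nat.card ↥(S ⊓ normalizer (P : Set A)) := by
    rw [eQ, Nat.card_congr (subgroupOfEquivOfLe inf_le_left).toEquiv]
  have hm := card_mul_index (normalizer ((Q : Subgroup S) : Set S))
  have h1 : (normalizer ((Q : Subgroup S) : Set S)).index = 1 := by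
    refine tb.idx _ (index_dvd_card _) (fun s hs' => ?_) ?_
    · have e1 := part_modEq hr hyr hy hrS hs'
      have e2 := part_modEq hr hyr hyN
        (fun hd => hrS (hd.trans (card_dvd_of_le inf_le_left))) hs'
      rw [eN, ← cN] at e2
      rw [← hm, Nat.factorization_mul Nat.card_pos.ne' index_ne_zero_of_finite, Finsupp.add_apply,
        pow_add] at e1
      by_cases hsr : s = r
      · rw [Nat.factorization_eq_zero_of_not_dvd, pow_zero]
        exact fun hd => hrS (hsr ▸ hd.trans (index_dvd_card _))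
      · refine Nat.ModEq.cancel_left_of_coprime (c := s ^ (Nat.card
          (normalizer ((Q : Subgroup S) : Set S))).factorization s)
          (((Nat.coprime_primes hr hs').2 (Ne.symm hsr)).pow_right _) ?_
        rw [mul_one]
        exact e1.trans e2.symm
    · have := card_sylow_modEq_one p S
      rwa [Q.card_eq_index_normalizer] at this
  have cQ : Nat.card (Q : Subgroup S) = p := by
    rw [hQ, Nat.card_congr (subgroupOfEquivOfLe hP.le).toEquiv, cP]
  rcases (normalizer_eq_top_iff.1 (index_eq_one.1 h1)).eq_bot_or_eq_top with e | e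
  · rw [e, card_bot] at cQ
    exact hp.ne_one cQ.symm
  · rw [e, card_top] at cQ
    exact tb.ne cQ.symm

end H91.SP
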