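/- SPECTRA (S3535), job SP-COP: reduction to an almost simple quotient. -/
import Cfsg.Agent.H91.SPCop
import Cfsg.Agent.H89.MinNormal

set_option autoImplicit false

namespace H91.SP

open H40.SP Subgroup H98 Function

universe u

theorem exists_lift {X Y Z : Type*} [Group X] [Group Y] [Group Z] (f : X →* Y)
    (hf : Surjective f) (φ : X →* Z) (h : f.ker ≤ φ.ker) : ∃ ψ : Y →* Z, ∀ x, ψ (f x) = φ x :=
  ⟨f.liftOfSurjective hf ⟨φ, h⟩, fun x => f.liftOfRightInverse_comp_apply _ _ ⟨φ, h⟩ x⟩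

/-- a quotient in which a minimal subnormal cover of `S` lies in every nontrivial normal
subgroup -/
theorem red1 {S : Type*} [Group S] [IsSimpleGroup S] (n : ℕ) : ∀ (A : Type u) [Group A] [Finite A],
    Nat.card A = n → (∃ H : Subgroup A, H.IsSubnormal ∧ ∃ φ : H →* S, Surjective φ) →
    ∃ (B : Type u) (_ : Group B) (π : A →* B), Surjective π ∧ ∃ H : Subgroup B, H.IsSubnormal ∧
      ∃ φ : H →* S, Surjective φ ∧ (∀ M : Subgroup H, M.Normal → M ≠ ⊤ → M ≤ φ.ker) ∧
        ∀ K : Subgroup B, K.Normal → K ≠ ⊥ → H ≤ K := by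
  induction n using Nat.strong_induction_on with
  | _ n ih =>
  intro A _ _ hA hex
  obtain ⟨H, ⟨hH, φ, hφ⟩, hmin⟩ := H2.exists_minimal_subgroup _ hex
  have hM : ∀ M : Subgroup H, M.Normal → M ≠ ⊤ → M ≤ φ.ker := fun M hM hne => by
    rcases (hM.map φ hφ).eq_bot_or_eq_top with e | e
    · exact (Subgroup.map_eq_bot_iff _).1 e
    · refine absurd ?_ hne
      have h1 := hmin (M.map H.subtype) ⟨hM.isSubnormal.trans' hH,
        φ.comp (inclusion (map_subtype_le M)), fun s => by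
          obtain ⟨m, hm, rfl⟩ : s ∈ M.map φ := e ▸ mem_top s
          exact ⟨⟨m, mem_map_of_mem _ hm⟩, rfl⟩⟩ (map_subtype_le M)
      refine map_injective H.subtype_injective ?_
      rw [h1, ← MonoidHom.range_eq_map, range_subtype]
  by_cases hK : ∀ K : Subgroup A, K.Normal → K ≠ ⊥ → H ≤ K
  · exact ⟨A, inferInstance, MonoidHom.id A, surjective_id, H, hH, φ, hφ, hM, hK⟩
  push Not at hK
  obtain ⟨K, hK, K0, hHK⟩ := hK
  obtain ⟨ψ, hψ⟩ := exists_lift ((QuotientGroup.mk' K).subgroupMap H)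
    (MonoidHom.subgroupMap_surjective _ H) φ (le_trans (fun x hx => by
      have := congrArg Subtype.val (MonoidHom.mem_ker.1 hx)
      exact (QuotientGroup.eq_one_iff x.1).1 this)
      (hM (K.subgroupOf H) inferInstance fun e => hHK (subgroupOf_eq_top.1 e)))
  obtain ⟨B, _, π, hπ, h⟩ := ih (Nat.card (A ⧸ K)) (by
    rw [← hA, K.card_eq_card_quotient_mul_card_subgroup]
    exact lt_mul_of_one_lt_right Nat.card_pos ((one_lt_card_iff_ne_bot K).2 K0)) (A ⧸ K) rfl
    ⟨_, hH.quotient, ψ, fun s => by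
      obtain ⟨x, rfl⟩ := hφ s
      exact ⟨_, hψ x⟩⟩
  exact ⟨B, inferInstance, π.comp (QuotientGroup.mk' K),
    hπ.comp (QuotientGroup.mk'_surjective K), h⟩

/-- a component isomorphic to `S` -/
theorem red2 {S A : Type*} [Group S] [IsSimpleGroup S] [Group A] [Finite A] {H : Subgroup A}
    (hH : H.IsSubnormal) {φ : H →* S} (hφ : Surjective φ)
    (hM : ∀ M : Subgroup H, M.Normal → M ≠ ⊤ → M ≤ φ.ker)
    (hK : ∀ K : Subgroup A, K.Normal → K ≠ ⊥ → H ≤ K) :
    ∃ T K : Subgroup A, K.Normal ∧ T ≤ K ∧ K ≤ normalizer (T : Set A) ∧ Nonempty (T ≃* S) := by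
  classical
  have : Nontrivial H := hφ.nontrivial
  obtain ⟨x, x1⟩ := exists_ne (1 : H)
  obtain ⟨K, -, hKm⟩ := H89.exists_isMinNormal_le (⊤ : Subgroup A) inferInstance fun e =>
    x1 (Subtype.ext (mem_bot.1 (e ▸ mem_top x.1)))
  obtain ⟨T, _, m, hT, -, ⟨e⟩⟩ := hKm.exists_pow_simple
  have hHK : H ≤ K := hK K hKm.1 hKm.2
  obtain ⟨i, hi⟩ : ∃ i, e (inclusion hHK x) i ≠ 1 := by
    by_contra h
    push Not at h
    have h1 : e (inclusion hHK x) = 1 := funext h
    rw [map_eq_one_iff _ e.injective, map_eq_one_iff _ (inclusion_injective hHK)] at h1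
    exact x1 h1
  let q : K →* T := (Pi.evalMonoidHom (fun _ => T) i).comp e.toMonoidHom
  have hq : Surjective q := fun t => ⟨e.symm fun _ => t, by simp [q]⟩
  have hs : Surjective (q.comp (inclusion hHK)) := by
    rcases (IsSubnormal.map hq (hH.subgroupOf (K := K))).eq_bot_or_top_of_isSimpleGroup hT with
      h | h
    · exact absurd ((Subgroup.map_eq_bot_iff _).1 h (x := inclusion hHK x) x.2) hi
    · intro t
      obtain ⟨k, hk, rfl⟩ : t ∈ (H.subgroupOf K).map q := h ▸ mem_top t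
      exact ⟨⟨k, hk⟩, rfl⟩
  obtain ⟨ψ, hψ⟩ := exists_lift _ hs φ (hM _ inferInstance fun h =>
    hi (MonoidHom.mem_ker.1 (h ▸ mem_top x : x ∈ (q.comp (inclusion hHK)).ker)))
  have ψs : Surjective ψ := fun s => by
    obtain ⟨z, rfl⟩ := hφ s
    exact ⟨_, hψ z⟩
  have ψi : Injective ψ := by
    rcases (inferInstance : ψ.ker.Normal).eq_bot_or_eq_top with h | h
    · exact (MonoidHom.ker_eq_bot_iff ψ).1 h
    · obtain ⟨s, s1⟩ := exists_ne (1 : S)
      obtain ⟨t, rfl⟩ := ψs s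
      exact absurd (MonoidHom.mem_ker.1 (h ▸ mem_top t)) s1
  let f : T →* A := K.subtype.comp (e.symm.toMonoidHom.comp (MonoidHom.mulSingle (fun _ => T) i))
  have hf : Injective f :=
    K.subtype_injective.comp (e.symm.injective.comp (Pi.mulSingle_injective (M := fun _ => T) i))
  have key : ∀ k : K, ∀ t, k.1 * f t * k.1⁻¹ = f (e k i * t * (e k i)⁻¹) := fun k t => by
    have h1 : e k * Pi.mulSingle i t * (e k)⁻¹ = Pi.mulSingle i (e k i * t * (e k i)⁻¹) := by
      funext j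
      by_cases hj : j = i
      · subst hj
        simp
      · simp [Pi.mulSingle_eq_of_ne hj]
    have h2 := congrArg (fun z => (e.symm z).1) h1
    simpa [f] using h2
  refine ⟨f.range, K, hKm.1, ?_, fun k hk => mem_normalizer_iff.2 fun a => ⟨?_, ?_⟩,
    ⟨(MonoidHom.ofInjective hf).symm.trans (MulEquiv.ofBijective ψ ⟨ψi, ψs⟩)⟩⟩
  · rintro _ ⟨t, rfl⟩
    exact (e.symm _).2
  · rintro ⟨t, rfl⟩
    exact ⟨_, (key ⟨k, hk⟩ t).symm⟩
  · rintro ⟨t, ht⟩
    refine ⟨_, (key ⟨k, hk⟩⁻¹ t).symm.trans ?_⟩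
    rw [ht]
    simp [mul_assoc]

section

variable {A : Type u} [Group A] [Finite A] {T K : Subgroup A}

theorem nor_or_comm (hK : K.Normal) (hTK : T ≤ K) (hN : K ≤ normalizer (T : Set A))
    (hT : IsSimpleGroup T) (g : A) :
    g ∈ normalizer (T : Set A) ∨ ∀ a ∈ T, ∀ b ∈ T, Commute a (g * b * g⁻¹) := by
  have h1 : ∀ a ∈ K, ∀ c ∈ cj g T, a * c * a⁻¹ ∈ cj g T := fun a ha c hc => by
    have h2 : g⁻¹ * a * g ∈ K := hK.conj_mem' a ha g
    have h3 := (mem_normalizer_iff.1 (hN h2) _).1 (mem_cj.1 hc)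
    refine mem_cj.2 ?_
    convert h3 using 1
    group
  have hn : ((cj g T).subgroupOf T).Normal := ⟨fun c hc a => h1 a (hTK a.2) c hc⟩
  rcases hn.eq_bot_or_eq_top with e | e
  · refine .inr fun a ha b hb => ?_
    have hc : g * b * g⁻¹ ∈ cj g T := conj_mem_cj hb
    have hcK : g * b * g⁻¹ ∈ K := hK.conj_mem b (hTK hb) g
    have m1 : a * (g * b * g⁻¹) * a⁻¹ * (g * b * g⁻¹)⁻¹ ∈ T := by
      have := mul_mem ha ((mem_normalizer_iff.1 (hN hcK) _).1 (inv_mem ha))
      simpa only [mul_assoc] using this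
    have m2 : (⟨_, m1⟩ : T) ∈ (cj g T).subgroupOf T :=
      mul_mem (h1 a (hTK ha) _ hc) (inv_mem hc)
    rw [e, mem_bot] at m2
    exact commutatorElement_eq_one_iff_commute.1 (congrArg Subtype.val m2)
  · have h2 : T = cj g T := eq_of_le_of_card_ge (subgroupOf_eq_top.1 e) (card_cj g T).le
    exact .inl (cj_eq_self_iff.1 h2.symm)

theorem red3 (hC : JobCOP.{u}) (hK : K.Normal) (hTK : T ≤ K) (hN : K ≤ normalizer (T : Set A))
    (hT : IsSimpleGroup T) (hn : Nat.card T ∈ ords) (hZ : ¬ IsMulCommutative T) {r : ℕ}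
    (hr : r.Prime) (r2 : r ≠ 2) {y : A} (hy : orderOf y = r) (h2 : r * 2 ∉ om A) : T.Normal := by
  have := Fact.mk hr
  have key : ∀ a b : A, Commute a b → orderOf a = r → orderOf b = 2 → False := fun a b hc oa ob =>
    h2 ⟨a * b, by
      rw [hc.orderOf_mul_eq_mul_orderOf_of_coprime, oa, ob]
      rw [oa, ob]
      exact (Nat.coprime_primes hr Nat.prime_two).2 r2⟩
  obtain ⟨t, ht, ot⟩ := H83.Ord.exists_orderOf_mem Nat.prime_two (ords_even _ hn).1
  by_cases hrT : r ∣ Nat.card T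
  · obtain ⟨a, ha, oa⟩ := H83.Ord.exists_orderOf_mem hr hrT
    refine normalizer_eq_top_iff.1 (eq_top_iff.2 fun g _ => ?_)
    refine (nor_or_comm hK hTK hN hT g).resolve_right fun h => key _ _ (h a ha t ht) oa ?_
    exact ((MulAut.conj g).orderOf_eq t).trans ot
  exfalso
  have hyN : y ∉ normalizer (T : Set A) := fun h => h2 (hC A T hT hn y h r hr hy hrT)
  have hg : ∀ g ∈ zpowers y, g ≠ 1 → ∀ a ∈ T, Commute a (g * t * g⁻¹) := fun g hg g1 a ha => by
    refine (nor_or_comm hK hTK hN hT g).resolve_left (fun h => hyN ?_) a ha t ht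
    obtain ⟨k, hk⟩ := mem_zpowers_of_prime_card (G := zpowers y) (p := r)
      (by rw [Nat.card_zpowers, hy]) (g := ⟨g, hg⟩) (g' := ⟨y, mem_zpowers y⟩)
      fun e => g1 (congrArg Subtype.val e)
    have hk' : g ^ k = y := congrArg Subtype.val hk
    exact hk' ▸ zpow_mem h k
  have hc : ∀ i j : ℕ, Commute (y ^ i * t * (y ^ i)⁻¹) (y ^ j * t * (y ^ j)⁻¹) := fun i j => by
    by_cases e : (y ^ i)⁻¹ * y ^ j = 1
    · rw [inv_mul_eq_one.1 e]
    · have h1 := (hg _ (mul_mem (inv_mem (npow_mem_zpowers y i)) (npow_mem_zpowers y j)) e t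
        ht).map (MulAut.conj (y ^ i))
      rw [MulAut.conj_apply, MulAut.conj_apply] at h1
      convert h1 using 1
      group
  let z : ℕ → A := fun n => (t * y) ^ n * (y ^ n)⁻¹
  have z0 : z 0 = 1 := by simp [z]
  have zs : ∀ n, z (n + 1) = z n * (y ^ n * t * (y ^ n)⁻¹) := fun n => by
    simp only [z, pow_succ]
    group
  have t2 : t * t = 1 := by rw [← pow_two, ← ot, pow_orderOf_eq_one]
  have za : ∀ n j : ℕ, Commute (z n) (y ^ j * t * (y ^ j)⁻¹) := fun n j => by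
    induction n with
    | zero => rw [z0]; exact Commute.one_left _
    | succ n ih => rw [zs]; exact ih.mul_left (hc n j)
  have zb : ∀ n, z n ^ 2 = 1 := fun n => by
    induction n with
    | zero => rw [z0, one_pow]
    | succ n ih => rw [zs, (za n n).mul_pow, ih, conj_pow, pow_two t, t2]; group
  have zc : ∀ n, n < r → t⁻¹ * z (n + 1) ∈ centralizer (T : Set A) := fun n hn => by
    induction n with
    | zero => rw [zs, z0]; simp
    | succ n ih =>
      rw [zs, ← mul_assoc]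
      refine mul_mem (ih (by omega)) (mem_centralizer_iff.2 fun a ha => hg _
        (npow_mem_zpowers y _) (pow_ne_one_of_lt_orderOf (by omega) (hy ▸ hn)) a ha)
  have zr : z r = (t * y) ^ r := by simp only [z]; rw [← hy, pow_orderOf_eq_one, inv_one, mul_one]
  have z1 : z r ≠ 1 := fun e => by
    have h1 := zc (r - 1) (by have := hr.pos; omega)
    rw [Nat.sub_add_cancel hr.pos, e, mul_one, inv_mem_iff] at h1
    rcases (inferInstance : (center T).Normal).eq_bot_or_eq_top with h | h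
    · have h3 : (⟨t, ht⟩ : T) ∈ center T :=
        mem_center_iff.2 fun a => Subtype.ext (mem_centralizer_iff.1 h1 a a.2)
      rw [h, mem_bot] at h3
      rw [show t = 1 from congrArg Subtype.val h3, orderOf_one] at ot
      omega
    · exact hZ ⟨⟨fun a b => mem_center_iff.1 (h ▸ mem_top b) a⟩⟩
  have c1 : Commute (z r) t := by simpa using za r 0
  have c2 : Commute (z r) (t * y) := zr ▸ Commute.pow_self _ r
  have c3 : Commute y (z r) := by simpa using (c1.inv_right.mul_right c2).symm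
  exact key _ _ c3 hy (orderOf_eq_prime (zb r) z1)

end

theorem jobRed (h0 : JobR0.{u}) (hC : JobCOP.{u}) : JobRed.{u} := by
  rintro G _ _ H hH N _ hs hn ⟨r, hr, r2, ⟨x, hx⟩, h2⟩
  obtain ⟨A, _, π, hπ, H', hH', φ, hφ, hM, hK⟩ := red1 (S := H ⧸ N) _ G rfl
    ⟨H, hH, QuotientGroup.mk' N, QuotientGroup.mk'_surjective N⟩
  have : Finite A := Finite.of_surjective π hπ
  obtain ⟨T, K, hKn, hTK, hN, ⟨e⟩⟩ := red2 hH' hφ hM hK
  have hT : IsSimpleGroup T := e.isSimpleGroup
  have cT : Nat.card T ∈ ords := by rwa [Nat.card_congr e.toEquiv]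
  have hZ : ∀ {X : Type u} [Group X], IsMulCommutative X → ∀ f : X →* H ⧸ N, ¬ Surjective f :=
    fun {X} _ hX f hf => by
      let _ : CommGroup (H ⧸ N) := ⟨fun a b => by
        obtain ⟨a, rfl⟩ := hf a
        obtain ⟨b, rfl⟩ := hf b
        rw [← map_mul, ← map_mul, hX.is_comm.comm]⟩
      obtain ⟨h3, h4⟩ := ords_even _ hn
      exact h4 ((Nat.prime_dvd_prime_iff_eq Nat.prime_two IsSimpleGroup.prime_card).1 h3).symm
  have hy : orderOf (π x) = r := by
    refine (hr.eq_one_or_self_of_dvd _ (hx ▸ orderOf_map_dvd π x)).resolve_left fun e1 => ?_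
    refine h2 (h0 G A π hπ T hT cT r hr r2 ?_)
    exact hx ▸ π.ker.orderOf_dvd_natCard (orderOf_eq_one_iff.1 e1)
  have hTn : T.Normal := red3 hC hKn hTK hN hT cT (fun h => hZ h e.toMonoidHom e.surjective) hr r2
    hy fun ⟨a, ha⟩ => by
      obtain ⟨g, rfl⟩ := hπ a
      exact h2 ⟨_, orderOf_pow_orderOf_div (orderOf_pos g).ne' (ha ▸ orderOf_map_dvd π g)⟩
  refine ⟨A, inferInstance, π, T, ⟨hπ, hTn, hT, ?_⟩, ⟨e⟩⟩
  by_contra hc
  have h3 := hK T hTn ((nontrivial_iff_ne_bot T).1 inferInstance)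
  have h4 := hK _ inferInstance hc
  exact hZ ⟨⟨fun a b => Subtype.ext (mem_centralizer_iff.1 (h4 b.2) a (h3 a.2))⟩⟩ φ hφ

end H91.SP
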