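import Cfsg.Agent.H73.GSSpec
import Cfsg.Agent.H48.DP3Kit
import Cfsg.Agent.H76.GoldG

/-! S3275, chapter GS, job AM: the amalgam of `Y⟨x, s⟩` and its conjugate. -/

set_option autoImplicit false

namespace H91.GSAm

open Subgroup Cfsg H98 H48.DP H73.GS

universe u

variable {G : Type u} [Group G] [Finite G] {Y : Subgroup G} {x s q : G}

theorem s3 (h : Tq Y x s q) : H48.DP.S3 (Y ⊔ zpowers s) (Y ⊔ zpowers s ⊔ zpowers x) := by
  have two : IsPGroup 2 ↥(Y ⊔ zpowers s) := h.two.to_le le_sup_left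
  have xP : x ∈ Y ⊔ zpowers s ⊔ zpowers x := mem_sup_right (mem_zpowers x)
  refine ⟨le_sup_left, two, le_antisymm ?_ (three_le_relIndex (one_mem _) xP (pow_mem xP 2)
    (by simpa using not_mem_of_three two h.x3)
    (by simpa using not_mem_of_three two (orderOf_sq_three h.x3))
    (by simpa [pow_two] using not_mem_of_three two h.x3)),
    fun e => inv_not_mem two (e xP) h.x3 h.sx (mem_sup_right (mem_zpowers s))⟩
  have n1 : Y ⊔ zpowers s ≤ No (zpowers x ⊔ Y) :=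
    sup_le (le_sup_right.trans le_normalizer) (le_normalizer_sup (zpowers_le.2
      (mem_normalizer_fintype (by
        rintro _ ⟨i, rfl⟩
        change s * x ^ i * s⁻¹ ∈ _
        rw [← conj_zpow, h.sx]
        exact zpow_mem (inv_mem (mem_zpowers x)) i))) (zpowers_le.2 h.sY))
  rw [← h.x3, ← Nat.card_zpowers]
  refine Nat.card_le_card_of_surjective (fun z : zpowers x => (QuotientGroup.mk
    (⟨z.1, mem_sup_right z.2⟩ : ↥(Y ⊔ zpowers s ⊔ zpowers x)) :
      _ ⧸ (Y ⊔ zpowers s).subgroupOf (Y ⊔ zpowers s ⊔ zpowers x))) fun g => ?_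
  obtain ⟨⟨g, hg⟩, rfl⟩ := QuotientGroup.mk_surjective g
  have hg' : g ∈ ((zpowers x ⊔ Y ⊔ (Y ⊔ zpowers s) : Subgroup G) : Set G) :=
    (sup_le le_sup_right (le_sup_left.trans le_sup_left) :
      Y ⊔ zpowers s ⊔ zpowers x ≤ zpowers x ⊔ Y ⊔ (Y ⊔ zpowers s)) hg
  rw [coe_mul_of_right_le_normalizer_left _ _ n1,
    coe_mul_of_left_le_normalizer_right _ _ (zpowers_le.2 h.xY)] at hg'
  obtain ⟨_, ⟨z, hz, y, hy, rfl⟩, t, ht, rfl⟩ := hg'
  refine ⟨⟨z, hz⟩, QuotientGroup.eq.2 (mem_subgroupOf.2 ?_)⟩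
  simpa [mul_assoc] using mul_mem (mem_sup_left hy) ht

theorem o2 (h : Tq Y x s q) : O2 (Y ⊔ zpowers s ⊔ zpowers x) = Y := by
  have l : Y ≤ O2 (Y ⊔ zpowers s ⊔ zpowers x) := le_pCoreOf h.twoY (le_sup_left.trans le_sup_left)
    (sup_le (sup_le le_normalizer (zpowers_le.2 h.sY)) (zpowers_le.2 h.xY))
  exact le_antisymm (fun a ha => (mem_two h.sY h.s2 ((s3 h).o2_le ha)).resolve_right fun e =>
    inv_not_mem (isPGroup_pCoreOf _) (self_le_normalizer_pCoreOf _ (mem_sup_right (mem_zpowers x)))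
      h.x3 h.sx (inv_mem_iff.1 ((mul_mem_cancel_left ha).1 (l e)))) l

theorem jobAM : AM.{u} := by
  intro G _ _ Y x s q h
  have hP := s3 h
  have oP := o2 h
  have qT := h.qT
  have q2 := h.q2
  have YT : Y ≤ Y ⊔ zpowers s := le_sup_left
  have sT : s ∈ Y ⊔ zpowers s := mem_sup_right (mem_zpowers s)
  have xP : x ∈ Y ⊔ zpowers s ⊔ zpowers x := mem_sup_right (mem_zpowers x)
  generalize Y ⊔ zpowers s = T at hP oP qT q2 YT sT xP ⊢
  generalize T ⊔ zpowers x = P at hP oP xP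
  have hR : H48.DP.S3 T (cj q P) := by
    have := hP.cj q
    rwa [cj_eq_self qT] at this
  by_cases hne : P = cj q P
  · exact .inl (cj_eq_self_iff.1 (by rw [← oP, cj_pCoreOf, ← hne]))
  have e : P ⊓ cj q P = T := by
    rcases hP.max (le_inf hP.le hR.le) inf_le_left with e | e
    · exact e
    · rcases hR.max hP.le (inf_eq_left.1 e) with e' | e'
      · exact absurd (e' ▸ le_normalizer) hP.nn
      · exact absurd e' hne
  refine .inr (or_iff_not_imp_right.2 fun hn => e ▸ H76.Gold.goldschmidt (P₁ := P) (P₂ := cj q P)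
    (e ▸ ⟨inferInstance, hP.two, hP.idx, hP.nn⟩) (e ▸ ⟨inferInstance, hR.two, hR.idx, hR.nn⟩)
    fun N k1 k2 k3 => by_contra fun k0 => hn ?_)
  rw [e] at k1
  have k4 : P ≤ No (N ⊔ cj q N) := le_normalizer_sup k2 (by
    have := cj_mono q k3
    rwa [cj_cj, cj_eq_self_of_mem (hP.le q2), cj_normalizer] at this)
  have k5 : N ⊔ cj q N ≤ T := sup_le k1 (cj_le_of_le k1 qT)
  refine ⟨N ⊔ cj q N, fun e => k0 (le_bot_iff.1 (e ▸ le_sup_left)),
    oP ▸ le_pCoreOf (hP.two.to_le k5) (k5.trans hP.le) k4, YT.trans (hP.le.trans k4), k4 xP,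
    k4 (hP.le sT), cj_eq_self_iff.1 ?_⟩
  rw [cj_sup, cj_cj, cj_eq_self (k2 (hP.le q2)), sup_comm]

end H91.GSAm
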