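import Cfsg.Agent.H48.DNASpec

/-! S3275, chapter alpha, job T4b: the trace argument. -/

set_option autoImplicit false

namespace H91.NAT4b

open Subgroup Cfsg H98 H48.DP H48.DP2

universe u

theorem ring7 {R : Type*} [Ring R] {σ A B : R} (h7 : σ ^ 7 = 1) (h : 1 + A + B = 0)
    (hA : A * σ = σ ^ 2 * A) (hB : B * σ = σ ^ 4 * B) : (σ - 1) * 7 = 0 := by
  have pw : ∀ (C : R) (a : ℕ), C * σ = σ ^ a * C → ∀ j, C * σ ^ j = σ ^ (a * j) * C :=
    fun C a e j => by
      rw [pow_mul]
      exact SemiconjBy.pow_right e j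
  have k : ∀ j : ℕ, σ ^ (7 * j) = 1 := fun j => by rw [pow_mul, h7, one_pow]
  have e : ∀ j : ℕ, 1 + σ ^ j * A + σ ^ (3 * j) * B = 0 := fun j => by
    have := congrArg (fun t => σ ^ (6 * j) * (t * σ ^ j)) h
    simp only [add_mul, mul_add, one_mul, zero_mul, mul_zero, pw A 2 hA, pw B 4 hB, ← mul_assoc,
      ← pow_add] at this
    rwa [show 6 * j + j = 7 * j by ring, show 6 * j + 2 * j = 7 * j + j by ring,
      show 6 * j + 4 * j = 7 * j + 3 * j by ring, pow_add, pow_add, k, one_mul, one_mul] at this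
  have n3 : ∑ j ∈ Finset.range 7, σ ^ (3 * j) = ∑ j ∈ Finset.range 7, σ ^ j := by
    simp only [Finset.sum_range_succ, Finset.sum_range_zero]
    rw [pow_eq_pow_mod (3 * 3) h7, pow_eq_pow_mod (3 * 4) h7, pow_eq_pow_mod (3 * 5) h7,
      pow_eq_pow_mod (3 * 6) h7]
    norm_num
    abel
  have s : ∑ j ∈ Finset.range 7, (1 + σ ^ j * A + σ ^ (3 * j) * B) = 0 :=
    Finset.sum_eq_zero fun j _ => e j
  rw [Finset.sum_add_distrib, Finset.sum_add_distrib, ← Finset.sum_mul, ← Finset.sum_mul, n3,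
    Finset.sum_const, Finset.card_range] at s
  have := congrArg (fun t => (σ - 1) * t) s
  simp only [mul_add, ← mul_assoc, mul_geom_sum, h7, sub_self, zero_mul, add_zero, mul_zero] at this
  simpa using this

theorem jobT4b : T4b.{u} := by
  intro G _ _ Z y s h2 hc hy hs y3 fpf s7 hys
  letI : CommGroup Z := { (inferInstance : Group Z) with
    mul_comm := fun a b => Subtype.ext (hc b.2 a a.2) }
  let F : No Z →* AddMonoid.End (Additive Z) :=
    { toFun := fun g => MonoidHom.toAdditive (Z.normalizerMonoidHom g).toMonoidHom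
      map_one' := by rw [map_one]; rfl
      map_mul' := fun a b => by rw [map_mul]; rfl }
  have hF : ∀ (g : No Z) (z : Additive Z), ((F g z).toMul : G) = g * (z.toMul : G) * (g : G)⁻¹ :=
    fun _ _ => rfl
  have one : ∀ g : No Z, (g : G) ∈ Ce Z → F g = 1 := fun g hg => AddMonoidHom.ext fun z =>
    Additive.toMul.injective (Subtype.ext ((hF g z).trans (by
      rw [← hg _ z.toMul.2, mul_inv_cancel_right]; rfl)))
  let a : No Z := ⟨y, hy⟩
  let b : No Z := ⟨s, hs⟩
  have a3 : F a ^ 3 = 1 := by rw [← map_pow, show a ^ 3 = 1 from Subtype.ext y3, map_one]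
  have b7 : F b ^ 7 = 1 := (map_pow F b 7).symm.trans (one _ s7)
  have inj : ∀ w, F a w = w → w = 0 := fun w e1 => by
    have : (w.toMul : G) ∈ Z ⊓ C1 y := ⟨w.toMul.2, mem_centralizer_singleton_iff.2
      (mul_inv_eq_iff_eq_mul.1
        ((hF a w).symm.trans (congrArg (fun t : Additive Z => (t.toMul : G)) e1))).symm⟩
    rw [fpf] at this
    exact Additive.toMul.injective (Subtype.ext (mem_bot.1 this))
  have tr : 1 + F a + F a ^ 2 = 0 := AddMonoidHom.ext fun z => inj _ (by
    have e : F a * (1 + F a + F a ^ 2) = 1 + F a + F a ^ 2 := by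
      rw [mul_add, mul_add, mul_one, ← pow_two, ← pow_succ', a3, add_rotate, add_rotate]
    exact DFunLike.congr_fun e z)
  have cm : ∀ n : ℕ, (s ^ n)⁻¹ * (y * s * y⁻¹) ∈ Ce Z → F a * F b = F b ^ n * F a := fun n h => by
    have := one ((b ^ n)⁻¹ * (a * b * a⁻¹)) h
    rw [← map_mul, show a * b = b ^ n * ((b ^ n)⁻¹ * (a * b * a⁻¹)) * a by group, map_mul, map_mul,
      this, mul_one, map_pow]
  have sq : ∀ n : ℕ, F a * F b = F b ^ n * F a → F a ^ 2 * F b = F b ^ (n * n) * F a ^ 2 :=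
    fun n e => by
      rw [pow_two, mul_assoc, e, ← mul_assoc, (SemiconjBy.pow_right e n).eq, ← pow_mul, mul_assoc]
  have key : (F b - 1) * 7 = 0 := by
    rcases hys with h | h
    · exact ring7 b7 tr (cm 2 h) (sq 2 (cm 2 h))
    · refine ring7 b7 (by rw [add_right_comm, tr]) ?_ (cm 4 h)
      rw [sq 4 (cm 4 h), pow_eq_pow_mod (4 * 4) b7]
  intro z hz
  let w : Additive Z := Additive.ofMul ⟨z, hz⟩
  have e : 7 • (F b w - w) = 0 := by
    have := DFunLike.congr_fun key w
    rw [show (F b - 1) * 7 = 7 • (F b - 1) by rw [nsmul_eq_mul']; rfl] at this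
    exact this
  obtain ⟨k, hk⟩ := h2 (F b w - w).toMul
  have o1 : orderOf (F b w - w).toMul = 1 := Nat.eq_one_of_dvd_coprimes
    (Nat.Coprime.pow_right k (by decide : Nat.Coprime 7 2))
    (orderOf_dvd_of_pow_eq_one (congrArg Additive.toMul e)) (orderOf_dvd_of_pow_eq_one hk)
  have e2 : F b w = w := sub_eq_zero.1 (Additive.toMul.injective (orderOf_eq_one_iff.1 o1))
  exact (mul_inv_eq_iff_eq_mul.1
    ((hF b w).symm.trans (congrArg (fun t : Additive Z => (t.toMul : G)) e2))).symm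

end H91.NAT4b
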