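import Cfsg.Agent.H91.O8W
import Cfsg.Agent.H9.PBasic

/-! Tower `Ω₈⁺(2).3` (row S3372): job A1, the structure of `C(z)`. -/

set_option autoImplicit false
set_option linter.unusedSectionVars false

namespace H91.O8

open Cfsg Subgroup H98 H56.L3 Matrix
open H47.O8 hiding mm
open H47.MC (Nr)
open H42.L43 (mm qi qj qs mm_sq mm_comm)
open scoped commutatorElement

universe u

/-- The relations in `SL₂(3)`. -/
def Tri (β I J : SL23) : Prop := I * I = mm ∧ β * I * β⁻¹ = J ∧ β * J * β⁻¹ = I * J ∧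
  I * J * I⁻¹ = J⁻¹ ∧ (∀ s, s ^ 4 = 1 → ∃ n : Fin 4, s = I ^ n.val ∨ s = J ^ n.val ∨
    s = (I * J) ^ n.val) ∧
  (∀ s, ∃ (a : Fin 4) (b : Fin 2) (c : Fin 3), s = I ^ a.val * J ^ b.val * β ^ c.val) ∧
  β ^ 3 = 1 ∧ ∀ s, s ^ 3 = 1 → (s * β) ^ 3 = 1 → ∃ c : Fin 3, s = β ^ c.val

theorem tri {β : SL23} (h : β = qs ∨ β = qs⁻¹) : ∃ I J, Tri β I J := by
  rcases h with rfl | rfl
  exacts [⟨qi, qj, by unfold Tri; decide +kernel⟩, ⟨qj⁻¹, qi⁻¹, by unfold Tri; decide +kernel⟩]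

theorem three_of (n : ℕ) : ∀ s : SL23, s ^ 3 ^ n = 1 → s ^ 3 = 1 := by
  have key : ∀ s : SL23, (s ^ 3) ^ 3 = 1 → s ^ 3 = 1 := by decide +kernel
  induction n with
  | zero => exact fun s h => by rw [show s = 1 by simpa using h, one_pow]
  | succ n ih => exact fun s h => key s (ih _ (by rwa [← pow_mul, ← pow_succ']))

variable {G : Type*} [Group G] [Finite G] {z t a b g u x c₁ q₁ c₂ q₂ : G} {Q K : Subgroup G}
  {π : K →* SL23}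

theorem exists_fixed3 {T W N : Subgroup G} (hT : IsPGroup 3 T) (h : ¬ W ≤ N) (h0 : W ≤ T)
    (h1 : T ≤ Nr W) (h2 : T ≤ Nr N) : ∃ x ∈ W, x ∉ N ∧ ∀ t ∈ T, t * x * t⁻¹ * x⁻¹ ∈ N := by
  have : Fact (Nat.Prime 3) := ⟨Nat.prime_three⟩
  have := normal_subgroupOf_of_le_normalizer h1
  have := normal_subgroupOf_of_le_normalizer h2
  obtain ⟨x, hx, h3, -, h5⟩ := H9.exists_central_step hT (N := N.subgroupOf T)
    (K := W.subgroupOf T) fun k => h fun w hw => k (show (⟨w, h0 hw⟩ : T) ∈ _ from hw)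
  refine ⟨x, hx, h3, fun t ht => ?_⟩
  have : ((⁅x, (⟨t, ht⟩ : T)⁆⁻¹ : T) : G) ∈ N := inv_mem (h5 ⟨t, ht⟩)
  rwa [commutatorElement_inv] at this

theorem mem_z3 (oz : orderOf z = 3) (hu : u ∈ zpowers z) : u = 1 ∨ u = z ∨ u = z⁻¹ := by
  classical
  rw [mem_zpowers_iff_mem_range_orderOf, oz] at hu
  obtain ⟨n, hn, rfl⟩ := Finset.mem_image.1 hu
  have h3 : z ^ 3 = 1 := oz ▸ pow_orderOf_eq_one z
  rw [Finset.mem_range] at hn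
  interval_cases n
  exacts [.inl (pow_zero z), .inr (.inl (pow_one z)),
    .inr (.inr (eq_inv_of_mul_eq_one_left (by rw [← pow_succ, h3])))]

theorem cube_comm {w : G} (e : b⁻¹ * x * b = w * x) (c : b * w = w * b) (h3 : w ^ 3 = 1) :
    x * b ^ 3 = b ^ 3 * x := by
  have e1 : x * b = b * w * x := by rw [mul_assoc, ← e]; grp91
  have e2 : ∀ n : ℕ, x * b ^ n = (b * w) ^ n * x := fun n => by
    induction n with
    | zero => simp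
    | succ n ih => rw [pow_succ, ← mul_assoc, ih, mul_assoc, e1, pow_succ]; grp91
  rw [e2, (show Commute b w from c).mul_pow, h3, mul_one]

namespace QT

variable (h : QT z t Q)
include h

theorem exists_q (oz : orderOf z = 3) (ha : a ∈ Q) (hx : x ∈ Q) (e : a * x ≠ x * a) :
    (a * x * a⁻¹ = x * z ∧ a⁻¹ * x * a⁻¹⁻¹ = x * z⁻¹) ∨
      (a * x * a⁻¹ = x * z⁻¹ ∧ a⁻¹ * x * a⁻¹⁻¹ = x * z) := by
  obtain ⟨w, hw, e1⟩ : ∃ w ∈ zpowers z, a * x * a⁻¹ = x * w :=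
    ⟨_, h.comm a ha x hx, by rw [zc (h.comm a ha x hx) (h.Qz hx)]; grp91⟩
  have e2 : a⁻¹ * x * a⁻¹⁻¹ = x * w⁻¹ := by
    rw [eq_mul_inv_iff_mul_eq, inv_inv, mul_assoc, zc hw (h.Qz ha), ← mul_assoc, mul_assoc _ x,
      ← e1]
    grp91
  rcases mem_z3 oz hw with rfl | rfl | rfl
  · exact absurd (by rwa [mul_one, mul_inv_eq_iff_eq_mul] at e1) e
  · exact .inl ⟨e1, e2⟩
  · exact .inr ⟨e1, by simpa using e2⟩

theorem u_one (hu : u ∈ zpowers z) (hx : x ∈ Q) (e : t * x * t⁻¹ = x⁻¹)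
    (e' : t * (u * x) * t⁻¹ = (u * x)⁻¹) : u = 1 := by
  rw [← conj_mul, e, zc hu h.tz, mul_inv_cancel_right, _root_.mul_inv_rev,
    zc (inv_mem hu) (inv_mem (h.Qz hx)), mul_left_inj, eq_inv_iff_mul_eq_one] at e'
  exact one_of_sq (h.exp u (h.ZQ hu)) e'

/-- the commutator with `x` -/
def cmh (hx : x ∈ Q) : Q →* G := MonoidHom.mk' (fun g => g * x * (g : G)⁻¹ * x⁻¹) fun a b => by
  have := zc (h.comm b b.2 x hx) (h.Qz a.2)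
  calc (a * b * x * ((a : G) * b)⁻¹ * x⁻¹ : G) = a * (b * x * (b : G)⁻¹ * x⁻¹) * x * (a : G)⁻¹ * x⁻¹ := by
        grp91
    _ = b * x * (b : G)⁻¹ * x⁻¹ * (a * x * (a : G)⁻¹ * x⁻¹) := by rw [this]; grp91
    _ = _ := zc (h.comm a a.2 x hx) (h.Qz (h.ZQ (h.comm b b.2 x hx)))

theorem cmh_eq (hx : x ∈ Q) (hg : g ∈ Q) (hu : u ∈ zpowers z) (e : g * x * g⁻¹ = x * u) :
    h.cmh hx ⟨g, hg⟩ = u := by
  change g * x * g⁻¹ * x⁻¹ = u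
  rw [e, zc hu (h.Qz hx), mul_inv_cancel_right]

theorem cmh_one (hx : x ∈ Q) (hg : g ∈ Q) (e : g * x = x * g) : h.cmh hx ⟨g, hg⟩ = 1 :=
  h.cmh_eq hx hg (one_mem _) (by rw [e]; grp91)

theorem cmh_swap (hx : x ∈ Q) (hg : g ∈ Q) : h.cmh hx ⟨g, hg⟩ = (h.cmh hg ⟨x, hx⟩)⁻¹ := by
  change g * x * g⁻¹ * x⁻¹ = (x * g * x⁻¹ * g⁻¹)⁻¹
  grp91

theorem nf (oz : orderOf z = 3) (cQ : Nat.card Q = 243) (m1 : c₁ ∈ Q) (m2 : q₁ ∈ Q) (m3 : c₂ ∈ Q)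
    (m4 : q₂ ∈ Q) (qc1 : q₁ * c₁ * q₁⁻¹ = c₁ * z) (qc2 : q₂ * c₂ * q₂⁻¹ = c₂ * z⁻¹)
    (cc : c₁ * c₂ = c₂ * c₁) (cq : c₁ * q₂ = q₂ * c₁) (qc : q₁ * c₂ = c₂ * q₁)
    (qq : q₁ * q₂ = q₂ * q₁) (hg : g ∈ Q) : ∃ α β γ δ ε : Fin 3,
      g = q₁ ^ α.val * q₂ ^ β.val * c₁ ^ γ.val * c₂ ^ δ.val * z ^ ε.val ∧
      (g * c₁ = c₁ * g → α = 0) ∧ (g * c₂ = c₂ * g → β = 0) ∧ (g * q₁ = q₁ * g → γ = 0) ∧
      (g * q₂ = q₂ * g → δ = 0) := by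
  let F : Fin 3 × Fin 3 × Fin 3 × Fin 3 × Fin 3 → Q := fun v => ⟨q₁, m2⟩ ^ v.1.val *
    ⟨q₂, m4⟩ ^ v.2.1.val * ⟨c₁, m1⟩ ^ v.2.2.1.val * ⟨c₂, m3⟩ ^ v.2.2.2.1.val *
    ⟨z, h.zQ⟩ ^ v.2.2.2.2.val
  have zz : ∀ {x} (hx : x ∈ Q), h.cmh hx ⟨z, h.zQ⟩ = 1 := fun hx =>
    h.cmh_one hx h.zQ (mem_Ce.1 (h.Qz hx)).symm
  have a1 := h.cmh_eq m1 m2 (mem_zpowers z) qc1
  have a2 := h.cmh_eq m3 m4 (inv_mem (mem_zpowers z)) qc2
  have e1 : ∀ v, h.cmh m1 (F v) = z ^ v.1.val := fun v => by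
    simp only [F, map_mul, map_pow, a1, zz, h.cmh_one m1 m4 cq.symm, h.cmh_one m1 m1 rfl,
      h.cmh_one m1 m3 cc.symm, one_pow, mul_one]
  have e2 : ∀ v, (h.cmh m3 (F v))⁻¹ = z ^ v.2.1.val := fun v => by
    simp only [F, map_mul, map_pow, a2, zz, h.cmh_one m3 m2 qc, h.cmh_one m3 m3 rfl,
      h.cmh_one m3 m1 cc, one_pow, mul_one, one_mul, inv_pow, inv_inv]
  have e3 : ∀ v, (h.cmh m2 (F v))⁻¹ = z ^ v.2.2.1.val := fun v => by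
    simp only [F, map_mul, map_pow, h.cmh_swap m2 m1, a1, zz, h.cmh_one m2 m4 qq.symm,
      h.cmh_one m2 m2 rfl, h.cmh_one m2 m3 qc.symm, one_pow, mul_one, one_mul, inv_pow, inv_inv]
  have e4 : ∀ v, h.cmh m4 (F v) = z ^ v.2.2.2.1.val := fun v => by
    simp only [F, map_mul, map_pow, h.cmh_swap m4 m3, a2, zz, h.cmh_one m4 m2 qq,
      h.cmh_one m4 m4 rfl, h.cmh_one m4 m1 cq, one_pow, mul_one, one_mul, inv_pow, inv_inv]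
  have pi : ∀ {m n : Fin 3}, z ^ m.val = z ^ n.val → m = n := fun {m n} e =>
    Fin.ext (pow_injOn_Iio_orderOf (by rw [Set.mem_Iio, oz]; exact m.2)
      (by rw [Set.mem_Iio, oz]; exact n.2) e)
  have hF : Function.Bijective F := by
    refine (Nat.bijective_iff_injective_and_card F).2 ⟨?_, by rw [cQ]; simp⟩
    rintro ⟨α, β, γ, δ, ε⟩ ⟨α', β', γ', δ', ε'⟩ e
    obtain rfl : α = α' := pi ((e1 (α, β, γ, δ, ε)).symm.trans (by rw [e, e1]))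
    obtain rfl : β = β' := pi ((e2 (α, β, γ, δ, ε)).symm.trans (by rw [e, e2]))
    obtain rfl : γ = γ' := pi ((e3 (α, β, γ, δ, ε)).symm.trans (by rw [e, e3]))
    obtain rfl : δ = δ' := pi ((e4 (α, β, γ, δ, ε)).symm.trans (by rw [e, e4]))
    obtain rfl : ε = ε' := pi (congrArg Subtype.val (mul_left_cancel e))
    rfl
  obtain ⟨v, hv⟩ := hF.2 ⟨g, hg⟩
  refine ⟨_, _, _, _, _, (congrArg Subtype.val hv).symm, fun e => pi ?_, fun e => pi ?_,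
    fun e => pi ?_, fun e => pi ?_⟩
  · rw [← e1, hv, h.cmh_one m1 hg e]; simp
  · rw [← e2, hv, h.cmh_one m3 hg e]; simp
  · rw [← e3, hv, h.cmh_one m2 hg e]; simp
  · rw [← e4, hv, h.cmh_one m4 hg e]; simp

end QT

theorem Ce_le_Nz : Ce z ≤ Nz z := fun g hg => mem_normalizer_of_cj_le (by
  rintro _ ⟨u, hu, rfl⟩
  change g * u * g⁻¹ ∈ zpowers z
  rwa [zc hu hg, mul_inv_cancel_right])

section

variable (h : H0 z t Q K π)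
include h

theorem tK : t ∈ K := h.πt.1

theorem πt : π ⟨t, tK h⟩ = mm := h.πt.2.trans mm_eq.symm

theorem nQK (hg : g ∈ K) (ha : a ∈ Q) : g * a * g⁻¹ ∈ Q :=
  conj_mem_of_mem_normalizer (h.nQ (Ce_le_Nz (h.KC hg))) ha

theorem qt : QT z t Q := ⟨h.zQ, h.exp, h.comm, h.cen, h.QK.trans h.KC, h.tt, h.KC (tK h),
  fun _ ha => nQK h (tK h) ha⟩

theorem lift (s : SL23) : ∃ k : K, (k : G) ∈ Ce t ∧ π k = s := by
  obtain ⟨k, rfl⟩ := h.surj s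
  obtain ⟨q, hq, e⟩ : ∃ q ∈ Q, k * t * (k : G)⁻¹ = q * t :=
    ⟨_, (h.ker (k * ⟨t, tK h⟩ * k⁻¹ * (⟨t, tK h⟩ : K)⁻¹)).1 (by
      rw [map_mul, map_mul, map_mul, map_inv, map_inv, πt h, ← mm_comm]; grp91), by
        simp only [coe_mul, coe_inv]; grp91⟩
  have e1 : t * q * t⁻¹ = q⁻¹ := by
    have : q * t * (q * t) = 1 := by rw [← e, conj_mul, h.tt]; grp91
    rw [eq_inv_iff_mul_eq_one, inv_eq_of_mul_eq_one_right h.tt, mul_assoc, mul_assoc,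
      mul_eq_one_comm, ← this]
    grp91
  have e2 : q * q * t * (q * q)⁻¹ = q * t := by
    calc _ = q * q * (t * q * t⁻¹)⁻¹ * (t * q * t⁻¹)⁻¹ * t := by grp91
      _ = q ^ 3 * q * t := by rw [e1]; grp91
      _ = q * t := by rw [h.exp q hq, one_mul]
  refine ⟨(⟨q * q, h.QK (mul_mem hq hq)⟩ : K)⁻¹ * k, mem_Ce.2 ?_, by
    rw [map_mul, map_inv, (h.ker _).2 (mul_mem hq hq), inv_one, one_mul]⟩
  change (q * q)⁻¹ * k * t = t * ((q * q)⁻¹ * k)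
  calc _ = (q * q)⁻¹ * (k * t * (k : G)⁻¹) * k := by grp91
    _ = _ := by rw [e, ← e2]; grp91

theorem cen2 (hg : g ∈ K) (h4 : g ^ 4 = 1) (ha : a ∈ Q ⊓ Ce t) : g * a = a * g := by
  obtain ⟨w, hw, e⟩ : ∃ w ∈ zpowers z, g * a * g⁻¹ = w * a :=
    ⟨_, h.cR ⟨g, hg⟩ (by rw [← map_pow, show (⟨g, hg⟩ : K) ^ 4 = 1 from Subtype.ext h4, map_one])
      a ha, by grp91⟩
  have e1 : g * w * g⁻¹ = w := by rw [zc hw (h.KC hg), mul_inv_cancel_right]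
  have e2 : g ^ 4 * a * (g ^ 4)⁻¹ = w ^ 3 * w * a := by
    rw [show g ^ 4 * a * (g ^ 4)⁻¹ = g * (g * (g * (g * a * g⁻¹) * g⁻¹) * g⁻¹) * g⁻¹ by grp91]
    simp only [e, e1, ← conj_mul (b := g) (a := w)]
    grp91
  rw [h4, h.exp w ((qt h).ZQ hw), one_mul, one_mul, inv_one, mul_one, right_eq_mul] at e2
  rwa [e2, one_mul, mul_inv_eq_iff_eq_mul] at e

theorem uniq {k k' : K} (hk : (k : G) ∈ Ce t) (hk' : (k' : G) ∈ Ce t) (h4 : k ^ 4 = 1)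
    (h4' : k' ^ 4 = 1) (e : π k = π k') : k = k' := by
  have ha : ((k⁻¹ * k' : K) : G) ∈ Q ⊓ Ce t := ⟨(h.ker _).1 (by rw [map_mul, map_inv, e]; grp91),
    (Ce t).mul_mem ((Ce t).inv_mem hk) hk'⟩
  have c : Commute k (k⁻¹ * k') := Subtype.ext (cen2 h k.2 (congrArg Subtype.val h4) ha)
  have e1 := c.mul_pow 4
  rw [mul_inv_cancel_left, h4, h4', one_mul, pow_succ,
    show (k⁻¹ * k') ^ 3 = 1 from Subtype.ext (h.exp _ ha.1), one_mul] at e1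
  exact inv_mul_eq_one.1 e1.symm

theorem quat {b : K} (hb : (b : G) ∈ Ce t) {I J : SL23} (T : Tri (π b) I J) :
    ∃ i j : G, Quat t i j b ∧ i ∈ K ⊓ Ce t ∧ j ∈ K ⊓ Ce t ∧ i ^ 4 = 1 ∧ j ^ 4 = 1 ∧
      (∀ k ∈ K ⊓ Ce t, k ^ 4 = 1 → k ∈ closure {i, j}) ∧
      ∀ k ∈ K, ∃ r ∈ closure {i, j}, r⁻¹ * k ∈ Q ⊔ zpowers (b : G) := by
  obtain ⟨t1, t2, t3, t4, t5, t6, -⟩ := T
  obtain ⟨i, hi, i4, πi⟩ : ∃ i : K, (i : G) ∈ Ce t ∧ i ^ 4 = 1 ∧ π i = I := by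
    obtain ⟨i, hi, πi⟩ := lift h I
    have I4 : I ^ 4 = 1 := by rw [show I ^ 4 = I * I * (I * I) by grp91, t1, mm_sq]
    refine ⟨i ^ 9, pow_mem hi 9, Subtype.ext ?_, by
      rw [map_pow, πi, show 9 = 4 * 2 + 1 by rfl, pow_succ, pow_mul, I4, one_pow, one_mul]⟩
    have := h.exp _ ((h.ker (i ^ 4)).1 (by rw [map_pow, πi, I4]))
    rw [← pow_mul, show 9 * 4 = 4 * 3 * 3 by rfl, pow_mul, pow_mul, coe_pow, coe_pow, this, one_pow]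
    rfl
  have cj4 : ∀ g k : K, k ^ 4 = 1 → (g * k * g⁻¹) ^ 4 = 1 := fun g k e => by
    rw [conj_pow, e]; grp91
  have cjt : ∀ g k : K, (g : G) ∈ Ce t → (k : G) ∈ Ce t → ((g * k * g⁻¹ : K) : G) ∈ Ce t :=
    fun g k h1 h2 => mul_mem (mul_mem h1 h2) (inv_mem h1)
  obtain ⟨j, bi⟩ : ∃ j, b * i * b⁻¹ = j := ⟨_, rfl⟩
  have hj : (j : G) ∈ Ce t := bi ▸ cjt b i hb hi
  have j4 : j ^ 4 = 1 := bi ▸ cj4 b i i4
  have πj : π j = J := by rw [← bi, map_mul, map_mul, map_inv, πi, t2]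
  let τ : K := ⟨t, tK h⟩
  have ττ : τ * τ = 1 := Subtype.ext h.tt
  have ii : i * i = τ := uniq h (mul_mem hi hi) (mem_Ce.2 rfl)
    (by rw [(Commute.refl i).mul_pow, i4, one_mul])
    (by rw [show τ ^ 4 = τ * τ * (τ * τ) by grp91, ττ, one_mul]) (by rw [map_mul, πi, t1, πt h])
  have jj : j * j = τ := by
    rw [← bi, conj_mul, ii, show b * τ = τ * b from Subtype.ext (mem_Ce.1 hb), mul_inv_cancel_right]
  have ij : i * j * i⁻¹ = j⁻¹ := uniq h (cjt i j hi hj) (inv_mem hj) (cj4 i j j4)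
    (by rw [inv_pow, j4, inv_one]) (by rw [map_mul, map_mul, map_inv, map_inv, πi, πj, t4])
  have k4 : (i * j) ^ 4 = 1 := by
    have : i * j * (i * j) = τ := by
      rw [show i * j * (i * j) = i * j * i⁻¹ * (i * i) * j by grp91, ij, ii, ← jj]; grp91
    rw [show (i * j) ^ 4 = i * j * (i * j) * (i * j * (i * j)) by grp91, this, ττ]
  have bj : b * j * b⁻¹ = i * j := uniq h (cjt b j hb hj) (mul_mem hi hj) (cj4 b j j4) k4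
    (by rw [map_mul, map_mul, map_mul, map_inv, πi, πj, t3])
  have mi : (i : G) ∈ closure {(i : G), (j : G)} := subset_closure (by simp)
  have mj : (j : G) ∈ closure {(i : G), (j : G)} := subset_closure (by simp)
  refine ⟨i, j, ⟨h.tt, congrArg Subtype.val ii, congrArg Subtype.val jj, congrArg Subtype.val ij,
    congrArg Subtype.val bi, congrArg Subtype.val bj⟩, ⟨i.2, hi⟩, ⟨j.2, hj⟩,
    congrArg Subtype.val i4, congrArg Subtype.val j4, fun k hk k4' => ?_, fun k hk => ?_⟩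
  · have key : ∀ (y : K) (n : ℕ), (y : G) ∈ Ce t → y ^ 4 = 1 → π ⟨k, hk.1⟩ = π y ^ n →
        k = (y : G) ^ n := fun y n h1 h2 h3 => congrArg Subtype.val (uniq h (k := ⟨k, hk.1⟩)
      (k' := y ^ n) hk.2 (pow_mem h1 n) (Subtype.ext k4')
      (by rw [← pow_mul, mul_comm, pow_mul, h2, one_pow]) (by rw [map_pow, h3]))
    obtain ⟨n, e | e | e⟩ := t5 (π ⟨k, hk.1⟩) (by
      rw [← map_pow, show (⟨k, hk.1⟩ : K) ^ 4 = 1 from Subtype.ext k4', map_one])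
    · rw [key i n hi i4 (πi ▸ e)]; exact pow_mem mi _
    · rw [key j n hj j4 (πj ▸ e)]; exact pow_mem mj _
    · rw [key (i * j) n (mul_mem hi hj) k4 (by rw [map_mul, πi, πj, e])]
      exact pow_mem (mul_mem mi mj) _
  · obtain ⟨α, β, γ, e⟩ := t6 (π ⟨k, hk⟩)
    refine ⟨i ^ α.val * j ^ β.val, mul_mem (pow_mem mi _) (pow_mem mj _), ?_⟩
    have := (h.ker ((i ^ α.val * j ^ β.val)⁻¹ * ⟨k, hk⟩ * (b ^ γ.val)⁻¹)).1 (by
      simp only [map_mul, map_inv, map_pow, πi, πj, e, inv_mul_cancel_left, mul_inv_cancel,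
        mul_assoc, _root_.mul_inv_rev])
    simpa using mul_mem (mem_sup_left this) (mem_sup_right (pow_mem (mem_zpowers (b : G)) γ.val))

theorem pS {b : K} (h3 : π b ^ 3 = 1) : IsPGroup 3 (Q ⊔ zpowers (b : G) : Subgroup G) := by
  refine IsPGroup.to_sup_of_normal_left' (fun x => ⟨1, Subtype.ext (by simpa using h.exp x x.2)⟩)
    (IsPGroup.of_card_dvd_pow (n := 2) ?_) (zpowers_le.2 (h.nQ (Ce_le_Nz (h.KC b.2))))
  rw [Nat.card_zpowers]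
  exact orderOf_dvd_of_pow_eq_one (by
    rw [sq, pow_mul]; exact h.exp _ ((h.ker (b ^ 3)).1 (by rw [map_pow, h3])))

theorem sylS {b : K} {I J : SL23} (T : Tri (π b) I J) : IsSyl 3 (Q ⊔ zpowers (b : G)) ⊤ := by
  have : Fact (Nat.Prime 3) := ⟨Nat.prime_three⟩
  obtain ⟨-, -, -, -, -, -, t7, t8⟩ := T
  obtain ⟨P, hP, hle⟩ := exists_isSyl_le (pS h t7)
    ((sup_le h.QK (zpowers_le.2 b.2)).trans h.KC)
  have p3 : ∀ g ∈ P, ∃ n, g ^ 3 ^ n = 1 := fun g hg =>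
    let ⟨n, hn⟩ := hP.isPGroup ⟨g, hg⟩; ⟨n, congrArg Subtype.val hn⟩
  have PK : P ≤ K := fun g hg => h.el3 g (hP.le hg) (p3 g hg)
  have π3 : ∀ k : K, (k : G) ∈ P → π k ^ 3 = 1 := fun k hk => by
    obtain ⟨n, hn⟩ := p3 k hk
    exact three_of n _ (by rw [← map_pow, show k ^ 3 ^ n = 1 from Subtype.ext hn, map_one])
  rw [le_antisymm hle fun g hg => ?_]
  · refine isSyl_of_not_dvd_relIndex le_top hP.isPGroup ?_
    rw [relIndex_top_right, ← relIndex_mul_index hP.le]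
    exact Nat.prime_three.not_dvd_mul hP.not_dvd_relIndex h.syl
  obtain ⟨c, e⟩ := t8 _ (π3 ⟨g, PK hg⟩ hg) (by
    rw [← map_mul]; exact π3 _ (mul_mem hg (hle (mem_sup_right (mem_zpowers _)))))
  have := (h.ker (⟨g, PK hg⟩ * (b ^ c.val)⁻¹)).1 (by rw [map_mul, map_inv, map_pow, e]; grp91)
  simpa using mul_mem (mem_sup_left this) (mem_sup_right (pow_mem (mem_zpowers (b : G)) c.val))

theorem nQ1 : Nz z ≤ Nr (Q ⊓ Ce t) := fun g hg => mem_normalizer_of_cj_le (by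
  rintro _ ⟨a, ha, rfl⟩
  have m1 : g * a * g⁻¹ ∈ Q := conj_mem_of_mem_normalizer (h.nQ hg) ha.1
  have m2 : g * t * g⁻¹ ∈ K := conj_mem_of_mem_normalizer (h.nK hg) (tK h)
  have e1 : g * t * g⁻¹ * (g * t * g⁻¹) = 1 := by rw [conj_mul, h.tt]; grp91
  have key : ∀ s : SL23, s * s = 1 → s = 1 ∨ s = mm := by decide +kernel
  rcases key (π ⟨_, m2⟩) (by
    rw [← map_mul, show (⟨_, m2⟩ * ⟨_, m2⟩ : K) = 1 from Subtype.ext e1, map_one]) with e | e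
  · have := conj_eq_one_iff.1 (one_of_sq (h.exp _ ((h.ker _).1 e)) e1)
    subst this
    exact absurd ((πt h).symm.trans (map_one π)) (by decide)
  have m3 := (h.ker ((⟨_, m2⟩ : K)⁻¹ * ⟨t, tK h⟩)).1 (by rw [map_mul, map_inv, e, πt h]; grp91)
  obtain ⟨w, hw, e2⟩ : ∃ w ∈ zpowers z, t * (g * a * g⁻¹) * t⁻¹ * (g * a * g⁻¹)⁻¹ =
      g * t * g⁻¹ * w * (g * (a * t⁻¹ * a⁻¹) * g⁻¹) := ⟨_, h.comm _ m3 _ m1, by
    simp only [coe_mul, coe_inv]; grp91⟩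
  refine ⟨m1, (qt h).m1 ?_⟩
  change t * (g * a * g⁻¹) * t⁻¹ * (g * a * g⁻¹)⁻¹ ∈ _
  rw [e2, zc hw (h.KC m2), show a * t⁻¹ * a⁻¹ = (a * t * a⁻¹)⁻¹ by grp91, mem_Ce.1 ha.2]
  simpa [mul_assoc] using hw)

end

theorem jobA1 : JobA1.{u} := by
  intro G _ _ z t Q K π h
  have : Fact (Nat.Prime 3) := ⟨Nat.prime_three⟩
  have H := qt h
  have cZ : Nat.card (zpowers z) = 3 := by rw [Nat.card_zpowers, h.oz]
  have z1 : z ≠ 1 := fun e => by simpa [e] using h.oz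
  have KN : K ≤ Nz z := h.KC.trans Ce_le_Nz
  have sK : ∀ b : K, Q ⊔ zpowers (b : G) ≤ K := fun b => sup_le h.QK (zpowers_le.2 b.2)
  have q3 : qs ^ 3 = 1 := by decide
  obtain ⟨b₀, hb₀, πb₀⟩ := lift h qs
  obtain ⟨c₁, hc₁, c1Z, k1⟩ := exists_fixed3 (pS h (πb₀ ▸ q3)) (W := Q ⊓ Ce t) (N := zpowers z)
    (fun e => by have := card_le_of_le e; rw [h.card1, cZ] at this; omega)
    (inf_le_left.trans le_sup_left) (((sK b₀).trans KN).trans (nQ1 h)) ((sK b₀).trans KN)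
  obtain ⟨q₁, hq₁, qc1, qc1'⟩ : ∃ q ∈ Q ⊓ Ce t, q * c₁ * q⁻¹ = c₁ * z ∧
      q⁻¹ * c₁ * q⁻¹⁻¹ = c₁ * z⁻¹ := by
    obtain ⟨a, ha, e⟩ : ∃ a ∈ Q ⊓ Ce t, a * c₁ ≠ c₁ * a := by
      by_contra! e
      exact c1Z (H.z1 hc₁ e)
    rcases H.exists_q h.oz ha.1 hc₁.1 e with k | k
    exacts [⟨a, ha, k⟩, ⟨a⁻¹, inv_mem ha, k.2, by simpa using k.1⟩]
  obtain ⟨b₁, hb₁, πb₁, bc1⟩ : ∃ b : K, (b : G) ∈ Ce t ∧ π b = qs ∧ b * c₁ = c₁ * b := by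
    have key : ∀ q ∈ Q ⊓ Ce t, ∀ u ∈ zpowers z, q * c₁ * q⁻¹ = c₁ * u⁻¹ →
        b₀ * c₁ * (b₀ : G)⁻¹ * c₁⁻¹ = u →
        ∃ b : K, (b : G) ∈ Ce t ∧ π b = qs ∧ b * c₁ = c₁ * b := fun q hq u hu e1 e2 =>
      ⟨b₀ * ⟨q, h.QK hq.1⟩, mul_mem hb₀ hq.2, by rw [map_mul, πb₀, (h.ker _).2 hq.1, mul_one], by
        change b₀ * q * c₁ = c₁ * (b₀ * q)
        calc _ = b₀ * (q * c₁ * q⁻¹) * q := by grp91
          _ = b₀ * c₁ * (b₀ : G)⁻¹ * c₁⁻¹ * c₁ * (b₀ * u⁻¹) * q := by rw [e1]; grp91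
          _ = _ := by rw [e2, zc (inv_mem hu) (h.KC b₀.2), ← zc hu (H.Qz hc₁.1)]; grp91⟩
    rcases mem_z3 h.oz (k1 b₀ (mem_sup_right (mem_zpowers _))) with e | e | e
    exacts [key 1 (one_mem _) 1 (one_mem _) (by grp91) e,
      key _ (inv_mem hq₁) z (mem_zpowers z) qc1' e,
      key _ hq₁ _ (inv_mem (mem_zpowers z)) (by rw [qc1, inv_inv]) e]
  have cI : ∀ g ∈ K ⊓ Ce t, ∀ x ∈ Q, t * x * t⁻¹ = x⁻¹ →
      t * (g * x * g⁻¹) * t⁻¹ = (g * x * g⁻¹)⁻¹ := fun g hg x _ e => by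
    rw [show t * (g * x * g⁻¹) * t⁻¹ = t * g * x * (t * g)⁻¹ by grp91, ← mem_Ce.1 hg.2,
      show (g * x * g⁻¹)⁻¹ = g * x⁻¹ * g⁻¹ by grp91, ← e]
    grp91
  obtain ⟨c₂, hc₂, tc2, c2Z, bc2⟩ : ∃ c ∈ Q, t * c * t⁻¹ = c⁻¹ ∧ c ∉ zpowers z ∧
      b₁ * c = c * b₁ := by
    obtain ⟨c, hc, cZ', k2⟩ := exists_fixed3 (pS h (πb₁ ▸ q3)) (W := Q ⊓ Cn (Q ⊓ Ce t))
      (N := zpowers z) (fun e => by
        have := card_le_of_le (show Q ≤ Q ⊓ Ce t from fun a ha => by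
          obtain ⟨b, hb, x, hx, e1, rfl⟩ := H.dec ha
          exact mul_mem hb (H.Z1 (e ⟨hx, fun y hy => H.cm hy hx e1⟩)))
        rw [h.card1, h.card] at this; omega)
      (inf_le_left.trans le_sup_left) (((sK b₁).trans KN).trans (le_normalizer_inf h.nQ
        ((nQ1 h).trans (normalizer_le_normalizer_centralizer _)))) ((sK b₁).trans KN)
    obtain ⟨a, ha, x, hx, e1, rfl⟩ := H.dec hc.1
    have aZ : a ∈ zpowers z := H.z1 ha fun y hy => by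
      have := hc.2 y hy
      rwa [← mul_assoc, mul_assoc a, ← H.cm hy hx e1, ← mul_assoc, mul_left_inj] at this
    refine ⟨x, hx, e1, fun k => cZ' (mul_mem aZ k), ?_⟩
    have e2 := k2 b₁ (mem_sup_right (mem_zpowers _))
    rw [← conj_mul, zc aZ (h.KC b₁.2), mul_inv_cancel_right,
      show a * (b₁ * x * (b₁ : G)⁻¹) * (a * x)⁻¹ = a * (b₁ * x * (b₁ : G)⁻¹ * x⁻¹) * a⁻¹ by grp91] at e2
    have e3 : b₁ * x * (b₁ : G)⁻¹ * x⁻¹ ∈ zpowers z := by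
      simpa [mul_assoc] using mul_mem (mul_mem (inv_mem aZ) e2) aZ
    have e4 := H.u_one e3 hx e1 (by simpa using cI b₁ ⟨b₁.2, hb₁⟩ x hx e1)
    rwa [mul_inv_eq_one, mul_inv_eq_iff_eq_mul] at e4
  obtain ⟨q₂, hq₂, tq2, qc2⟩ : ∃ q ∈ Q, t * q * t⁻¹ = q⁻¹ ∧ q * c₂ * q⁻¹ = c₂ * z⁻¹ := by
    obtain ⟨x, hx, e1, e⟩ : ∃ x ∈ Q, t * x * t⁻¹ = x⁻¹ ∧ x * c₂ ≠ c₂ * x := by
      by_contra! e
      refine c2Z (h.cen fun g hg => ?_)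
      obtain ⟨a, ha, x, hx, e1, rfl⟩ := H.dec hg
      exact (Commute.mul_left (H.cm ha hc₂ tc2) (e x hx e1)).eq
    rcases H.exists_q h.oz hx hc₂ e with k | k
    exacts [⟨x⁻¹, inv_mem hx, by rw [← conj_inv, e1], k.2⟩, ⟨x, hx, e1, k.1⟩]
  have cc := H.cm hc₁ hc₂ tc2
  have cq := H.cm hc₁ hq₂ tq2
  have qc := H.cm hq₁ hc₂ tc2
  have qq := H.cm hq₁ hq₂ tq2
  have nf := fun g => H.nf (g := g) h.oz h.card hc₁.1 hq₁.1 hc₂ hq₂ qc1 qc2 cc cq qc qq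
  have fixc : ∀ g ∈ Ce z, ∀ q c u : G, u ∈ zpowers z → g * c = c * g → q * c * q⁻¹ = c * u →
      q ∈ Ce z → g⁻¹ * q * g * q⁻¹ * c = c * (g⁻¹ * q * g * q⁻¹) := fun g hg q c u hu e1 e2 hq => by
    have e3 : q⁻¹ * c = c * u⁻¹ * q⁻¹ := by
      rw [mul_assoc, ← zc (inv_mem hu) (inv_mem hq), ← mul_assoc, eq_mul_inv_iff_mul_eq, mul_assoc,
        ← e2]
      grp91
    have e4 : q * c = c * u * q := by rw [← e2]; grp91
    have e5 : g⁻¹ * c = c * g⁻¹ := (Commute.inv_left e1).eq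
    calc _ = g⁻¹ * q * (g * c) * u⁻¹ * q⁻¹ := by rw [mul_assoc _ q⁻¹, e3]; grp91
      _ = g⁻¹ * c * (u * (q * g)) * u⁻¹ * q⁻¹ := by rw [e1, mul_assoc g⁻¹, ← mul_assoc q, e4]; grp91
      _ = _ := by rw [e5, ← zc hu (mul_mem hq hg)]; grp91
  have w2 : ∀ b : K, (b : G) ∈ Ce t → (π b = qs ∨ π b = qs⁻¹) → b * c₂ = c₂ * b →
      ∃ u ∈ zpowers z, (b : G)⁻¹ * q₂ * b = c₂ * u * q₂ ∨ (b : G)⁻¹ * q₂ * b = c₂⁻¹ * u * q₂ := by
    intro b hb πb bc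
    have m1 : (b : G)⁻¹ * q₂ * (b : G)⁻¹⁻¹ ∈ Q := nQK h (inv_mem b.2) hq₂
    have m2 := cI _ ⟨K.inv_mem b.2, (Ce t).inv_mem hb⟩ _ hq₂ tq2
    rw [inv_inv] at m1 m2
    have cm : ∀ a ∈ Q ⊓ Ce t, (b : G)⁻¹ * q₂ * b * q₂⁻¹ * a = a * ((b : G)⁻¹ * q₂ * b * q₂⁻¹) :=
      fun a ha => (Commute.mul_right (H.cm ha m1 m2) (Commute.inv_right (H.cm ha hq₂ tq2))).symm.eq
    obtain ⟨α, β, γ, δ, ε, e, r1, r2, r3, -⟩ := nf _ (mul_mem m1 (inv_mem hq₂))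
    rw [r1 (cm _ hc₁), r3 (cm _ hq₁), r2 (fixc b (h.KC b.2) q₂ c₂ _ (inv_mem (mem_zpowers z)) bc qc2
      (H.Qz hq₂)), mul_inv_eq_iff_eq_mul] at e
    have hu : z ^ ε.val ∈ zpowers z := pow_mem (mem_zpowers z) _
    refine ⟨_, hu, ?_⟩
    fin_cases δ
    · exfalso
      simp only [Fin.val_zero, pow_zero, one_mul] at e
      rw [H.u_one hu hq₂ tq2 (e ▸ m2), one_mul] at e
      have bq : Commute (b : G) q₂ := by
        rw [Commute, SemiconjBy, eq_comm, ← inv_mul_eq_iff_eq_mul, ← mul_assoc, e]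
      have bI : ∀ x ∈ Q, t * x * t⁻¹ = x⁻¹ → Commute (b : G) x := fun x hx e1 => by
        obtain ⟨α, β, γ, δ, ε, e, r1, -, r3, -⟩ := nf x hx
        rw [e, r1 (H.cm hc₁ hx e1).symm, r3 (H.cm hq₁ hx e1).symm]
        simpa using ((bq.pow_right _).mul_right (Commute.pow_right bc _)).mul_right
          (Commute.pow_right (mem_Ce.1 (h.KC b.2)) _)
      obtain ⟨I, J, T⟩ := tri πb
      obtain ⟨i, j, R, hi, -⟩ := quat h hb T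
      have e1 : Commute (j * i⁻¹) c₂ := by
        have k1 := (bI _ (nQK h (inv_mem hi.1) hc₂) (cI _ (inv_mem hi) _ hc₂ tc2)).inv_left.eq
        rw [← R.bi]
        calc _ = b * i * ((b : G)⁻¹ * (i⁻¹ * c₂ * i⁻¹⁻¹)) * i⁻¹ := by grp91
          _ = b * c₂ * (i * (b : G)⁻¹ * i⁻¹) := by rw [k1]; grp91
          _ = _ := by rw [bc]; grp91
      have e2 : j * i⁻¹ * (j * i⁻¹) = t⁻¹ := by
        rw [← R.ii]
        calc _ = j * i⁻¹ * (i * j * i⁻¹)⁻¹ * i⁻¹ := by rw [R.ij, inv_inv]; grp91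
          _ = _ := by grp91
      have e3 := (e1.mul_left e1).inv_left.eq
      rw [e2, inv_inv, ← mul_inv_eq_iff_eq_mul, tc2, inv_eq_iff_mul_eq_one] at e3
      exact c2Z (one_of_sq (h.exp _ hc₂) e3 ▸ one_mem _)
    · exact .inl (by simpa using e)
    · refine .inr ?_
      rw [inv_eq_of_mul_eq_one_left (show c₂ ^ 2 * c₂ = 1 by rw [← pow_succ, h.exp _ hc₂])]
      simpa using e
  obtain ⟨b, hb, πb, bc1, bc2, u, hu, e⟩ : ∃ b : K, (b : G) ∈ Ce t ∧ (π b = qs ∨ π b = qs⁻¹) ∧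
      b * c₁ = c₁ * b ∧ b * c₂ = c₂ * b ∧ ∃ u ∈ zpowers z, (b : G)⁻¹ * q₂ * b = c₂⁻¹ * u * q₂ := by
    obtain ⟨u, hu, e | e⟩ := w2 b₁ hb₁ (.inl πb₁) bc2
    · refine ⟨b₁⁻¹, inv_mem hb₁, .inr (by rw [map_inv, πb₁]), (Commute.inv_left bc1).eq,
        (Commute.inv_left bc2).eq, u⁻¹, inv_mem hu, ?_⟩
      have e1 : q₂ = b₁ * c₂ * u * q₂ * (b₁ : G)⁻¹ := by
        rw [mul_assoc _ c₂, mul_assoc _ (c₂ * u), ← e]; grp91
      rw [bc2, mul_assoc c₂, zc hu (h.KC b₁.2), ← mul_assoc, zc hu (H.Qz hc₂)] at e1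
      conv_rhs => rw [e1]
      simp only [coe_inv]
      grp91
    · exact ⟨b₁, hb₁, .inl πb₁, bc1, bc2, u, hu, e⟩
  obtain rfl : u = z⁻¹ := by
    have m2 := cI _ ⟨K.inv_mem b.2, (Ce t).inv_mem hb⟩ _ hq₂ tq2
    rw [inv_inv, e, ← conj_mul, ← conj_mul, ← conj_inv, tc2, tq2, zc hu H.tz, inv_inv,
      mul_inv_cancel_right] at m2
    have e1 : z⁻¹ * u * u = 1 := by
      have e2 : c₂ * (z⁻¹ * u * u) = c₂ := by
        calc _ = q₂ * c₂ * (q₂⁻¹ * u) * u := by rw [← mul_assoc, ← mul_assoc, ← qc2]; grp91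
          _ = q₂ * (c₂ * u * q₂⁻¹) * u := by rw [zc hu (inv_mem (H.Qz hq₂))]; grp91
          _ = u⁻¹ * (c₂ * u) := by rw [m2]; grp91
          _ = c₂ := by rw [zc hu (H.Qz hc₂)]; grp91
      exact mul_eq_left.1 e2
    rcases mem_z3 h.oz hu with rfl | rfl | rfl
    · exact absurd (by simpa using e1) z1
    · exact absurd (by simpa using e1) z1
    · rfl
  obtain ⟨l, m, e'⟩ : ∃ l m : Fin 3, (b : G)⁻¹ * q₁ * b = c₁ ^ l.val * z ^ m.val * q₁ := by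
    have m1 : (b : G)⁻¹ * q₁ * b * q₁⁻¹ ∈ Q ⊓ Ce t := mul_mem (by
      simpa using conj_mem_of_mem_normalizer (nQ1 h (KN (inv_mem b.2))) hq₁) (inv_mem hq₁)
    obtain ⟨α, β, γ, δ, ε, e, r1, r2, -, r4⟩ := nf _ m1.1
    rw [r1 (fixc b (h.KC b.2) q₁ c₁ _ (mem_zpowers z) bc1 qc1 (H.Qz hq₁.1)), r2 (H.cm m1 hc₂ tc2),
      r4 (H.cm m1 hq₂ tq2), mul_inv_eq_iff_eq_mul] at e
    exact ⟨γ, ε, by simpa using e⟩
  have bz : Commute (b : G) z := mem_Ce.1 (h.KC b.2)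
  have memQ : ∀ g, g ∈ Q ↔ ∃ α β γ δ ε : Fin 3,
      g = q₁ ^ α.val * q₂ ^ β.val * c₁ ^ γ.val * c₂ ^ δ.val * z ^ ε.val := fun g =>
    ⟨fun hg => let ⟨α, β, γ, δ, ε, e, _⟩ := nf g hg; ⟨α, β, γ, δ, ε, e⟩, by
      rintro ⟨α, β, γ, δ, ε, rfl⟩
      exact mul_mem (mul_mem (mul_mem (mul_mem (pow_mem hq₁.1 _) (pow_mem hq₂ _)) (pow_mem hc₁.1 _))
        (pow_mem hc₂ _)) (pow_mem h.zQ _)⟩
  obtain ⟨I, J, T⟩ := tri πb
  obtain ⟨i, j, R, hi, hj, i4, j4, hR, hK⟩ := quat h hb T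
  have syl := sylS h T
  refine ⟨c₁, q₁, c₂, q₂, b, i, j, R, h.oz, h.card, h.exp, h.comm, h.cen, H.Qz, h.nQ, nQ1 h, memQ,
    mem_Ce.1 H.tz, (mem_Ce.1 hc₁.2).symm, (mem_Ce.1 hq₁.2).symm, (mem_Ce.1 hb).symm, tc2, tq2, qc1,
    qc2, cc, cq, qc, qq, bz, bc1, bc2, h.cen fun g hg => ?_, ?_, ⟨l, m, ?_⟩,
    fun a ha => ⟨(cen2 h hi.1 i4 ha).symm, (cen2 h hj.1 j4 ha).symm⟩, syl, fun g hg => ?_,
    fun g hg => mem_normalizer_of_cj_le ?_⟩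
  · obtain ⟨α, β, γ, δ, ε, rfl⟩ := (memQ g).1 hg
    have k1 : Commute q₁ ((b : G) ^ 3) := cube_comm e'
      ((Commute.pow_right bc1 _).mul_right (bz.pow_right _))
      (h.exp _ (mul_mem (pow_mem hc₁.1 _) (pow_mem h.zQ _)))
    have k2 : Commute q₂ ((b : G) ^ 3) := cube_comm e ((Commute.inv_right bc2).mul_right bz.inv_right)
      (h.exp _ (mul_mem (inv_mem hc₂) (inv_mem h.zQ)))
    exact (((((k1.pow_left _).mul_left (k2.pow_left _)).mul_left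
      ((Commute.pow_pow bc1 _ _).symm)).mul_left ((Commute.pow_pow bc2 _ _).symm)).mul_left
        (bz.pow_pow _ _).symm).eq
  · rw [mul_inv_eq_iff_eq_mul, mul_assoc _ c₂⁻¹, mul_assoc, ← e]; grp91
  · rw [mul_inv_eq_iff_eq_mul, mul_assoc (b : G), mul_assoc, ← e']; grp91
  · have s1 := syl.of_le (sK b) le_top
    obtain ⟨k, hk, e1⟩ := s1.exists_cj_eq (s1.cj_of_mem_normalizer (h.nK hg))
    obtain ⟨r, hr, e2⟩ := hK k hk
    refine ⟨r, hr, mem_normalizer_of_cj_le (le_of_eq ?_)⟩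
    rw [← cj_cj, ← e1, cj_cj, cj_eq_self_of_mem e2]
  · have key : ∀ k ∈ K ⊓ Ce t, k ^ 4 = 1 → g * k * g⁻¹ ∈ closure {i, j} := fun k hk k4 =>
      hR _ ⟨conj_mem_of_mem_normalizer (h.nK hg.1) hk.1,
        (Ce t).mul_mem ((Ce t).mul_mem hg.2 hk.2) ((Ce t).inv_mem hg.2)⟩ (by rw [conj_pow, k4]; grp91)
    rw [H98.cj, MonoidHom.map_closure, closure_le]
    rintro _ ⟨_, rfl | rfl, rfl⟩
    exacts [key _ hi i4, key _ hj j4]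

end H91.O8
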