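import Cfsg.Agent.H47.O8Sp
import Cfsg.Agent.H42.L43W
import Cfsg.Agent.H7.NPC

/-! Tower `Ω₈⁺(2).3` (row S3372): from the hypotheses of the row to `H0`. -/

set_option autoImplicit false

namespace H91.O8

open Cfsg Subgroup H98 H56.L3 Matrix
open H47.O8 hiding mm
open H42.L43 (mm qi qj qs mm_sq qi_sq qj_sq qj_qi qs_qi qs_qj mm_comm res_SL2 one_of_inv three_mul_le)

universe u

/-- Normalise words in a group, expanding literal powers. -/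
macro "grp91" : tactic => `(tactic| simp only [pow_succ, pow_zero, one_mul, mul_one, mul_assoc,
  _root_.mul_inv_rev, inv_inv, mul_inv_cancel_left, inv_mul_cancel_left, mul_inv_cancel,
  inv_mul_cancel, inv_one])

theorem mm_eq : mm = (-1 : SL23) := by decide

theorem sl_nf : ∀ g : SL23, ∃ (a : Fin 4) (b : Fin 2) (c : Fin 3),
    g = qi ^ a.val * qj ^ b.val * qs ^ c.val := by decide +kernel

theorem rep27 {V : Type*} [CommGroup V] [Finite V] (h3 : ∀ v : V, v ^ 3 = 1) (ρ : SL23 →* MulAut V)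
    (hm : ∀ v, ρ mm v = v⁻¹) (hmin : ∀ X : Subgroup V, (∀ g, ∀ v ∈ X, ρ g v ∈ X) → X = ⊥ ∨ X = ⊤) :
    Nat.card V ≤ 27 := by
  have : Fact (Nat.Prime 3) := ⟨Nat.prime_three⟩
  have ap : ∀ g h v, ρ g (ρ h v) = ρ (g * h) v := fun g h v => by rw [map_mul]; rfl
  obtain ⟨k, hk⟩ := IsPGroup.exists_card_eq (p := 3) (G := V) fun x => ⟨1, by simpa using h3 x⟩
  rcases Nat.eq_zero_or_pos k with rfl | k0
  · rw [hk]; norm_num
  have hp : IsPGroup 3 (zpowers (ρ qs)) := IsPGroup.of_card_dvd_pow (n := 1) (by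
    rw [Nat.card_zpowers, pow_one]
    exact orderOf_dvd_of_pow_eq_one (by rw [← map_pow, show qs ^ 3 = 1 by decide, map_one]))
  obtain ⟨w, hw, w1⟩ := hp.exists_fixed_point_of_prime_dvd_card_of_fixed_point V (a := 1)
    (hk ▸ dvd_pow_self 3 k0.ne') fun g => map_one g.1
  replace hw : ρ qs w = w := hw ⟨_, mem_zpowers _⟩
  have ii : ∀ v, ρ qi (ρ qi v) = v⁻¹ := fun v => by rw [ap, qi_sq, hm]
  have jj : ∀ v, ρ qj (ρ qj v) = v⁻¹ := fun v => by rw [ap, qj_sq, hm]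
  have ji : ∀ v, ρ qj (ρ qi v) = (ρ qi (ρ qj v))⁻¹ := fun v => by rw [ap, qj_qi, ← ap, hm, ap]
  have bi : ∀ v, ρ qs (ρ qi v) = ρ qj (ρ qs v) := fun v => by rw [ap, ap, qs_qi]
  have bj : ∀ v, ρ qs (ρ qj v) = ρ qi (ρ qj (ρ qs v)) := fun v => by rw [ap, ap, ap, qs_qj]
  obtain ⟨a, a1, ha, hs⟩ : ∃ a, a ≠ 1 ∧ ρ qs a = a ∧ ρ qi a * ρ qj a * ρ qi (ρ qj a) = 1 := by
    by_cases e : ρ qi w * ρ qj w * ρ qi (ρ qj w) = 1
    · exact ⟨w, Ne.symm w1, hw, e⟩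
    refine ⟨_, e, ?_, ?_⟩
    · simp only [map_mul, map_inv, bi, bj, hw, ji, jj, inv_inv]
      rw [← mul_rotate]
    · simp only [map_mul, map_inv, ii, jj, ji, inv_inv]
      rw [← inv_eq_one.2 (h3 w)]
      generalize ρ qi (ρ qj w) = c
      generalize ρ qi w = a
      generalize ρ qj w = b
      apply Additive.ofMul.injective
      simp only [ofMul_mul, ofMul_inv, ofMul_pow]
      abel
  replace hs : ρ qi (ρ qj a) = (ρ qi a * ρ qj a)⁻¹ := eq_inv_of_mul_eq_one_right hs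
  let φ := (zpowers a).subtype.coprod
    ((zpowers (ρ qi a)).subtype.coprod (zpowers (ρ qj a)).subtype)
  have m0 : a ∈ φ.range := ⟨(⟨_, mem_zpowers _⟩, 1, 1), by simp [φ]⟩
  have m1 : ρ qi a ∈ φ.range := ⟨(1, ⟨_, mem_zpowers _⟩, 1), by simp [φ]⟩
  have m2 : ρ qj a ∈ φ.range := ⟨(1, 1, ⟨_, mem_zpowers _⟩), by simp [φ]⟩
  have m3 : ρ qi (ρ qj a) ∈ φ.range := hs ▸ inv_mem (mul_mem m1 m2)
  have key : ∀ α : MulAut V, α a ∈ φ.range → α (ρ qi a) ∈ φ.range → α (ρ qj a) ∈ φ.range →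
      ∀ v ∈ φ.range, α v ∈ φ.range := by
    rintro α h1 h2 h3 _ ⟨⟨⟨_, x, rfl⟩, ⟨_, y, rfl⟩, ⟨_, z, rfl⟩⟩, rfl⟩
    simpa [φ] using mul_mem (zpow_mem h1 x) (mul_mem (zpow_mem h2 y) (zpow_mem h3 z))
  have pw : ∀ g, (∀ v ∈ φ.range, ρ g v ∈ φ.range) → ∀ n : ℕ, ∀ v ∈ φ.range, ρ (g ^ n) v ∈ φ.range :=
    fun g hg n v hv => by
      induction n with
      | zero => simpa using hv
      | succ n ih => rw [pow_succ', ← ap]; exact hg _ ih
  rcases hmin φ.range fun g v hv => by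
    obtain ⟨x, y, z, rfl⟩ := sl_nf g
    rw [← ap, ← ap]
    exact pw _ (key _ m1 (ii a ▸ inv_mem m0) m3) _ _
      (pw _ (key _ m2 (ji a ▸ inv_mem m3) (jj a ▸ inv_mem m0)) _ _
        (pw _ (key _ (ha.symm ▸ m0) (by rw [bi, ha]; exact m2) (by rw [bj, ha]; exact m3)) _ _ hv))
    with e | e
  · exact absurd (mem_bot.1 (e ▸ m0)) a1
  · have o : ∀ v : V, Nat.card (zpowers v) ≤ 3 := fun v => by
      rw [Nat.card_zpowers]; exact orderOf_le_of_pow_eq_one three_pos (h3 v)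
    have := Nat.card_le_card_of_surjective φ (MonoidHom.range_eq_top.1 e)
    rw [Nat.card_prod, Nat.card_prod] at this
    exact this.trans (Nat.mul_le_mul (o _) (Nat.mul_le_mul (o _) (o _)))

theorem chief27 {Γ : Type*} [Group Γ] [Finite Γ] {B B' : Subgroup Γ} [hB : B.Normal]
    [hB' : B'.Normal] (hle : B ≤ B') (π : Γ →* SL23) (hs : Function.Surjective π)
    (hk : ∀ g, π g = 1 → ∀ a ∈ B', g * a * g⁻¹ * a⁻¹ ∈ B) (hQ : ∀ a ∈ B', π a = 1)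
    (h3 : ∀ a ∈ B', a ^ 3 = 1) (hmin : ∀ X : Subgroup Γ, X.Normal → B < X → X < B' → False)
    {t : Γ} (ht : π t = mm) (hi : ∀ a ∈ B', t * a * t⁻¹ * a ∈ B) :
    Nat.card B' ≤ 27 * Nat.card B := by
  let f := QuotientGroup.mk' B
  have fs : Function.Surjective f := QuotientGroup.mk'_surjective B
  have f1 : ∀ {g}, f g = 1 ↔ g ∈ B := QuotientGroup.eq_one_iff _
  let V := B'.map f
  have hV : V.Normal := hB'.map f fs
  let σ : Γ →* MulAut V := (MulAut.conjNormal (H := V)).comp f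
  have σ_ap : ∀ g a (ha : a ∈ B'), (σ g ⟨f a, a, ha, rfl⟩ : Γ ⧸ B) = f (g * a * g⁻¹) :=
    fun g a ha => by simp [σ]
  have hker : π.ker ≤ σ.ker := fun g hg => MulEquiv.ext fun ⟨_, a, ha, rfl⟩ => Subtype.ext (by
    rw [σ_ap g a ha, ← mul_inv_eq_one]
    exact (map_mul f _ a⁻¹).symm.trans (f1.2 (hk g hg a ha)))
  let ρ : SL23 →* MulAut V := π.liftOfSurjective hs ⟨σ, hker⟩
  have hρ : ∀ g, ρ (π g) = σ g := fun g => π.liftOfRightInverse_comp_apply _ _ ⟨σ, hker⟩ g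
  have hc : IsMulCommutative V := ⟨⟨fun ⟨_, a, ha, rfl⟩ ⟨_, b, hb, rfl⟩ => Subtype.ext (by
    change f a * f b = f b * f a
    rw [← mul_inv_eq_one, ← f1.2 (hk a (hQ a ha) b hb)]
    simp [mul_assoc])⟩⟩
  have hcard : Nat.card B * Nat.card V = Nat.card B' := by
    rw [← relIndex_ker, QuotientGroup.ker_mk', relIndex, ← card_mul_index (B.subgroupOf B'),
      Nat.card_congr (subgroupOfEquivOfLe hle).toEquiv]
  open scoped IsMulCommutative in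
  have key := rep27 (V := V) (fun ⟨_, a, ha, rfl⟩ => Subtype.ext (by
      change f a ^ 3 = 1
      rw [← map_pow, h3 a ha, map_one])) ρ (fun ⟨_, a, ha, rfl⟩ => Subtype.ext (by
      rw [← ht, hρ, σ_ap _ _ ha]
      exact eq_inv_of_mul_eq_one_left ((map_mul f _ a).symm.trans (f1.2 (hi a ha)))))
    (fun X hX => by
    let Y := (X.map V.subtype).comap f
    have h1 : B ≤ Y := fun b hb => by simp [Y, f1.2 hb]
    have h2 : Y ≤ B' := fun y hy => by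
      have : y ∈ V.comap f := map_subtype_le X hy
      rwa [comap_map_eq, QuotientGroup.ker_mk', sup_eq_left.2 hle] at this
    have hY : Y.Normal := ⟨fun y hy g => by
      obtain ⟨x, hx, e⟩ := hy
      refine ⟨_, hX (π g) x hx, ?_⟩
      rw [hρ, show x = ⟨f y, y, h2 ⟨x, hx, e⟩, rfl⟩ from Subtype.ext e]
      exact σ_ap g y (h2 ⟨x, hx, e⟩)⟩
    by_cases e1 : Y = B
    · refine .inl (eq_bot_iff.2 fun ⟨_, a, ha, rfl⟩ hx => Subtype.ext (f1.2 ?_))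
      exact e1 ▸ (⟨_, hx, rfl⟩ : a ∈ Y)
    · refine .inr (eq_top_iff.2 fun ⟨_, a, ha, rfl⟩ _ => ?_)
      have e2 : Y = B' := by_contra fun e2 =>
        hmin Y hY (lt_of_le_of_ne h1 (Ne.symm e1)) (lt_of_le_of_ne h2 e2)
      obtain ⟨x, hx, e⟩ : a ∈ Y := e2 ▸ ha
      exact (show x = ⟨f a, a, ha, rfl⟩ from Subtype.ext e) ▸ hx)
  rw [← hcard, mul_comm]
  exact Nat.mul_le_mul_right _ key

section Kit

variable {G : Type*} [Group G] {z t a g u x k : G} {Q : Subgroup G}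

theorem mem_Ce : g ∈ Ce x ↔ g * x = x * g := mem_centralizer_singleton_iff

theorem zc (hu : u ∈ zpowers z) (hg : g ∈ Ce z) : g * u = u * g := by
  obtain ⟨n, rfl⟩ := hu
  exact (Commute.zpow_right (mem_Ce.1 hg) n).eq

theorem one_of_sq (h3 : u ^ 3 = 1) (h2 : u * u = 1) : u = 1 := by
  rwa [pow_succ, pow_two, h2, one_mul] at h3

/-- an involution `t` acting on the extraspecial group `Q` -/
structure QT (z t : G) (Q : Subgroup G) : Prop where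
  zQ : z ∈ Q
  exp : ∀ a ∈ Q, a ^ 3 = 1
  comm : ∀ a ∈ Q, ∀ b ∈ Q, a * b * a⁻¹ * b⁻¹ ∈ zpowers z
  cen : Cn Q ≤ zpowers z
  Qz : Q ≤ Ce z
  tt : t * t = 1
  tz : t ∈ Ce z
  tQ : ∀ a ∈ Q, t * a * t⁻¹ ∈ Q

namespace QT

variable (h : QT z t Q)
include h

theorem ZQ : zpowers z ≤ Q := zpowers_le.2 h.zQ

theorem Z1 : zpowers z ≤ Q ⊓ Ce t := zpowers_le.2 ⟨h.zQ, mem_Ce.2 (mem_Ce.1 h.tz).symm⟩

theorem tct (a : G) : t * (t * a * t⁻¹) * t⁻¹ = a := by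
  rw [show t * (t * a * t⁻¹) * t⁻¹ = t * t * a * (t * t)⁻¹ by grp91, h.tt]; grp91

theorem m1 (e : t * a * t⁻¹ * a⁻¹ ∈ zpowers z) : a ∈ Ce t := by
  obtain ⟨w, hw, e1⟩ : ∃ w ∈ zpowers z, t * a * t⁻¹ = w * a := ⟨_, e, by grp91⟩
  have e2 := h.tct a
  rw [e1, show t * (w * a) * t⁻¹ = t * w * t⁻¹ * (t * a * t⁻¹) by grp91, e1, zc hw h.tz,
    mul_inv_cancel_right, ← mul_assoc, mul_eq_right] at e2
  rw [one_of_sq (h.exp w (h.ZQ hw)) e2, one_mul, mul_inv_eq_iff_eq_mul] at e1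
  exact mem_Ce.2 e1.symm

theorem dec (ha : a ∈ Q) : ∃ b ∈ Q ⊓ Ce t, ∃ x ∈ Q, t * x * t⁻¹ = x⁻¹ ∧ a = b * x := by
  obtain ⟨y, hy, e1, e2⟩ : ∃ y ∈ Q, t * y * t⁻¹ = y⁻¹ ∧ t * a * t⁻¹ = a * y⁻¹ :=
    ⟨(t * a * t⁻¹)⁻¹ * a, mul_mem (inv_mem (h.tQ a ha)) ha, by
      rw [show t * ((t * a * t⁻¹)⁻¹ * a) * t⁻¹ = (t * (t * a * t⁻¹) * t⁻¹)⁻¹ * (t * a * t⁻¹) by grp91,
        h.tct]
      grp91, by grp91⟩
  have e3 : y⁻¹ = y * y := by
    rw [inv_eq_iff_mul_eq_one, ← h.exp y hy, pow_succ', pow_two]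
  refine ⟨a * y, ⟨mul_mem ha hy, mem_Ce.2 (Eq.symm ?_)⟩, y⁻¹, inv_mem hy, by
    rw [← conj_inv, e1], by grp91⟩
  rw [← mul_inv_eq_iff_eq_mul, ← conj_mul, e1, e2, mul_assoc, ← _root_.mul_inv_rev, ← e3, inv_inv]

theorem cm (ha : a ∈ Q ⊓ Ce t) (hx : x ∈ Q) (e : t * x * t⁻¹ = x⁻¹) : a * x = x * a := by
  obtain ⟨w, hw, e1⟩ : ∃ w ∈ zpowers z, a * x * a⁻¹ = w * x := ⟨_, h.comm a ha.1 x hx, by grp91⟩
  have e2 : t * a * t⁻¹ = a := by rw [← mem_Ce.1 ha.2, mul_inv_cancel_right]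
  have e3 : t * (a * x * a⁻¹) * t⁻¹ = (a * x * a⁻¹)⁻¹ := by
    rw [← conj_mul, ← conj_mul, ← conj_inv, e, e2]; grp91
  rw [e1, ← conj_mul, e, zc hw h.tz, mul_inv_cancel_right, _root_.mul_inv_rev,
    zc (inv_mem hw) (inv_mem (h.Qz hx)), mul_left_inj, eq_inv_iff_mul_eq_one] at e3
  rwa [one_of_sq (h.exp w (h.ZQ hw)) e3, one_mul, mul_inv_eq_iff_eq_mul] at e1

theorem z1 (ha : a ∈ Q ⊓ Ce t) (e : ∀ b ∈ Q ⊓ Ce t, b * a = a * b) : a ∈ zpowers z :=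
  h.cen fun g hg => by
    obtain ⟨b, hb, x, hx, e1, rfl⟩ := h.dec hg
    exact (Commute.mul_left (e b hb) (h.cm ha hx e1).symm).eq

theorem step (hk : k ∈ Ce z) (h4 : k ^ 4 ∈ Q) (ha : a ∈ Q) (hw : k * a * k⁻¹ * a⁻¹ ∈ Q)
    (e : k * (k * a * k⁻¹ * a⁻¹) * k⁻¹ * (k * a * k⁻¹ * a⁻¹)⁻¹ ∈ zpowers z) :
    k * a * k⁻¹ * a⁻¹ ∈ zpowers z := by
  obtain ⟨w, e1, rfl⟩ : ∃ w, k * a * k⁻¹ = w * a ∧ w = k * a * k⁻¹ * a⁻¹ := ⟨_, by grp91, rfl⟩
  generalize k * a * k⁻¹ * a⁻¹ = w at *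
  obtain ⟨u, hu, e2⟩ : ∃ u ∈ zpowers z, k * w * k⁻¹ = u * w := ⟨_, e, by grp91⟩
  have e3 : k * u * k⁻¹ = u := by rw [zc hu hk, mul_inv_cancel_right]
  have c : Commute w u := zc hu (h.Qz hw)
  have e4 : k ^ 3 * a * (k ^ 3)⁻¹ = a := by
    rw [show k ^ 3 * a * (k ^ 3)⁻¹ = k * (k * (k * a * k⁻¹) * k⁻¹) * k⁻¹ by grp91, e1,
      ← conj_mul (b := k) (a := w), e1, e2, ← conj_mul (b := k) (a := u * w),
      ← conj_mul (b := k) (a := u), ← conj_mul (b := k) (a := w), e1, e2, e3,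
      show u * (u * w) * (u * w * (w * a)) = u * u * (w * u) * w * w * a by grp91, c.eq,
      show u * u * (u * w) * w * w * a = u ^ 3 * w ^ 3 * a by grp91, h.exp u (h.ZQ hu), h.exp w hw,
      one_mul, one_mul]
  have := h.comm _ h4 a ha
  rwa [show k ^ 4 * a * (k ^ 4)⁻¹ = k * (k ^ 3 * a * (k ^ 3)⁻¹) * k⁻¹ by grp91, e4, e1,
    mul_inv_cancel_right] at this

theorem chain (hk : k ∈ Ce z) (h4 : k ^ 4 ∈ Q) {r : ℕ} {U : Fin (r + 1) → Subgroup G}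
    (h0 : U 0 ≤ zpowers z) (hQ : ∀ i, U i ≤ Q)
    (hs : ∀ i : Fin r, ∀ a ∈ U i.succ, k * a * k⁻¹ * a⁻¹ ∈ U i.castSucc) (i : Fin (r + 1)) :
    ∀ a ∈ U i, k * a * k⁻¹ * a⁻¹ ∈ zpowers z := by
  induction i using Fin.induction with
  | zero => exact fun a ha => by rw [zc (h0 ha) hk]; simp
  | succ i ih => exact fun a ha => h.step hk h4 (hQ _ ha) (hQ _ (hs i a ha)) (ih _ (hs i a ha))

end QT

end Kit

theorem h0_core {G : Type*} [Group G] [Finite G] {z t : G} {Q K : Subgroup G} (h : QT z t Q)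
    (π : K →* SL23) (hs : Function.Surjective π) (hk : ∀ g, π g = 1 ↔ (g : G) ∈ Q) (QK : Q ≤ K)
    (KC : K ≤ Ce z) (tK : t ∈ K) (ht : π ⟨t, tK⟩ = mm) (cZ : Nat.card (zpowers z) = 3)
    (cQ : Nat.card Q = 243) {r : ℕ} {A : Fin (r + 1) → Subgroup G} (hA0 : A 0 = zpowers z)
    (hAr : A (Fin.last r) = Q) (hmono : ∀ i : Fin r, A i.castSucc < A i.succ)
    (hinv : ∀ i, ∀ k ∈ K, ∀ a ∈ A i, k * a * k⁻¹ ∈ A i)
    (hmax : ∀ i : Fin r, ∀ B, A i.castSucc < B → B < A i.succ → ∃ k ∈ K, ∃ b ∈ B, k * b * k⁻¹ ∉ B)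
    {l : Fin r} (hl : ∀ i, i ≠ l → ∀ k ∈ K, ∀ a ∈ A i.succ, k * a * k⁻¹ * a⁻¹ ∈ A i.castSucc) :
    Nat.card (Q ⊓ Ce t : Subgroup G) = 27 ∧ ∀ k : K, π k ^ 4 = 1 → ∀ a ∈ Q ⊓ Ce t,
      (k : G) * a * (k : G)⁻¹ * a⁻¹ ∈ zpowers z := by
  have : Fact (Nat.Prime 3) := ⟨Nat.prime_three⟩
  have mo := (Fin.strictMono_iff_lt_succ.2 hmono).monotone
  have lZ : ∀ l, zpowers z ≤ A l := fun l => hA0 ▸ mo (Fin.zero_le l)
  have lQ : ∀ l, A l ≤ Q := fun l => hAr ▸ mo (Fin.le_last l)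
  have nQ : ∀ k ∈ K, ∀ a ∈ Q, k * a * k⁻¹ ∈ Q := fun k hk a ha => hAr ▸ hinv _ k hk a (hAr ▸ ha)
  have t4 : t ^ 4 ∈ Q := by
    rw [show t ^ 4 = t * t * (t * t) by grp91, h.tt, one_mul]; exact one_mem _
  have nt : ¬ Q ≤ Ce t := fun e => absurd (ht.symm.trans ((hk ⟨t, tK⟩).2
    (h.ZQ (h.cen fun a ha => mem_Ce.1 (e ha))))) (by decide)
  have tk : ∀ k ∈ K, ∀ a ∈ Q, ∃ w ∈ zpowers z,
      t * (k * a * k⁻¹) * t⁻¹ = k * (t * (w * a) * t⁻¹) * k⁻¹ := fun k hkK a ha =>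
    ⟨_, h.comm (t⁻¹ * k⁻¹ * t * k) ((hk ((⟨t, tK⟩ : K)⁻¹ * (⟨k, hkK⟩ : K)⁻¹ * ⟨t, tK⟩ * ⟨k, hkK⟩)).1
      (by rw [map_mul, map_mul, map_mul, map_inv, map_inv, ht, mul_assoc, mm_comm]; grp91)) a ha,
      by grp91⟩
  have inv1 : ∀ k ∈ K, ∀ a ∈ Q ⊓ Ce t, k * a * k⁻¹ ∈ Q ⊓ Ce t := fun k hkK a ha => by
    obtain ⟨w, hw, e⟩ := tk k hkK a ha.1
    refine ⟨nQ k hkK a ha.1, h.m1 ?_⟩
    rw [e, ← mem_Ce.1 (mul_mem (h.Z1 hw) ha).2,
      show k * (w * a * t * t⁻¹) * k⁻¹ * (k * a * k⁻¹)⁻¹ = k * w * k⁻¹ by grp91, zc hw (KC hkK)]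
    simpa using hw
  let X : Subgroup G :=
    { carrier := {a | a ∈ A l.succ ∧ t * a * t⁻¹ * a⁻¹ ∈ A l.castSucc}
      one_mem' := ⟨one_mem _, by simp⟩
      mul_mem' := fun {a b} ha hb => ⟨mul_mem ha.1 hb.1, by
        rw [show t * (a * b) * t⁻¹ * (a * b)⁻¹ =
          t * a * t⁻¹ * a⁻¹ * (a * (t * b * t⁻¹ * b⁻¹) * a⁻¹) by grp91]
        exact mul_mem ha.2 (hinv _ a (QK (lQ _ ha.1)) _ hb.2)⟩
      inv_mem' := fun {a} ha => ⟨inv_mem ha.1, by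
        rw [show t * a⁻¹ * t⁻¹ * a⁻¹⁻¹ = a⁻¹ * (t * a * t⁻¹ * a⁻¹)⁻¹ * a⁻¹⁻¹ by grp91]
        exact hinv _ _ (inv_mem (QK (lQ _ ha.1))) _ (inv_mem ha.2)⟩ }
  have hX : X ≤ A l.castSucc := by
    have x1 : A l.castSucc ≤ X := fun a ha =>
      ⟨(hmono l).le ha, mul_mem (hinv _ t tK a ha) (inv_mem ha)⟩
    by_contra n
    by_cases e : A l.succ ≤ X
    · refine nt fun a ha => h.m1 (h.chain h.tz t4 hA0.le lQ (fun i b hb => ?_) _ a (hAr ▸ ha))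
      by_cases hi : i = l
      · subst hi; exact (e hb).2
      · exact hl i hi t tK b hb
    obtain ⟨k, hkK, b, hb, n2⟩ := hmax l X (lt_of_le_not_ge x1 n)
      (lt_of_le_not_ge (fun _ ha => ha.1) e)
    obtain ⟨w, hw, e1⟩ := tk k hkK b (lQ _ hb.1)
    refine n2 ⟨hinv _ k hkK b hb.1, ?_⟩
    rw [e1, show k * (t * (w * b) * t⁻¹) * k⁻¹ * (k * b * k⁻¹)⁻¹ =
      k * (t * w * t⁻¹ * (t * b * t⁻¹ * b⁻¹)) * k⁻¹ by grp91]
    exact hinv _ k hkK _ (mul_mem (hinv _ t tK w (lZ _ hw)) hb.2)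
  refine ⟨?_, fun k h4 a ha => h.chain (U := fun i => A i ⊓ (Q ⊓ Ce t)) (KC k.2)
    ((hk (k ^ 4)).1 (by rw [map_pow, h4])) (inf_le_left.trans hA0.le)
    (fun _ => inf_le_right.trans inf_le_left) (fun i b hb => ?_) _ a ⟨hAr ▸ ha.1, ha⟩⟩
  swap
  · refine ⟨?_, (Q ⊓ Ce t).mul_mem (inv1 k k.2 b hb.2) ((Q ⊓ Ce t).inv_mem hb.2)⟩
    by_cases hi : i = l
    · subst hi
      have : b ∈ A i.castSucc := hX ⟨hb.1, by rw [← mem_Ce.1 hb.2.2]; simp⟩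
      exact (A _).mul_mem (hinv _ k k.2 b this) ((A _).inv_mem this)
    · exact hl i hi k k.2 b hb.1
  have pQ : IsPGroup 3 Q := fun x => ⟨1, Subtype.ext (by simpa using h.exp x x.2)⟩
  have c0 := card_le_of_le h.Z1
  have c1 := three_mul_le pQ (show Q ⊓ Ce t < Q from lt_of_le_not_ge inf_le_left
    fun e => nt (e.trans inf_le_right))
  obtain ⟨n, hn⟩ := (pQ.to_le (inf_le_left : Q ⊓ Ce t ≤ Q)).exists_card_eq
  have n5 : n < 5 := by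
    rw [hn, cQ, ← pow_succ'] at c1
    exact (Nat.pow_le_pow_iff_right (by norm_num)).1 (c1.trans_eq (by norm_num : 243 = 3 ^ 5))
  interval_cases n
  · omega
  · exfalso
    have e1 : Q ⊓ Ce t = zpowers z := (eq_of_le_of_card_ge h.Z1 (by omega)).symm
    have ti : ∀ a ∈ Q, t * a * t⁻¹ * a ∈ zpowers z := fun a ha => by
      refine e1.le ⟨mul_mem (h.tQ a ha) ha, h.m1 ?_⟩
      rw [← conj_mul, h.tct]
      simpa [mul_assoc] using h.comm a ha _ (h.tQ a ha)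
    have r1 : ∀ i, i = l := fun i => by_contra fun hi => (hmono i).not_ge fun a ha => by
      have h1 := mul_mem (inv_mem (hl i hi t tK a ha)) (lZ _ (ti a (lQ _ ha)))
      rw [show (t * a * t⁻¹ * a⁻¹)⁻¹ * (t * a * t⁻¹ * a) = a * a by grp91] at h1
      have h2 := mul_mem h1 h1
      rwa [show a * a * (a * a) = a ^ 3 * a by grp91, h.exp a (lQ _ ha), one_mul] at h2
    have e2 : A l.castSucc = zpowers z := by
      rw [← hA0, ← r1 ⟨0, l.pos⟩]; rfl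
    have e3 : A l.succ = Q := by
      have := l.pos
      rw [← hAr, ← r1 ⟨r - 1, by omega⟩]
      exact congrArg A (Fin.ext (by simp; omega))
    have hm := hmax l
    rw [e2, e3] at hm
    have : ((zpowers z).subgroupOf K).Normal := ⟨fun a ha k => hA0 ▸ hinv 0 k k.2 a (hA0 ▸ ha)⟩
    have : (Q.subgroupOf K).Normal := ⟨fun a ha k => nQ k k.2 a ha⟩
    have inj := K.subtype_injective
    have key := chief27 (B := (zpowers z).subgroupOf K) (B' := Q.subgroupOf K) (comap_mono h.ZQ)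
      π hs (fun g hg a ha => h.comm _ ((hk g).1 hg) _ ha) (fun a ha => (hk a).2 ha)
      (fun a ha => Subtype.ext (h.exp _ ha)) (fun X hX h1 h2 => by
        rw [← map_lt_map_iff_of_injective inj, subgroupOf_map_subtype] at h1 h2
        rw [inf_eq_left.2 (h.ZQ.trans QK)] at h1
        rw [inf_eq_left.2 QK] at h2
        obtain ⟨k, hk, _, ⟨b, hb, rfl⟩, hn⟩ := hm _ h1 h2
        exact hn ⟨_, hX.conj_mem b hb ⟨k, hk⟩, rfl⟩) ht fun a ha => ti a ha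
    rw [Nat.card_congr (subgroupOfEquivOfLe QK).toEquiv,
      Nat.card_congr (subgroupOfEquivOfLe (h.ZQ.trans QK)).toEquiv] at key
    omega
  · exfalso
    have hc := IsPGroup.isMulCommutative_of_card_eq_prime_sq hn
    have := card_le_of_le (show Q ⊓ Ce t ≤ zpowers z from fun a ha => h.z1 ha fun b hb =>
      congrArg Subtype.val (hc.is_comm.comm ⟨b, hb⟩ ⟨a, ha⟩))
    omega
  · exact hn
  · exfalso
    obtain ⟨a, ha, hat⟩ := SetLike.not_le_iff_exists.1 nt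
    obtain ⟨b, hb, x, hx, e1, rfl⟩ := h.dec ha
    have x1 : x ∉ Q ⊓ Ce t := fun k => hat (mul_mem hb k).2
    have c2 := three_mul_le (pQ.to_le (inf_le_left : Q ⊓ Ce x ≤ Q))
      (show Q ⊓ Ce t < Q ⊓ Ce x from lt_of_le_not_ge (fun b hb => ⟨hb.1, mem_Ce.2 (h.cm hb hx e1)⟩)
        fun e => x1 (e ⟨hx, mem_Ce.2 rfl⟩))
    have e2 := eq_of_le_of_card_ge (inf_le_left : Q ⊓ Ce x ≤ Q) (by omega)
    exact x1 (h.Z1 (h.cen fun g hg => mem_Ce.1 (e2.ge hg).2))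

/-- S3372 from the jobs -/
theorem s3372_of (jobs : Jobs.{u}) {G : Type u} [Group G] [Finite G]
    (S : Sylow 3 G) (Z : Subgroup G) (hZ : Z = (S : Subgroup G) ⊓ centralizer ((S : Subgroup G) : Set G))
    (C : Subgroup G) (hCZ : C = centralizer (Z : Set G))
    (Q : Subgroup G) (hQ : Q = (pCore 3 C).map C.subtype)
    (hQex : IsExtraspecial 3 Q) (hQcard : Nat.card Q = 3 ^ 5) (hQexp : ∀ a ∈ Q, a ^ 3 = 1)
    (hCQ : centralizer (Q : Set G) ≤ Q)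
    (hZQ : ∃ x : G, Z.map (MulAut.conj x).toMonoidHom ≤ Q ∧ Z.map (MulAut.conj x).toMonoidHom ≠ Z)
    (K : Subgroup G) (hK : K = ((pResidual 2 (C ⧸ pCore 3 C)).comap
      (QuotientGroup.mk' (pCore 3 C))).map C.subtype)
    (r : ℕ) (A : Fin (r + 1) → Subgroup G) (hA0 : A 0 = Z) (hAr : A (Fin.last r) = Q)
    (hmono : ∀ i : Fin r, A i.castSucc < A i.succ)
    (hinv : ∀ i : Fin (r + 1), ∀ k ∈ K, ∀ a ∈ A i, k * a * k⁻¹ ∈ A i)
    (hmax : ∀ i : Fin r, ∀ B : Subgroup G, A i.castSucc < B → B < A i.succ →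
      ∃ k ∈ K, ∃ b ∈ B, k * b * k⁻¹ ∉ B)
    (e : Nonempty (C ⧸ pCore 3 C ≃* SL23) ∨
      Nonempty (C ⧸ pCore 3 C ≃* SL23 × Multiplicative (ZMod 2)))
    (hone : ∃! i : Fin r, (∃ k ∈ K, ∃ a ∈ A i.succ, k * a * k⁻¹ * a⁻¹ ∉ A i.castSucc)) :
    H47.O8.Con G := by
  have : Fact (Nat.Prime 3) := ⟨Nat.prime_three⟩
  obtain ⟨x, hx1, hx2⟩ := hZQ
  have QC : Q ≤ C := hQ ▸ map_subtype_le _
  have SC : (S : Subgroup G) ≤ C := by
    rw [hCZ, ← le_centralizer_iff, hZ]; exact inf_le_right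
  have QS : Q ≤ S := hQ ▸ (isSyl_sylow_of_le S SC).pCoreOf_le
  have ZC : Z ≤ centralizer (Q : Set G) := hZ ▸ inf_le_right.trans (centralizer_le QS)
  have cen : centralizer (Q : Set G) ≤ (center Q).map Q.subtype := fun a ha =>
    ⟨⟨a, hCQ ha⟩, mem_center_iff.2 fun b => Subtype.ext (ha b b.2), rfl⟩
  have cc : Nat.card ((center Q).map Q.subtype) = 3 := (card_subtype _ _).trans hQex.2
  obtain ⟨⟨z, hz⟩, z1⟩ := ne_bot_iff_exists_ne_one.1 (show Z ≠ ⊥ by rintro rfl; simp at hx2)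
  have oz : orderOf z = 3 := orderOf_eq_prime (hQexp z (hCQ (ZC hz))) fun e => z1 (Subtype.ext e)
  have zz : zpowers z = (center Q).map Q.subtype := eq_of_le_of_card_ge
    (zpowers_le.2 (cen (ZC hz))) (by rw [cc, Nat.card_zpowers, oz])
  have eZ : Z = zpowers z := le_antisymm (zz ▸ ZC.trans cen) (zpowers_le.2 hz)
  clear hZ
  subst eZ
  have eC : C = Ce z := by rw [hCZ, zpowers_eq_closure, centralizer_closure]
  have nC : Nz z ≤ normalizer (C : Set G) := hCZ ▸ normalizer_le_normalizer_centralizer _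
  have pc : pCore 3 C ≤ pResidual 2 C := fun g hg => subset_closure
    (Nat.Coprime.coprime_dvd_left (orderOf_dvd_of_pow_eq_one (n := 3)
      (Subtype.ext (hQexp g (hQ ▸ ⟨g, hg, rfl⟩)))) (by norm_num))
  have eK : K = res 2 C := by
    rw [hK, ← H7.map_pResidual_of_surjective _ (QuotientGroup.mk'_surjective _), comap_map_eq,
      QuotientGroup.ker_mk', sup_eq_left.2 pc, ← res_subgroupOf, subgroupOf_map_subtype,
      inf_eq_left.2 (res_le C)]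
  obtain ⟨ψ, ψi, ψs⟩ : ∃ ψ : C ⧸ pCore 3 C →* SL23 × Multiplicative (ZMod 2),
      Function.Injective ψ ∧ ∀ s, ∃ c, ψ c = (s, 1) := by
    rcases e with ⟨⟨e⟩⟩ | ⟨⟨e⟩⟩
    · exact ⟨(MonoidHom.inl _ _).comp e.toMonoidHom,
        fun a b k => e.injective (congrArg Prod.fst k), fun s => ⟨e.symm s, by simp⟩⟩
    · exact ⟨e.toMonoidHom, e.injective, fun s => e.surjective _⟩
  have KC : K ≤ C := eK ▸ res_le C
  let θ := ψ.comp ((QuotientGroup.mk' _).comp (inclusion KC))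
  have θ2 : ∀ k, (θ k).2 = 1 := by
    rintro ⟨_, hk⟩
    obtain ⟨c, hc, rfl⟩ := hK.le hk
    refine (closure_le ((MonoidHom.snd _ _).comp ψ).ker).2 (fun g hg => ?_) hc
    have : ∀ y : Multiplicative (ZMod 2), y ^ 2 = 1 := by decide
    exact orderOf_eq_one_iff.1 (Nat.eq_one_of_dvd_coprimes hg
      (orderOf_map_dvd ((MonoidHom.snd _ _).comp ψ) g) (orderOf_dvd_of_pow_eq_one (this _)))
  let π : K →* SL23 := (MonoidHom.fst _ _).comp θ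
  have hs : Function.Surjective π := by
    refine MonoidHom.range_eq_top.1 (eq_top_iff.2 (res_SL2.ge.trans ((closure_le _).2 fun s h => ?_)))
    obtain ⟨c, hc⟩ := ψs s
    obtain ⟨g, rfl⟩ := QuotientGroup.mk'_surjective _ c
    refine ⟨⟨g, hK.ge ⟨g, subset_closure ?_, rfl⟩⟩, congrArg Prod.fst hc⟩
    rw [Set.mem_setOf_eq, ← orderOf_injective ψ ψi, hc, Prod.orderOf_mk, orderOf_one, Nat.lcm_one_right]
    exact h
  have hk : ∀ g, π g = 1 ↔ (g : G) ∈ Q := fun g => by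
    rw [hQ]
    refine Iff.trans ?_ ((QuotientGroup.eq_one_iff (inclusion KC g)).trans
      (mem_map_iff_mem (subtype_injective _)).symm)
    exact ⟨fun k => ψi ((Prod.ext k (θ2 g)).trans (map_one ψ).symm), fun k =>
      congrArg Prod.fst ((congrArg ψ k).trans (map_one ψ))⟩
  have QK : Q ≤ K := by
    rw [hQ, eK, ← inf_eq_left.2 (res_le (p := 2) C), ← subgroupOf_map_subtype, res_subgroupOf]
    exact map_mono pc
  have hc : ∀ a ∈ Q, ∀ b ∈ Q, a * b * a⁻¹ * b⁻¹ ∈ zpowers z := fun a ha b hb =>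
    zz.ge ⟨_, hQex.1.2.2.le (commutator_mem_commutator (mem_top ⟨a, ha⟩)
      (mem_top ⟨b, hb⟩)), rfl⟩
  obtain ⟨g, hg⟩ := hs mm
  have g2 := hQexp _ ((hk (g * g)).1 (by rw [map_mul, hg, mm_sq]))
  have ht : π (g * g * g) = mm := by rw [map_mul, map_mul, hg, mm_sq, one_mul]
  have tt : ((g * g * g : K) : G) * (g * g * g : K) = 1 := by
    rw [← g2]; simp [pow_succ, mul_assoc]
  generalize g * g * g = t at ht tt
  have nQ : Nz z ≤ normalizer (Q : Set G) := hQ ▸ nC.trans (normalizer_le_normalizer_pCoreOf C)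
  have qt : QT z t Q := ⟨hCQ (ZC hz), hQexp, hc, zz ▸ cen, eC ▸ QC, tt, eC ▸ KC t.2,
    fun a ha => hAr ▸ hinv _ t t.2 a (hAr ▸ ha)⟩
  obtain ⟨l, -, hl⟩ := hone
  obtain ⟨c1, c2⟩ := h0_core qt π hs hk QK (eC ▸ KC) t.2 ht (zz ▸ cc) hQcard hA0 hAr hmono hinv
    hmax (l := l) fun i hi k hk a ha => by_contra fun n => hi (hl i ⟨k, hk, a, ha, n⟩)
  refine jobs.main (x := x) (π := π) ⟨oz, qt.zQ, hQcard, hQexp, hc, qt.cen, nQ, QK, eC ▸ KC,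
    eK ▸ nC.trans (normalizer_le_normalizer_res C), hs, hk, fun g hg ⟨n, hn⟩ => eK ▸
      mem_res_of_coprime (eC ▸ hg) (Nat.Coprime.coprime_dvd_left (orderOf_dvd_of_pow_eq_one hn)
        (Nat.Coprime.pow_left n (by norm_num))),
    fun k => S.not_dvd_index (k.trans (index_dvd_of_le (eC ▸ SC))), tt, ⟨t.2, ht.trans mm_eq⟩,
    c1, c2⟩ (hx1 ⟨z, hz, rfl⟩) fun h => hx2
    (eq_of_le_of_card_ge ?_ (card_map_of_injective (MulAut.conj x).injective).ge)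
  rw [MonoidHom.map_zpowers]; exact zpowers_le.2 h

end H91.O8
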