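/- Jobs K4 and A1 of the tower for S3253 (see `blueprints/T3.md`). -/
import Cfsg.Agent.H48.T3Lem
import Cfsg.Agent.S1169
import Cfsg.Agent.H12.ExtTransfer

set_option autoImplicit false

namespace H91.T3
open Subgroup Cfsg H98 H96.CG H48.T3
open scoped commutatorElement

universe u

section
variable {G : Type u} [Group G]

/-- exponent two -/
def E2 (D : Subgroup G) : Prop := ∀ a ∈ D, a * a = 1

theorem E2.inv {D : Subgroup G} (h : E2 D) {a : G} (ha : a ∈ D) : a⁻¹ = a :=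
  inv_eq_of_mul_eq_one_right (h a ha)

theorem E2.comm {D : Subgroup G} (h : E2 D) {a b : G} (ha : a ∈ D) (hb : b ∈ D) :
    a * b = b * a := by
  rw [← h.inv (mul_mem ha hb), mul_inv_rev, h.inv ha, h.inv hb]

theorem e2_iff {D : Subgroup G} : IsElementaryAbelian 2 D ↔ E2 D :=
  ⟨fun h a ha => by rw [← pow_two]; exact h.2 a ha,
    fun h => ⟨⟨⟨fun a b => Subtype.ext (h.comm a.2 b.2)⟩⟩, fun a ha => by
      rw [pow_two]; exact h a ha⟩⟩

theorem E2.isP {D : Subgroup G} (h : E2 D) : IsPGroup 2 D :=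
  isPGroup_iff_forall.mpr fun a ha => ⟨1, by simpa [pow_two] using h a ha⟩

theorem E2.cj {D : Subgroup G} (h : E2 D) (g : G) : E2 (cj g D) := fun a ha => by
  have := h _ (mem_cj.mp ha)
  calc a * a = g * (g⁻¹ * a * g * (g⁻¹ * a * g)) * g⁻¹ := by group
    _ = 1 := by rw [this]; group

theorem E2.mono {D A : Subgroup G} (h : E2 D) (hA : A ≤ D) : E2 A := fun a ha => h a (hA ha)

theorem mem_cen1 {a c : G} : c ∈ cen1 a ↔ c * a = a * c := by
  rw [mem_centralizer_iff]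
  simp only [Set.mem_singleton_iff, forall_eq]
  exact eq_comm

theorem nor_cj_of {g a : G} {W : Subgroup G} (h : a ∈ nor (cj g W)) : g⁻¹ * a * g ∈ nor W := by
  rw [nor, ← cj_normalizer] at h
  exact mem_cj.mp h

/-- an involution with small centralizer acts freely -/
theorem free_of_card [Finite G] {D : Subgroup G} (hD : E2 D) {a : G} (ha : a ∈ nor D)
    (haa : a * a = 1) (hc : Nat.card (D ⊓ cen1 a : Subgroup G) ^ 2 ≤ Nat.card D) :
    ∀ c ∈ D, c * a = a * c → ∃ d ∈ D, d * a * d⁻¹ = c * a := by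
  have ai : a⁻¹ = a := inv_eq_of_mul_eq_one_right haa
  have m1 : ∀ d ∈ D, a * d * a ∈ D := fun d hd => by
    have := conj_mem_of_mem_normalizer ha hd
    rwa [ai] at this
  let φ : D →* (D ⊓ cen1 a : Subgroup G) := MonoidHom.mk' (fun d => ⟨d * (a * d * a),
    mul_mem d.2 (m1 d d.2), mem_cen1.mpr (by
      calc (d : G) * (a * d * a) * a = d * a * d * (a * a) := by group
        _ = a * (a * d * a) * d * (a * a) := by
          rw [show a * (a * (d : G) * a) = (a * a) * d * a by group, haa, one_mul]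
        _ = a * ((a * d * a) * d) := by rw [haa]; group
        _ = _ := by rw [hD.comm (m1 d d.2) d.2])⟩) (fun d e => Subtype.ext (by
      show (d : G) * e * (a * (d * e) * a) = d * (a * d * a) * (e * (a * e * a))
      calc (d : G) * e * (a * (d * e) * a) = d * e * (a * d * (a * a) * e * a) := by
            rw [haa]; group
        _ = d * (e * (a * d * a)) * (a * e * a) := by group
        _ = _ := by rw [hD.comm e.2 (m1 d d.2)]; group))
  have hk : Nat.card φ.ker ≤ Nat.card (D ⊓ cen1 a : Subgroup G) := by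
    refine Nat.card_le_card_of_injective (fun d => ⟨d.1.1, d.1.2, mem_cen1.mpr ?_⟩) ?_
    · have e : (d.1 : G) * (a * d.1 * a) = 1 := congrArg Subtype.val d.2
      have e2 := hD d.1 d.1.2
      have e3 : a * d.1 * a = d.1 := mul_left_cancel (e.trans e2.symm)
      calc (d.1 : G) * a = (a * d.1 * a) * a := by rw [e3]
        _ = a * d.1 * (a * a) := by group
        _ = _ := by rw [haa, mul_one]
    · intro d e h
      have h' := congrArg Subtype.val h
      exact Subtype.ext (Subtype.ext h')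
  have h1 : Nat.card φ.ker * Nat.card φ.range = Nat.card D := by
    rw [← Subgroup.index_ker, Subgroup.card_mul_index]
  have hpos : 0 < Nat.card (D ⊓ cen1 a : Subgroup G) := Nat.card_pos
  have h2 : Nat.card (D ⊓ cen1 a : Subgroup G) ≤ Nat.card φ.range := by
    by_contra hlt
    push Not at hlt
    have : Nat.card φ.ker * Nat.card φ.range < Nat.card (D ⊓ cen1 a : Subgroup G) ^ 2 := by
      rw [pow_two]
      exact Nat.mul_lt_mul_of_le_of_lt hk hlt hpos
    omega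
  have h3 : φ.range = ⊤ := Subgroup.eq_top_of_le_card _ h2
  intro c hc e
  obtain ⟨d, hd⟩ : (⟨c, hc, mem_cen1.mpr e⟩ : (D ⊓ cen1 a : Subgroup G)) ∈ φ.range :=
    h3 ▸ mem_top _
  refine ⟨d, d.2, ?_⟩
  have e' : (d : G) * (a * d * a) = c := congrArg Subtype.val hd
  rw [← e', hD.inv d.2]
  calc (d : G) * a * d = d * a * d * (a * a) := by rw [haa, mul_one]
    _ = _ := by group

theorem isP_sup_inv {D : Subgroup G} (hD : IsPGroup 2 D) {u : G} (hu : u ∈ nor D)
    (uu : u * u = 1) : IsPGroup 2 (D ⊔ zpowers u : Subgroup G) :=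
  IsPGroup.to_sup_of_normal_left' hD (isPGroup_zpowers (k := 1) (by simpa [pow_two] using uu))
    (zpowers_le.mpr hu)

/-- `u` does not centralise `V x` -/
theorem u_moves (H : Hy G) {x y u : G} (h : Pu x y u) (hV : V x ≠ ⊥) :
    ∃ v ∈ V x, u * v ≠ v * u := by
  obtain ⟨t, ht, t1, -, hall⟩ := H.u_fix h hV
  refine ⟨y * t * y⁻¹, conj_mem_of_mem_normalizer
    (h.le_nor_V (left_mem_Pl _ _) (right_mem_Pl _ _)) ht, fun e => ?_⟩
  rcases hall _ (conj_mem_of_mem_normalizer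
    (h.le_nor_V (left_mem_Pl _ _) (right_mem_Pl _ _)) ht) e with e' | e'
  · exact t1 (by simpa using e')
  · exact (H.orbit h ht t1).1 e'

end

theorem jobK4 (hSC : JobSC.{u}) (hK : JobK4a.{u}) : JobK4.{u} := by
  intro G _ _ _ B x y e hF h14 h34
  obtain ⟨hD', c256, hfree, hrk⟩ := hK G B x y e hF h14 h34
  have hP : Pu x y (e * e) := hF.toPu
  set D := N x with hDdef
  have hD : E2 D := e2_iff.mp hD'
  have wc : ∀ g, cj g D ≤ nor D → cj g D = D := by
    intro g hg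
    by_cases hle : cj g D ≤ D
    · exact eq_of_le_of_card_ge hle (card_cj g D).ge
    exfalso
    obtain ⟨a, ha, haD⟩ := SetLike.not_le_iff_exists.mp hle
    have h1 := hrk _ hg (e2_iff.mpr (hD.cj g))
    have h2 := hfree a (hg ha) haD (hD.cj g a ha)
    have h3 : Nat.card (cj g D ⊓ D : Subgroup G) ≤ Nat.card (D ⊓ cen1 a : Subgroup G) :=
      card_le_of_le fun c hc => ⟨hc.2, mem_cen1.mpr ((hD.cj g).comm hc.1 ha)⟩
    rw [card_cj, c256] at h1
    omega
  obtain ⟨sc1, sc2⟩ := hSC G D hD' wc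
  have un : e * e ∈ nor D := hP.u_nor_N (left_mem_Pl _ _)
  obtain ⟨S, hS, hle⟩ := exists_isSyl_le (isP_sup_inv hD.isP un hP.uu) le_top
  have hDS : D ≤ S := le_sup_left.trans hle
  have hSn : S ≤ nor D := fun r hr =>
    cj_eq_self_iff.mp (sc1 S hS.isPGroup hDS r (cj_le_of_le_of_mem hDS hr))
  have hVD : V x ≤ D := B.VN x hP.ox
  have hsc : IsStronglyClosed D (hS.toSylowTop : Subgroup G) := by
    refine ⟨hDS, fun z hz g hg => ?_⟩
    by_contra haD
    set a := g * z * g⁻¹ with ha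
    have an : a ∈ nor D := hSn hg
    obtain ⟨g', b, d, d', h1, h2, h3, h4, h5, h6, h7, h8, h9⟩ := sc2
      (fun a ha haD aa => free_of_card hD ha aa (by rw [hfree a ha haD aa, c256]; norm_num)) a an haD
      ⟨g, conj_mem_cj hz⟩
    have hD2 := hD.cj g'
    obtain ⟨k, hk⟩ := three_of_pair (hD b h3) (fun e => h4 (e ▸ one_mem _)) h5.symm (hD2 a h1) h7
      (by rw [hD.comm h6 h3]; group) h9 (by rw [hD2.comm h8 h1]; group)
    set s := (d * d') ^ k with hs
    have hB : D ⊓ cj g' D ≤ V s := fun c hc => (B.memV s hk c).mpr ⟨by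
      have : Commute c (d * d') :=
        Commute.mul_right (hD.comm hc.1 h6) (hD2.comm hc.2 h8)
      exact this.pow_right k, hD c hc.1⟩
    have c4 : 4 ≤ Nat.card (D ⊓ cj g' D : Subgroup G) := by
      have k1 := hrk (cj g'⁻¹ (D ⊓ cen1 a)) (by
        rw [cj_le_iff, inv_inv, nor, cj_normalizer]; exact h2)
        (e2_iff.mpr ((hD.mono inf_le_left).cj _))
      rw [card_cj, hfree a an haD (hD2 a h1), ← card_cj g', cj_inf, cj_cj_inv] at k1
      have k2 : Nat.card ((D ⊓ cen1 a) ⊓ cj g' D : Subgroup G) ≤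
          Nat.card (D ⊓ cj g' D : Subgroup G) :=
        card_le_of_le (inf_le_inf_right _ inf_le_left)
      omega
    have hV : V s ≠ ⊥ := fun e => by
      rw [e, le_bot_iff] at hB
      rw [hB, card_bot] at c4
      omega
    have hBV : D ⊓ cj g' D = V s :=
      eq_of_le_of_card_ge hB (by rw [B.toHy.card4 hk hV]; exact c4)
    have n1 : D ≤ N s := B.Ntwo s hk hV D (fun c hc => mem_centralizer_iff.mpr fun v hv =>
      hD.comm (hBV.ge hv).1 hc) hD.isP
    have n2 : cj g' D ≤ N s := B.Ntwo s hk hV _ (fun c hc => mem_centralizer_iff.mpr fun v hv =>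
      hD2.comm (hBV.ge hv).2 hc) hD2.isP
    exact h4 ((sc1 _ (B.Np s) n1 g' n2).symm ▸ h3)
  rcases Cfsg.Agent.S1169.result hS.toSylowTop D (fun e => hF.v1 (le_bot_iff.mp (e ▸ hVD))) hD'.1
    hsc with h | h
  · obtain ⟨v, hv, hne⟩ := u_moves B.toHy hP hF.v1
    exact absurd (congrArg Subtype.val (h.is_comm.comm
      ⟨e * e, hle (mem_sup_right (mem_zpowers _))⟩ ⟨v, hDS (hVD hv)⟩)) hne
  · exact h

section A1
variable {G : Type u} [Group G]

theorem conj3 {m s : G} (hm : m * m = 1) (hs : s ^ 3 = 1) (h : (m * s) ^ 3 = 1) :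
    s * m * s⁻¹ * s * (s * m * s⁻¹)⁻¹ = m * s := by
  have mi : m⁻¹ = m := inv_eq_of_mul_eq_one_right hm
  calc s * m * s⁻¹ * s * (s * m * s⁻¹)⁻¹ = m⁻¹ * (m * s * (m * s) * (m⁻¹ * s)) * (s ^ 3)⁻¹ * s := by
        group
    _ = m * (m * s) ^ 3 * (s ^ 3)⁻¹ * s := by rw [mi, pow_three, pow_three]; group
    _ = _ := by rw [h, hs]; group

theorem card_le_two_mul [Finite G] {A C : Subgroup G} {a : G}
    (h : ∀ b ∈ A, b ∈ C ∨ a * b ∈ C) : Nat.card A ≤ 2 * Nat.card C := by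
  classical
  let f : A → C ⊕ C := fun b => if hb : (b : G) ∈ C then Sum.inl ⟨b, hb⟩
    else Sum.inr ⟨a * b, (h b b.2).resolve_left hb⟩
  have hf : Function.Injective f := by
    intro b c e
    by_cases hb : (b : G) ∈ C <;> by_cases hc : (c : G) ∈ C <;> simp only [f, hb, hc, dif_pos,
      dif_neg, not_false_eq_true, Sum.inl.injEq, Sum.inr.injEq, reduceCtorEq, Subtype.mk.injEq,
      mul_right_inj] at e
    · exact Subtype.ext e
    · exact Subtype.ext e
  have := Nat.card_le_card_of_injective f hf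
  rw [Nat.card_sum] at this
  omega

theorem comm_cyc {W : Subgroup G} {e : G} (he : e ∈ nor W) :
    ⁅W ⊔ zpowers e, W ⊔ zpowers e⁆ ≤ W := by
  have h1 : W ≤ nor W := le_normalizer
  have h2 : zpowers e ≤ nor W := zpowers_le.mpr he
  refine commutator_sup_left_le h1 h2 (commutator_le_left' (sup_le h1 h2))
    (commutator_sup_right_le h1 h2 (commutator_le_right' h2) (commutator_le.mpr ?_))
  rintro _ ⟨i, rfl⟩ _ ⟨j, rfl⟩
  rw [commutatorElement_eq_one_iff_commute.mpr (Commute.zpow_zpow_self e i j)]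
  exact one_mem _

theorem Pu_mul {x y u p : G} (h : Pu x y u) (hp : p ∈ Pl x y) : Pu x y (p * u) := by
  refine ⟨h.ox, h.oy, h.xy, h.ny, ?_, ?_, ?_⟩
  · calc _ = p * (u * x * u⁻¹) * p⁻¹ := by group
      _ = _ := by rw [h.ux, h.conj_eq hp (inv_mem (left_mem_Pl _ _))]
  · calc _ = p * (u * y * u⁻¹) * p⁻¹ := by group
      _ = _ := by rw [h.uy, h.conj_eq hp (inv_mem (right_mem_Pl _ _))]
  · calc _ = p * (u * p * u⁻¹) * (u * u) := by group
      _ = _ := by rw [h.inverts hp, h.uu]; group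

/-- what is used about `W` and its conjugates -/
structure Gd (W : Subgroup G) : Prop where
  e2 : E2 W
  one : ∀ a ∈ nor W, ∀ b ∈ nor W, a ∉ W → b ∉ W → a * a = 1 → b * b = 1 →
    (∃ k : ℕ, (a * b) ^ 2 ^ k = 1) → a * b ∈ W
  free : ∀ a ∈ nor W, a ∉ W → a * a = 1 → ∀ c ∈ W, c * a = a * c → ∃ d ∈ W, d * a * d⁻¹ = c * a

theorem Gd.cj {W : Subgroup G} (h : Gd W) (g : G) : Gd (cj g W) := by
  have sq : ∀ a : G, a * a = 1 → g⁻¹ * a * g * (g⁻¹ * a * g) = 1 := fun a ha => by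
    calc _ = g⁻¹ * (a * a) * g := by group
      _ = 1 := by rw [ha]; group
  refine ⟨h.e2.cj g, fun a ha b hb aW bW aa bb ⟨k, hk⟩ => ?_, fun a ha aW aa c hc e => ?_⟩
  · have := h.one _ (nor_cj_of ha) _ (nor_cj_of hb) (fun e => aW (mem_cj.mpr e))
      (fun e => bW (mem_cj.mpr e)) (sq a aa) (sq b bb) ⟨k, by
        rw [show g⁻¹ * a * g * (g⁻¹ * b * g) = g⁻¹ * (a * b) * g⁻¹⁻¹ by group, conj_pow, hk]
        group⟩
    rw [mem_cj]
    convert this using 1
    group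
  · obtain ⟨d, hd, e'⟩ := h.free _ (nor_cj_of ha) (fun e => aW (mem_cj.mpr e)) (sq a aa) _
      (mem_cj.mp hc) (by
        calc _ = g⁻¹ * (c * a) * g := by group
          _ = _ := by rw [e]; group)
    refine ⟨g * d * g⁻¹, conj_mem_cj hd, ?_⟩
    calc _ = g * (d * (g⁻¹ * a * g) * d⁻¹) * g⁻¹ := by group
      _ = _ := by rw [e']; group

variable (B : Bs G) {x y u : G} (h : Edge x y u)
include B h

theorem e_cm : Cm (V x) (V y) :=
  (cm_of_le_cen ((h.n1 ▸ le_sup_right : V y ≤ N x).trans (B.Nc x))).symm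

theorem e_mem {w : G} : w ∈ N x ↔ ∃ a ∈ V x, ∃ b ∈ V y, w = a * b := by
  rw [h.n1]
  exact mem_sup_left_norm (le_normalizer_of_le_centralizer (e_cm B h).le_cen)

theorem e_e2 : E2 (N x) := fun w hw => by
  obtain ⟨a, ha, b, hb, rfl⟩ := (e_mem B h).mp hw
  calc a * b * (a * b) = a * (b * a) * b := by group
    _ = (a * a) * (b * b) := by rw [← e_cm B h a ha b hb]; group
    _ = 1 := by rw [B.toHy.sq h.ox ha, B.toHy.sq h.oy hb, one_mul]

theorem e_ne : V x ≠ V y := fun e => h.v1 (by rw [← B.toHy.inf_bot h.toPu, ← e, inf_idem])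

theorem e_P : Pl x y ≤ nor (N x) := h.toPu.le_nor_N (left_mem_Pl _ _)

theorem e_two {n q : G} (hn : n ∈ N x) (hq : q ∈ Pl x y) {k : ℕ} (hk : (n * q) ^ 2 ^ k ∈ N x) :
    n * q ∈ N x := by
  have key : ∀ m : ℕ, (n * q) ^ m * (q ^ m)⁻¹ ∈ N x := by
    intro m
    induction m with
    | zero => simp
    | succ m ih =>
      rw [show (n * q) ^ (m + 1) * (q ^ (m + 1))⁻¹ = n * (q * ((n * q) ^ m * (q ^ m)⁻¹) * q⁻¹) by
        rw [pow_succ', pow_succ]; group]
      exact mul_mem hn (conj_mem_of_mem_normalizer (e_P B h hq) ih)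
  have h1 : q ^ 2 ^ k ∈ N x := by
    have := mul_mem (inv_mem (key (2 ^ k))) hk
    simpa [mul_assoc] using this
  refine mul_mem hn (mem_of_pow_mem_of_coprime h1 ?_)
  exact Nat.Coprime.coprime_dvd_left (orderOf_dvd_of_pow_eq_one (h.toPu.pow3 hq))
    (Nat.Coprime.pow_right k (by norm_num))

theorem e_cardC [Finite G] {v : G} (hv : Pu x y v) :
    Nat.card (N x ⊓ cen1 v : Subgroup G) ≤ 4 := by
  classical
  obtain ⟨t1, -, -, -, h1⟩ := B.toHy.u_fix hv h.v1
  obtain ⟨t2, -, -, -, h2⟩ := B.toHy.u_fix hv.symm h.v2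
  have hsub : ((N x ⊓ cen1 v : Subgroup G) : Set G) ⊆ (({1, t1, t2, t1 * t2} : Finset G) : Set G) := by
    rintro w ⟨hw, hc⟩
    obtain ⟨a, ha, b, hb, rfl⟩ := (e_mem B h).mp hw
    have hc' : a * b * v = v * (a * b) := mem_cen1.mp hc
    have ha' := conj_mem_of_mem_normalizer (hv.u_nor_V (left_mem_Pl _ _)) ha
    have hb' := conj_mem_of_mem_normalizer (hv.u_nor_V (right_mem_Pl _ _)) hb
    have e : a⁻¹ * (v * a * v⁻¹) = b * (v * b * v⁻¹)⁻¹ := by
      calc _ = a⁻¹ * (v * (a * b)) * b⁻¹ * v⁻¹ := by group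
        _ = _ := by rw [← hc']; group
    have hm : a⁻¹ * (v * a * v⁻¹) ∈ V x ⊓ V y :=
      ⟨Subgroup.mul_mem _ (Subgroup.inv_mem _ ha) ha',
        e ▸ Subgroup.mul_mem _ hb (Subgroup.inv_mem _ hb')⟩
    rw [B.toHy.inf_bot hv, mem_bot] at hm
    have ea : v * a = a * v := by
      rw [inv_mul_eq_one] at hm
      exact mul_inv_eq_iff_eq_mul.mp hm.symm
    have eb : v * b = b * v := by
      rw [hm, eq_comm, mul_inv_eq_one] at e
      exact mul_inv_eq_iff_eq_mul.mp e.symm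
    rcases h1 a ha ea with rfl | rfl <;> rcases h2 b hb eb with rfl | rfl <;> simp
  have hle := Set.ncard_le_ncard hsub (Set.toFinite _)
  rw [Set.ncard_coe_finset, ← Nat.card_coe_set_eq] at hle
  exact hle.trans Finset.card_le_four

theorem e_noswap0 {a n : G} (ha : a ∈ nor (N x)) (aa : a * a ∈ N x) (h1 : cj a (V x) = V y)
    (h2 : cj a (V y) = V x) (hn : n ∈ N x) (e : a * x * a⁻¹ = n * y) : False := by
  have hP := h.toPu
  have sP : x * y ∈ Pl x y := mul_mem (left_mem_Pl _ _) (right_mem_Pl _ _)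
  have xP := left_mem_Pl x y
  set m := n * (y * (a * n⁻¹ * a⁻¹ * (a * a)) * y⁻¹) * (x * y * (a * a)⁻¹ * (x * y)⁻¹) with hm
  have mW : m ∈ N x := mul_mem (mul_mem hn (conj_mem_of_mem_normalizer
    (e_P B h (right_mem_Pl _ _)) (mul_mem (conj_mem_of_mem_normalizer ha (inv_mem hn)) aa)))
    (conj_mem_of_mem_normalizer (e_P B h sP) (inv_mem aa))
  have ey : y = n⁻¹ * (a * x * a⁻¹) := by rw [e]; group
  have es : a * (x * y) * a⁻¹ = m * (x * y) := by
    calc a * (x * y) * a⁻¹ = (a * x * a⁻¹) * (a * y * a⁻¹) := by group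
      _ = n * y * (a * (n⁻¹ * (a * x * a⁻¹)) * a⁻¹) := by rw [← ey, e]
      _ = n * (y * (a * n⁻¹ * a⁻¹ * (a * a)) * y⁻¹) * (y * x * (a * a)⁻¹) := by group
      _ = _ := by rw [← hP.xy, hm]; group
  have h3 := conj3 (e_e2 B h m mW) (hP.pow3 sP) (by rw [← es, conj_pow, hP.pow3 sP]; group)
  set w := x * y * m * (x * y)⁻¹ with hw
  have wW : w ∈ N x := conj_mem_of_mem_normalizer (e_P B h sP) mW
  have aV : w⁻¹ * a ∈ V (x * y) := by
    refine B.two _ hP.omul _ ?_ 2 ?_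
    · calc w⁻¹ * a * (x * y) = w⁻¹ * (a * (x * y) * a⁻¹) * a := by group
        _ = _ := by rw [es, ← h3]; group
    · have : w⁻¹ * a * (w⁻¹ * a) ∈ N x := by
        rw [show w⁻¹ * a * (w⁻¹ * a) = w⁻¹ * (a * w⁻¹ * a⁻¹) * (a * a) by group]
        exact mul_mem (mul_mem (inv_mem wW) (conj_mem_of_mem_normalizer ha (inv_mem wW))) aa
      rw [← e_e2 B h _ this]
      simp [pow_succ, mul_assoc]
  have w1 : cj w⁻¹ (V x) = V x :=
    cj_eq_self (le_normalizer_of_le_centralizer (B.Nc x) (inv_mem wW))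
  have w2 : cj w⁻¹ (V y) = V y := cj_eq_self (le_normalizer_of_le_centralizer (B.Nc y)
    (inv_mem (by rw [h.n2, ← h.n1]; exact wW)))
  have k1 : cj (w⁻¹ * a) (V x) = V y := by rw [← cj_cj, h1, w2]
  have k2 : cj (w⁻¹ * a) (V y) = V x := by rw [← cj_cj, h2, w1]
  have x1 : ∀ p ∈ Pl x y, cj p (V x) = V x := fun p hp => cj_eq_self (hP.le_nor_V xP hp)
  have x2 : ∀ p ∈ Pl x y, cj p (V y) = V y := fun p hp =>
    cj_eq_self (hP.le_nor_V (right_mem_Pl _ _) hp)
  have o := (B.toHy.orbit hP.p13.1.symm aV (fun e => e_ne B h (by rw [← k1, e, cj_one]))).2.2.2.1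
  have := congrArg (fun g => cj g (V x)) o
  simp only [← cj_cj (w⁻¹ * a), ← cj_cj (x * (w⁻¹ * a)), ← cj_cj x, ← cj_cj (x⁻¹ * (w⁻¹ * a)),
    ← cj_cj x⁻¹, x1 _ xP, x1 _ (inv_mem xP), x2 _ xP, x2 _ (inv_mem xP), k1, k2] at this
  exact e_ne B h this

theorem e_noswap {a : G} (ha : a ∈ nor (N x)) (aa : a * a ∈ N x) (h1 : cj a (V x) = V y)
    (h2 : cj a (V y) = V x) : False := by
  have hc : a * x * a⁻¹ ∈ cen (V y) := by
    rw [← h1, cen, ← cj_centralizer]
    exact conj_mem_cj (B.toHy.s_cen h.ox)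
  obtain ⟨n, hn, i, e⟩ := B.Ncen y h.oy h.v2 _ hc
  rw [h.n2, ← h.n1] at hn
  rcases pow_cases h.oy i with k | k | k <;> rw [k] at e
  · have := e_e2 B h n hn
    rw [mul_one] at e
    rw [← e, show a * x * a⁻¹ * (a * x * a⁻¹) = a * (x * x) * a⁻¹ by group, cube_of h.ox] at this
    exact ne_one_of h.ox (by simpa using this)
  · exact e_noswap0 B h ha aa h1 h2 hn e
  · refine e_noswap0 (y := y⁻¹) B ⟨h.toPu.invr, h.v1, ?_, ?_, ?_⟩ ha aa ?_ ?_ hn e
    all_goals simp only [V_inv, N_inv]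
    exacts [h.v2, h.n1, h.n2, h1, h2]

variable (hM : ∀ g ∈ nor (N x), cj g (V x) = V x ∨ cj g (V x) = V y)
include hM

theorem e_swap {g : G} (hg : g ∈ nor (N x)) (e : cj g (V x) = V y) : cj g (V y) = V x := by
  rcases hM g⁻¹ (inv_mem hg) with k | k
  · exact absurd (by rw [← e, ← k, cj_cj_inv, k]) (e_ne B h)
  · rw [← k, cj_cj_inv]

theorem e_form {a : G} (ha : a ∈ nor (N x)) (aW : a ∉ N x) (aa : a * a ∈ N x) :
    ∃ n ∈ N x, ∃ p ∈ Pl x y, a = n * (p * u) := by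
  rcases hM a ha with k | k
  · obtain ⟨n, hn, p, hp, e | e⟩ := B.Nnor x y u h.toPu h.v1 a (cj_eq_self_iff.mp k)
    · exact absurd (e ▸ e_two B h hn hp (k := 1) (by rw [← e]; simpa [pow_two] using aa)) aW
    · exact ⟨n, hn, p, hp, by rw [e, mul_assoc]⟩
  · exact (e_noswap B h ha aa k (e_swap B h hM ha k)).elim

theorem e_card [Finite G] {a : G} (ha : a ∈ nor (N x)) (aW : a ∉ N x) (aa : a * a ∈ N x) :
    Nat.card (N x ⊓ cen1 a : Subgroup G) ≤ 4 := by
  obtain ⟨n, hn, p, hp, rfl⟩ := e_form B h hM ha aW aa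
  refine le_trans (card_le_of_le fun c hc => ?_) (e_cardC B h (Pu_mul h.toPu hp))
  refine ⟨hc.1, mem_cen1.mpr ?_⟩
  have := mem_cen1.mp hc.2
  rw [← mul_assoc, (e_e2 B h).comm hc.1 hn, mul_assoc, mul_assoc n] at this
  exact mul_left_cancel this

theorem e_gd [Finite G] : Gd (N x) := by
  refine ⟨e_e2 B h, fun a ha b hb aW bW aa bb ⟨k, hk⟩ => ?_, fun a ha aW aa => ?_⟩
  · obtain ⟨n, hn, p, hp, rfl⟩ := e_form B h hM ha aW (aa ▸ one_mem _)
    obtain ⟨m, hm, q, hq, rfl⟩ := e_form B h hM hb bW (bb ▸ one_mem _)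
    have e : n * (p * u) * (m * (q * u)) = n * (p * u * m * (p * u)⁻¹) * (p * q⁻¹) := by
      calc _ = n * (p * u * m * (p * u)⁻¹) * (p * (u * q * u⁻¹)) * (u * u) := by group
        _ = _ := by rw [h.toPu.inverts hq, h.uu, mul_one]
    rw [e] at hk ⊢
    exact e_two B h (mul_mem hn (conj_mem_of_mem_normalizer
      ((Pu_mul h.toPu hp).u_nor_N (left_mem_Pl _ _)) hm)) (mul_mem hp (inv_mem hq))
      (hk ▸ one_mem _)
  · refine free_of_card (e_e2 B h) ha aa ?_
    have := e_card B h hM ha aW (aa ▸ one_mem _)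
    rw [show Nat.card (N x) = 16 by
      rw [h.n1]; exact B.toHy.card16 h.toPu h.v1 h.v2 (e_cm B h)]
    exact (Nat.pow_le_pow_left this 2).trans (by norm_num)

theorem e_wc [Finite G] (g : G) (hg : cj g (N x) ≤ nor (N x)) : cj g (N x) = N x := by
  by_cases hle : cj g (N x) ≤ N x
  · exact eq_of_le_of_card_ge hle (card_cj g _).ge
  exfalso
  obtain ⟨a, ha, aW⟩ := SetLike.not_le_iff_exists.mp hle
  have hA := (e_e2 B h).cj g
  have h1 := card_le_two_mul (A := cj g (N x)) (C := N x ⊓ cen1 a) (a := a) fun b hb => by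
    by_cases bW : b ∈ N x
    · exact Or.inl ⟨bW, mem_cen1.mpr (hA.comm hb ha)⟩
    · exact Or.inr ⟨(e_gd B h hM).one a (hg ha) b (hg hb) aW bW (hA a ha) (hA b hb)
        ⟨1, by simpa [pow_two] using hA _ (mul_mem ha hb)⟩,
        mem_cen1.mpr (hA.comm (mul_mem ha hb) ha)⟩
  have h2 := e_card B h hM (hg ha) aW (hA a ha ▸ one_mem _)
  rw [card_cj, show Nat.card (N x) = 16 by
    rw [h.n1]; exact B.toHy.card16 h.toPu h.v1 h.v2 (e_cm B h)] at h1
  omega

theorem e_comm {S : Subgroup G} (hS : IsPGroup 2 S) (hn : S ≤ nor (N x)) (hW : N x ≤ S)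
    (hu : u ∈ S) : ⁅S, S⁆ ≤ N x := by
  have two : ∀ n ∈ N x, ∀ p ∈ Pl x y, n * p ∈ S → n * p ∈ N x := fun n hn p hp hs => by
    obtain ⟨k, hk⟩ := isPGroup_iff_forall.mp hS _ hs
    exact e_two B h hn hp (hk ▸ one_mem _)
  have key : ∀ g ∈ S, cj g (V x) = V x → g ∈ N x ∨ g * u⁻¹ ∈ N x := fun g hg k => by
    obtain ⟨n, hn, p, hp, e | e⟩ := B.Nnor x y u h.toPu h.v1 g (cj_eq_self_iff.mp k)
    · exact Or.inl (e ▸ two n hn p hp (e ▸ hg))
    · have e' : g * u⁻¹ = n * p := by rw [e]; group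
      exact Or.inr (e' ▸ two n hn p hp (e' ▸ mul_mem hg (inv_mem hu)))
  have key2 : ∀ e : G, u ∈ N x ⊔ zpowers e → ∀ g ∈ S, cj g (V x) = V x → g ∈ N x ⊔ zpowers e :=
    fun e he g hg k => (key g hg k).elim mem_sup_left fun k' => by
      simpa using mul_mem (mem_sup_left k' : g * u⁻¹ ∈ N x ⊔ zpowers e) he
  obtain ⟨e, he, hle⟩ : ∃ e ∈ S, S ≤ N x ⊔ zpowers e := by
    by_cases hall : ∀ g ∈ S, cj g (V x) = V x
    · exact ⟨u, hu, fun g hg => key2 u (mem_sup_right (mem_zpowers _)) g hg (hall g hg)⟩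
    push Not at hall
    obtain ⟨e, he, k⟩ := hall
    have k1 := (hM e (hn he)).resolve_left k
    have k2 := e_swap B h hM (hn he) k1
    have me : e ∈ N x ⊔ zpowers e := mem_sup_right (mem_zpowers _)
    have ue : u ∈ N x ⊔ zpowers e := by
      rcases key (e * e) (mul_mem he he) (by rw [← cj_cj, k1, k2]) with k' | k'
      · exact (e_noswap B h (hn he) k' k1 k2).elim
      · simpa [mul_assoc] using mul_mem (inv_mem (mem_sup_left k' : e * e * u⁻¹ ∈ N x ⊔ zpowers e))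
          (mul_mem me me)
    refine ⟨e, he, fun g hg => (hM g (hn hg)).elim (key2 e ue g hg) fun k' => ?_⟩
    simpa using mul_mem (inv_mem me) (key2 e ue (e * g) (mul_mem he hg) (by rw [← cj_cj, k', k2]))
  exact (commutator_mono hle hle).trans (comm_cyc (hn he))

end A1

theorem jobA1 (hSC : JobSC.{u}) : JobA1.{u} := by
  intro G _ _ B x y u h
  by_contra hcon
  have hM : ∀ g ∈ nor (N x), cj g (V x) = V x ∨ cj g (V x) = V y := fun g hg => by
    by_contra k
    push Not at k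
    exact hcon ⟨g, hg, k⟩
  have hP := h.toPu
  have gd := e_gd B h hM
  obtain ⟨sc1, sc2⟩ := hSC G (N x) (e2_iff.mpr gd.e2) (e_wc B h hM)
  set W := N x with hW
  have un : u ∈ nor W := hP.u_nor_N (left_mem_Pl _ _)
  have uW : u ∉ W := fun k => by
    obtain ⟨v, hv, hne⟩ := u_moves B.toHy hP h.v1
    exact hne (gd.e2.comm k (B.VN x h.ox hv))
  have nr : ∀ R : Subgroup G, IsPGroup 2 R → W ≤ R → R ≤ nor W := fun R hR hle r hr =>
    cj_eq_self_iff.mp (sc1 R hR hle r (cj_le_of_le_of_mem hle hr))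
  have hWu := isP_sup_inv gd.e2.isP un h.uu
  have mu : u ∈ W ⊔ zpowers u := mem_sup_right (mem_zpowers _)
  have one : ∀ R : Subgroup G, IsPGroup 2 R → W ⊔ zpowers u ≤ R → ∀ a ∈ R, a * a = 1 →
      a ∈ W ∨ a * u ∈ W := fun R hR hle a ha aa => by
    by_cases aW : a ∈ W
    · exact Or.inl aW
    · exact Or.inr (gd.one a (nr R hR (le_sup_left.trans hle) ha) u un aW uW aa h.uu
        (isPGroup_iff_forall.mp hR _ (mul_mem ha (hle mu))))
  obtain ⟨S, hS, hle⟩ := exists_isSyl_le hWu le_top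
  have hWS : W ≤ S := le_sup_left.trans hle
  have hf : ∃ g, u ∈ cj g W := by
    by_contra hno
    refine H12.not_mem_res_of_extremal hS (e_comm B h hM hS.isPGroup (nr S hS.isPGroup hWS) hWS
      (hle mu)) h.uu (hle mu) uW (mem_zpowers u)
      (isPGroup_zpowers (k := 1) (by simpa [pow_two] using h.uu)) ?_ (fun a ha => ?_)
      (by rw [B.res]; exact mem_top _)
    · rintro _ ⟨i, rfl⟩
      exact (Commute.refl u).zpow_left i
    · refine (one S hS.isPGroup hle _ (ha (conj_mem_cj (mem_zpowers u))) ?_).resolve_left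
        fun k => hno ⟨a⁻¹, mem_cj.mpr (by rwa [inv_inv])⟩
      calc _ = a * (u * u) * a⁻¹ := by group
        _ = 1 := by rw [h.uu]; group
  obtain ⟨g, b, -, -, -, h2, h3, h4, h5, -⟩ := sc2 gd.free u un uW hf
  have gd' := gd.cj g
  set C := W ⊓ cen1 u with hC
  have hCe : E2 C := gd.e2.mono inf_le_left
  have bC : b ∈ C := ⟨h3, mem_cen1.mpr h5⟩
  have one' : ∀ a ∈ C, ∀ c ∈ C, a ∉ cj g W → c ∉ cj g W → a * c ∈ cj g W :=
    fun a ha c hc aW cW => gd'.one a (h2 ha) c (h2 hc) aW cW (hCe a ha) (hCe c hc)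
      ⟨1, by simpa [pow_two] using hCe _ (mul_mem ha hc)⟩
  obtain ⟨z, zC, zW, z1⟩ : ∃ z ∈ C, z ∈ cj g W ∧ z ≠ 1 := by
    obtain ⟨t1, m1, n1, c1, -⟩ := B.toHy.u_fix hP h.v1
    obtain ⟨t2, m2, n2, c2, -⟩ := B.toHy.u_fix hP.symm h.v2
    have k1 : t1 ∈ C := ⟨B.VN x h.ox m1, mem_cen1.mpr c1.symm⟩
    have k2 : t2 ∈ C := ⟨(h.n1 ▸ le_sup_right : V y ≤ N x) m2, mem_cen1.mpr c2.symm⟩
    by_cases j1 : t1 ∈ cj g W
    · exact ⟨t1, k1, j1, n1⟩
    by_cases j2 : t2 ∈ cj g W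
    · exact ⟨t2, k2, j2, n2⟩
    refine ⟨t1 * t2, mul_mem k1 k2, one' t1 k1 t2 k2 j1 j2, fun e => n1 ?_⟩
    have : t1 ∈ V x ⊓ V y := ⟨m1, by rw [eq_inv_of_mul_eq_one_left e]; exact Subgroup.inv_mem _ m2⟩
    rwa [B.toHy.inf_bot hP, mem_bot] at this
  obtain ⟨w, hw, ew⟩ := gd'.free b (h2 bC) h4 (hCe b bC) z zW (hCe.comm zC bC)
  have wn : w ∈ nor C := by
    refine mem_normalizer_of_cj_le fun c' hc' => ?_
    obtain ⟨c, hc, rfl⟩ := mem_map.mp hc'
    show w * c * w⁻¹ ∈ C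
    by_cases cW : c ∈ cj g W
    · rwa [gd'.e2.comm hw cW, mul_inv_cancel_right]
    · have k := one' b bC c hc h4 cW
      have : w * c * w⁻¹ = z * c := by
        calc w * c * w⁻¹ = w * (b * b) * c * w⁻¹ := by rw [hCe b bC, mul_one]
          _ = (w * b * w⁻¹) * (w * (b * c)) * w⁻¹ := by group
          _ = z * (b * b) * c := by rw [ew, gd'.e2.comm hw k]; group
          _ = _ := by rw [hCe b bC, mul_one]
      rw [this]
      exact mul_mem zC hc
  have cW : W ≤ cen C := fun a ha => mem_centralizer_iff.mpr fun c hc => gd.e2.comm hc.1 ha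
  have cu : u ∈ cen C := mem_centralizer_iff.mpr fun c hc => mem_cen1.mp hc.2
  obtain ⟨R, hR, hle'⟩ := exists_isSyl_le hWu
    (le_normalizer_of_le_centralizer (sup_le cW (zpowers_le.mpr cu)))
  obtain ⟨k, hk, hkR⟩ := hR.exists_cj_le
    (isPGroup_zpowers (x := w) (k := 1) (by simpa [pow_two] using gd'.e2 w hw)) (zpowers_le.mpr wn)
  have wc : k * w * k⁻¹ ∈ cen C := by
    rcases one R hR.isPGroup hle' _ (hkR (conj_mem_cj (mem_zpowers w))) (by
      calc _ = k * (w * w) * k⁻¹ := by group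
        _ = 1 := by rw [gd'.e2 w hw]; group) with j | j
    · exact cW j
    · simpa using mul_mem (cW j) (inv_mem cu)
  have := mem_centralizer_iff.mp wc _ (conj_mem_of_mem_normalizer hk bC)
  have e : b * w = w * b := by
    calc b * w = k⁻¹ * (k * b * k⁻¹ * (k * w * k⁻¹)) * k := by group
      _ = _ := by rw [this]; group
  rw [← e, mul_inv_cancel_right] at ew
  exact z1 (by simpa using ew.symm)

end H91.T3
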