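import Cfsg.Agent.H41.LDKit2
import Cfsg.Agent.H19.L3Norm
import Cfsg.Agent.H19.L3A7
import Cfsg.Agent.H80.AS6

/-! Tower LD5, slot B3W: reflection groups of rank three of type `3·A₆`, `3·A₇`. -/

set_option autoImplicit false
set_option maxRecDepth 100000

namespace H91.B3W

open Matrix Cfsg Cfsg.Geo H19 Equiv Equiv.Perm
open scoped MatrixGroups commutatorElement

universe u

attribute [local instance 10000] List.decidableBAll List.decidableBEx

/-! ### finite groups -/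

theorem q8_rel {Γ : Type*} [Group Γ] {a b : Γ} (h1 : b ^ 2 = a ^ 2) (h2 : (a * b) ^ 2 = a ^ 2) :
    b * a * b⁻¹ = a⁻¹ ∧ a ^ 4 = 1 := by
  have r1 : b * a * b = a := mul_left_cancel (a := a) (by simpa [sq, mul_assoc] using h2)
  have r2 : b * a * b⁻¹ = a⁻¹ :=
    calc b * a * b⁻¹ = b * a * b * (b ^ 2)⁻¹ := by rw [sq]; group
      _ = a⁻¹ := by rw [r1, h1]; group
  refine ⟨r2, ?_⟩
  have r3 : b * a ^ 2 * b⁻¹ = (a ^ 2)⁻¹ := by rw [← conj_pow, r2, inv_pow]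
  rw [← h1, show b * b ^ 2 * b⁻¹ = b ^ 2 by group, h1, eq_inv_iff_mul_eq_one] at r3
  rw [← r3]; group

theorem noQ8_perm {α : Type*} [Fintype α] [DecidableEq α] (hc : Fintype.card α < 8) (a b : Perm α)
    (h1 : b ^ 2 = a ^ 2) (h2 : (a * b) ^ 2 = a ^ 2) : a ^ 2 = 1 := by
  by_contra hz
  obtain ⟨p, hp⟩ : ∃ p, (a ^ 2) p ≠ p := not_forall.1 fun e => hz (Equiv.ext e)
  obtain ⟨r2, r4⟩ := q8_rel h1 h2
  have key : ∀ m : ℤ, (a ^ m * b) ^ 2 = a ^ 2 := fun m => by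
    have : b * a ^ m * b⁻¹ = (a ^ m)⁻¹ := by rw [← conj_zpow, r2, _root_.inv_zpow]
    calc (a ^ m * b) ^ 2 = a ^ m * (b * a ^ m * b⁻¹) * b ^ 2 := by rw [sq, sq]; group
      _ = a ^ 2 := by rw [this, h1]; group
  have hk : ∀ q, (a ^ 2) q ≠ q → ∀ k : ℤ, (a ^ k) q = q → 4 ∣ k := fun q hq k h => by
    by_contra h4
    have e : ∀ m n : ℤ, 2 = k * m + 4 * n → False := fun m n e => hq (by
      have : a ^ 2 = (a ^ k) ^ m := by
        rw [← zpow_natCast a 2, Nat.cast_ofNat, e, _root_.zpow_add, _root_.zpow_mul, _root_.zpow_mul,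
          show a ^ (4 : ℤ) = 1 from r4, _root_.one_zpow, mul_one]
      rw [this]
      exact zpow_apply_eq_self_of_apply_eq_self h m)
    rcases (by omega : k % 4 = 2 ∨ k % 2 = 1) with h5 | h5
    · exact e 1 ((2 - k) / 4) (by omega)
    · exact e 2 ((2 - 2 * k) / 4) (by omega)
  have sub : ∀ (i j : ℤ) (q q' : α), (a ^ i) q = (a ^ j) q' → (a ^ (i - j)) q = q' := fun i j q q' h => by
    rw [sub_eq_neg_add, _root_.zpow_add, Perm.mul_apply, h, ← Perm.mul_apply, ← _root_.zpow_add]; simp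
  have inj : ∀ q, (a ^ 2) q ≠ q → Function.Injective fun i : Fin 4 => (a ^ (i.1 : ℤ)) q :=
    fun q hq i j h => by
      have := hk q hq _ (sub _ _ _ _ h)
      omega
  have hb : (a ^ 2) (b p) ≠ b p := fun e => hp (b.injective (by
    rw [← e, ← h1, ← Perm.mul_apply, ← Perm.mul_apply, ← pow_succ, ← pow_succ']))
  have := Fintype.card_le_of_injective _ ((inj p hp).sumElim (inj _ hb) fun i j h => hp (by
    have h3 : (a ^ ((j.1 : ℤ) - i.1) * b) p = p := sub _ _ _ _ h.symm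
    rw [← key (j.1 - i.1), sq, Perm.mul_apply, h3, h3]))
  simp at this
  omega

/-- The facts on `A₆` and `A₇` that are used. -/
structure Ok (Γ : Type*) [Group Γ] (x y : Γ) : Prop where
  q8 : ∀ a b : Γ, b ^ 2 = a ^ 2 → (a * b) ^ 2 = a ^ 2 → a ^ 2 = 1
  real : ∀ g : Γ, g ^ 3 = 1 → IsConj g g⁻¹
  five : ∃ c : Γ, c ^ 5 = 1 ∧ c ≠ 1
  rel : x ^ 3 = 1 ∧ y ^ 3 = 1 ∧ x * y = y * x ∧ x ≠ 1 ∧ y ≠ 1 ∧ x * y ≠ 1 ∧ x ^ 2 * y ≠ 1

theorem q8_alt {n : ℕ} (hn : n < 8) (a b : alternatingGroup (Fin n)) (h1 : b ^ 2 = a ^ 2)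
    (h2 : (a * b) ^ 2 = a ^ 2) : a ^ 2 = 1 :=
  Subtype.ext (noQ8_perm (by simpa using hn) a.1 b.1 (congrArg Subtype.val h1) (congrArg Subtype.val h2))

def x6 : alternatingGroup (Fin 6) := ⟨c[0, 1, 2], mem_alternatingGroup.2 (by decide +kernel)⟩
def y6 : alternatingGroup (Fin 6) := ⟨c[3, 4, 5], mem_alternatingGroup.2 (by decide +kernel)⟩
def x7 : alternatingGroup (Fin 7) := ⟨c[0, 1, 2], mem_alternatingGroup.2 (by decide +kernel)⟩
def y7 : alternatingGroup (Fin 7) := ⟨c[3, 4, 5], mem_alternatingGroup.2 (by decide +kernel)⟩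

theorem ok6 : Ok _ x6 y6 :=
  ⟨q8_alt (by norm_num), fun g _ => real_alt6 g, ⟨_, ab6_rel.2.2.2.2.1, ab6_rel.2.2.2.2.2.1⟩,
    by decide +kernel⟩

theorem ok7 : Ok _ x7 y7 := by
  refine ⟨q8_alt (by norm_num), fun g hg => (sm_alt7 g).elim (fun h => h.1) fun h => ?_,
    ⟨⟨c[0, 1, 2, 3, 4], mem_alternatingGroup.2 (by decide +kernel)⟩, by decide +kernel⟩,
    by decide +kernel⟩
  obtain rfl : g = 1 := by simpa using pow_gcd_eq_one.2 ⟨hg, h.2.1⟩
  simp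

section six
open H80.AS6
open H88.AS (cA cA_coe)

attribute [local irreducible] W sP tP L5 L2

theorem ord5 : ∀ j ∈ L5, W sP j ^ 5 = 1 ∧ W sP j ≠ 1 := by decide +kernel

theorem bad_five {σ : MulAut A6} (h : ¬ Good σ) (h2 : σ * σ = 1) :
    ∃ a : A6, σ a = a ∧ a ^ 5 = 1 ∧ a ≠ 1 := by
  obtain ⟨ψ, φ, e, ψ2, hW, hb⟩ := exψ
  obtain ⟨π, hπ⟩ := bad_mul h hb
  obtain rfl : σ = cA π * ψ := by rw [hπ, mul_assoc, ψ2, mul_one]
  have cψ : ψ * cA π = cA (φ π) * ψ := MulEquiv.ext fun a => Subtype.ext (by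
    simp only [MulAut.mul_apply, cA_coe, e, map_mul, map_inv])
  have h3 : π * φ π = 1 := H86.conjNormal_injective h4 (show cA _ = cA _ by
    rw [map_mul, map_one, ← h2, mul_assoc, ← mul_assoc ψ, cψ, mul_assoc, ψ2, mul_one])
  obtain ⟨a, b, c, d, e', l1, l2, l3, l4, rfl⟩ := dec π
  rw [hW] at h3
  obtain ⟨⟨j, hj, e1⟩, -⟩ := fA a b l1 c l2 d l3 e' l4 (DFunLike.congr_fun h3)
  refine ⟨⟨_, (f5 j hj).1⟩, Subtype.ext ?_, Subtype.ext (ord5 j hj).1,
    fun e => (ord5 j hj).2 (congrArg Subtype.val e)⟩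
  simp only [MulAut.mul_apply, cA_coe, e, hW]
  exact mul_inv_eq_iff_eq_mul.2 (Equiv.ext e1)

theorem five_cl {a : A6} (h5 : a ^ 5 = 1) (h1 : a ≠ 1) :
    IsConj a (a6 * b6) ∨ IsConj a ((a6 * b6) ^ 2) := by
  obtain ⟨r, hr, s, hs⟩ := exists_rep reps6 Prod.fst reps6_all a
  have e : ∀ k, r.1 ^ k = 1 ↔ a ^ k = 1 := fun k => by
    rw [Subtype.ext_iff, Subgroup.coe_pow, hs, conj_pow]
    simp
  have h6 : ∀ r ∈ reps6, r.1 ^ 5 = 1 → r.1 ^ 1 ≠ 1 → r.1 = c[0, 1, 2, 3, 4] := by decide +kernel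
  rw [h6 r hr ((e 5).2 h5) (mt (e 1).1 (by simpa using h1))] at hs
  have k : ∀ (u : P6) (c : A6), sign u = sign s → u * c[0, 1, 2, 3, 4] = c.1 * u → IsConj a c :=
    fun u c hu h => isConj_alt (t := u * s⁻¹) (by rw [Perm.sign_mul, sign_inv, hu, Int.units_mul_self])
      (by rw [hs, ← mul_assoc (c : P6), ← h]; group)
  rcases Int.units_eq_one_or (sign s) with h | h
  · exact Or.inl (k c[1, 2, 4, 3, 5] _ (by rw [h]; decide +kernel) (by decide +kernel))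
  · exact Or.inr (k (c[1, 4, 5] * c[2, 3]) _ (by rw [h]; decide +kernel) (by decide +kernel))

theorem not_fuse {σ : MulAut A6} (h : ¬ Good σ) (h2 : σ * σ = 1) :
    ¬ IsConj (σ (a6 * b6)) ((a6 * b6) ^ 2) := fun h1 => by
  obtain ⟨a, e, h5, h0⟩ := bad_five h h2
  rcases five_cl h5 h0 with c | c
  · have : IsConj (σ a) (σ (a6 * b6)) := σ.toMonoidHom.map_isConj c
    rw [e] at this
    exact not_isConj_ab6 (c.symm.trans (this.trans h1))
  · have h3 : IsConj (σ a) (σ (a6 * b6) ^ 2) := map_pow σ _ 2 ▸ σ.toMonoidHom.map_isConj c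
    have h6 : ((a6 * b6) ^ 2) ^ 2 = (a6 * b6)⁻¹ :=
      eq_inv_of_mul_eq_one_left (by rw [← pow_mul, ← pow_succ]; exact ab6_rel.2.2.2.2.1)
    have h7 := h1.pow 2
    rw [h6] at h7
    rw [e] at h3
    exact not_isConj_ab6 ((real_alt6 _).trans ((h3.trans h7).symm.trans c))

end six

/-! ### the covering group -/

variable {F : Type*} [Field F] {Γ : Type*} [Group Γ] {P : Subgroup (GL (Fin 3) F)} {π : P →* Γ}
  {x y : Γ}

theorem adj_zero {M : Matrix (Fin 3) (Fin 3) F} (h2 : (2 : F) ≠ 0) (h : M * M = (3 : F) • M)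
    (ht : M.trace = 3) : M.adjugate = 0 := by
  have e : M.adjugate + M.adjugate = (M * M - M.trace • M) + (M * M - M.trace • M) +
      (M.trace ^ 2 - (M * M).trace) • (1 : Matrix (Fin 3) (Fin 3) F) := by
    ext i j
    fin_cases i <;> fin_cases j <;>
      simp [Matrix.mul_apply, Fin.sum_univ_three, adjugate_fin_three, trace_fin_three] <;> ring
  rw [h, trace_smul, ht, sub_self, add_zero, zero_add, smul_eq_mul, sq, sub_self, zero_smul,
    ← two_smul F] at e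
  exact (smul_eq_zero.1 e).resolve_left h2

theorem not_comm (h : Cov3 P π) (k : Ok Γ x y) (h2 : (2 : F) ≠ 0) (h3 : (3 : F) ≠ 0) {a b : P}
    (ha : π a = x) (hb : π b = y) : ⁅a, b⁆ ≠ 1 := fun hab => by
  obtain ⟨r1, r2, r3, r4, r5, r6, r7⟩ := k.rel
  have tr : ∀ g : P, π g ^ 3 = 1 → π g ≠ 1 → g ^ 3 = 1 ∧ trc (g : GL (Fin 3) F) = 0 := fun g e e' =>
    have := h.pow_eq_one_of_real (k.real _ e) dvd_rfl e
    ⟨this, trc_of_cube (h.le g.2) (congrArg Subtype.val this) (mt (h.ker g).2 e')⟩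
  have c : Commute x y := r3
  have t1 := tr a (ha ▸ r1) (ha ▸ r4)
  have t2 := (tr (a ^ 2) (by rw [map_pow, ha, ← pow_mul, mul_comm, pow_mul, r1, one_pow]) (by
    rw [map_pow, ha]; exact fun e => r4 (by simpa using pow_gcd_eq_one.2 ⟨r1, e⟩))).2
  have t3 := (tr b (hb ▸ r2) (hb ▸ r5)).2
  have t4 := (tr (a * b) (by rw [map_mul, ha, hb, c.mul_pow, r1, r2, one_mul])
    (by rwa [map_mul, ha, hb])).2
  have t5 := (tr (a ^ 2 * b) (by
    rw [map_mul, map_pow, ha, hb, (c.pow_left 2).mul_pow, ← pow_mul, mul_comm 2, pow_mul, r1, r2]; simp)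
    (by rwa [map_mul, map_pow, ha, hb])).2
  have e1 : (a.1.val : Matrix (Fin 3) (Fin 3) F) ^ 3 = 1 := congrArg (fun g : P => g.1.val) t1.1
  have e2 : (a.1.val : Matrix (Fin 3) (Fin 3) F) * b.1.val = b.1.val * a.1.val :=
    congrArg (fun g : P => g.1.val) (commutatorElement_eq_one_iff_mul_comm.1 hab)
  simp only [trc, Subgroup.coe_mul, Subgroup.coe_pow, Units.val_mul, Units.val_pow_eq_pow_val] at t1 t2 t3 t4 t5
  have e3 : b.1.val * (b.1⁻¹).val = 1 := Units.mul_inv _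
  generalize a.1.val = A at t1 t2 t4 t5 e1 e2
  generalize b.1.val = B at t3 t4 t5 e2 e3
  have f1 : (1 + A + A ^ 2) * (1 + A + A ^ 2) = (3 : F) • (1 + A + A ^ 2) := by
    have : (1 + A + A ^ 2) * (1 + A + A ^ 2) =
      1 + A + A + A ^ 2 + A ^ 2 + A ^ 2 + A ^ 3 + A ^ 3 + A ^ 3 * A := by noncomm_ring
    rw [this, e1, one_mul]; module
  have f2 : (1 + A + A ^ 2).trace = 3 := by simp [t1.2, t2]
  have f3 := sandwich (adj_zero h2 f1 f2) B
  have f4 : Commute B (1 + A + A ^ 2) :=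
    ((Commute.one_right B).add_right e2.symm).add_right (Commute.pow_right e2.symm 2)
  have f6 : ((1 + A + A ^ 2) * B).trace = 0 := by simp [add_mul, t3, t4, t5]
  rw [f6, mul_assoc, f4.eq, ← mul_assoc, f1] at f3
  have f5 := congrArg (fun M => (M * (b.1⁻¹).val).trace) f3
  simp only [Matrix.smul_mul, mul_assoc, e3, mul_one, trace_smul, f2] at f5
  simp [h3] at f5

theorem com_congr (h : Cov3 P π) {a a' b b' : P} (ha : π a = π a') (hb : π b = π b') :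
    ⁅a, b⁆ = ⁅a', b'⁆ := by
  have := commutatorElement_mul_scalars (x := a.1) (y := b.1) (h.eq_iff.1 ha) (h.eq_iff.1 hb)
  rw [mul_inv_cancel_left, mul_inv_cancel_left] at this
  exact Subtype.ext this.symm

theorem not_odd {π : P →* alternatingGroup (Fin 6)} (h : Cov3 P π) (h2 : (2 : F) ≠ 0)
    (h3 : (3 : F) ≠ 0) {t : GL (Fin 3) F} {σ : Perm (Fin 6)} (hσ : sign σ = -1) :
    ¬ Ind π t (H88.AS.cA σ) := fun ht => by
  obtain ⟨a, ha⟩ := h.surj x6
  obtain ⟨b, hb⟩ := h.surj y6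
  obtain ⟨e, he⟩ := h.surj ⟨σ * swap 0 1, mem_alternatingGroup.2 (by simp [hσ])⟩
  obtain ⟨a', a1, a2⟩ := ht a
  obtain ⟨b', b1, b2⟩ := ht b
  have hz : π ⁅a, b⁆ = 1 := by
    rw [map_commutatorElement, ha, hb, commutatorElement_eq_one_iff_mul_comm, ok6.rel.2.2.1]
  have k : ∀ u v : alternatingGroup (Fin 6), Equiv.swap 0 1 * v.1 * Equiv.swap 0 1 = u.1 →
      H88.AS.cA σ u = π e * v * (π e)⁻¹ := fun u v huv => Subtype.ext (by
    rw [he, H88.AS.cA_coe, ← huv]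
    simp [mul_assoc])
  have e1 : ⁅a', b'⁆ = ⁅e * a⁻¹ * e⁻¹, e * b * e⁻¹⁆ := com_congr h
    (by rw [← a2, ha, k x6 x6⁻¹ (by decide +kernel)]; simp [ha])
    (by rw [← b2, hb, k y6 y6 (by decide +kernel)]; simp [hb])
  have e2 : ⁅a', b'⁆ = ⁅a, b⁆ := Subtype.ext (by
    rw [← conj_scalar ((h.ker _).1 hz) t]
    simp only [commutatorElement_def, Subgroup.coe_mul, Subgroup.coe_inv, a1, b1]; group)
  have e3 : ⁅e * a⁻¹ * e⁻¹, e * b * e⁻¹⁆ = e * a⁻¹ * ⁅a, b⁆⁻¹ * (e * a⁻¹)⁻¹ := by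
    simp only [commutatorElement_def]; group
  rw [e2, e3, ← (h.comm hz (e * a⁻¹)).inv_left.eq, mul_inv_cancel_right, eq_inv_iff_mul_eq_one] at e1
  exact not_comm h ok6 h2 h3 ha hb (h.eq_one hz (N := 2) (by decide) (by rw [sq, e1]))

theorem invol_mem [Finite F] (hq : H61.L3.QS P) {π : P →* alternatingGroup (Fin 6)} (h : Cov3 P π)
    (h2 : (2 : F) ≠ 0) (h3 : (3 : F) ≠ 0) {t : GL (Fin 3) F} (ht : ∀ g ∈ P, t * g * t⁻¹ ∈ P)
    (tt : t * t = 1) : t ∈ P ⊔ scalars (Fin 3) F := by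
  obtain ⟨θ, hθ⟩ := h.exists_ind ht
  by_cases hg : H80.AS6.Good θ
  · obtain ⟨σ, rfl⟩ := hg
    rcases Int.units_eq_one_or (sign σ) with e | e
    · exact h.mem_of_inner hq.perfect (span_of_qs hq) hθ ⟨⟨σ, e⟩, fun _ => rfl⟩
    · exact absurd hθ (not_odd h h2 h3 e)
  · refine (h.alt6_cases hq.perfect (span_of_qs hq) h3 hθ).resolve_right (not_fuse hg ?_)
    refine MulEquiv.ext fun g => ?_
    obtain ⟨g, rfl⟩ := h.surj g
    obtain ⟨g', e1, e2⟩ := hθ.mul hθ g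
    rw [e2, show g' = g from Subtype.ext (by simpa [tt] using e1)]; rfl

open H41.LD

variable {K : Type u} [Field K] {G E : Subgroup (GL (Fin 3) K)} {r s t : R 3 K} {π : E →* Γ}

theorem noQ8 (h : Cov3 E π) (k : Ok Γ x y) {H : Subgroup (GL (Fin 3) K)}
    (hH : H ≤ E ⊔ scalars (Fin 3) K) : NoQ8 H := fun a ha b hb h1 h2 => by
  obtain ⟨r2, r4⟩ := q8_rel h1 h2
  obtain ⟨a', ha', z, hz, ea⟩ := H19.mem_sup_scalars.1 (hH ha)
  obtain ⟨b', hb', w, hw, eb⟩ := H19.mem_sup_scalars.1 (hH hb)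
  let μ := QuotientGroup.mk' (scalars (Fin 3) K)
  have e : ∀ g g' : E, π g = π g' ↔ μ g = μ g' := fun g g' => h.eq_iff.trans QuotientGroup.eq.symm
  have m : ∀ {a a' z : GL (Fin 3) K}, z ∈ scalars (Fin 3) K → a' * z = a → μ a' = μ a := fun hz e => by
    rw [← e, map_mul, show μ _ = 1 from (QuotientGroup.eq_one_iff _).2 hz, mul_one]
  have h3 := k.q8 (π ⟨a', ha'⟩) (π ⟨b', hb'⟩)
    (by rw [← map_pow, ← map_pow, e]; simp only [Subgroup.coe_pow, map_pow, m hz ea, m hw eb]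
        rw [← map_pow, ← map_pow, h1])
    (by rw [← map_mul, ← map_pow, ← map_pow, e]
        simp only [Subgroup.coe_pow, Subgroup.coe_mul, map_pow, map_mul, m hz ea, m hw eb]
        rw [← map_mul, ← map_pow, ← map_pow, h2])
  have h4 : ((⁅(⟨b', hb'⟩ : E), (⟨a', ha'⟩ : E)⁆ : E) : GL (Fin 3) K) = (a ^ 2)⁻¹ := by
    change ⁅b', a'⁆ = _
    rw [← commutatorElement_mul_scalars hw hz, ea, eb, commutatorElement_def, r2, sq]; group
  have h5 : π ⁅(⟨b', hb'⟩ : E), (⟨a', ha'⟩ : E)⁆ = 1 := by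
    have := (e (⟨a', ha'⟩ ^ 2) 1).1 (by rw [map_pow, h3, map_one])
    rw [Subgroup.coe_pow, map_pow, m hz ea, Subgroup.coe_one, map_one] at this
    rw [← map_one π, e, h4, map_inv, map_pow, this, Subgroup.coe_one, map_one, inv_one]
  have h6 := h.eq_one h5 (N := 2) (by decide) (Subtype.ext (by
    rw [Subgroup.coe_pow, h4, inv_pow, ← pow_mul, r4]; simp))
  rw [h6] at h4
  simpa using h4.symm

theorem prim [Finite K] (hR : R3 G r s t) (hE : E ≤ G) (hq : H61.L3.QS E) (h : Cov3 E π) (k : Ok Γ x y)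
    {S : Set (R 3 K)} (h0 : S.Nonempty) (h1 : ∀ e ∈ S, e.2 ⬝ᵥ e.1 = 1)
    (h2 : ∀ e ∈ S, ∀ e' ∈ S, N e = N e' ∨ (e.2 ⬝ᵥ e'.1 = 0 ∧ e'.2 ⬝ᵥ e.1 = 0))
    (h3 : ∀ x, Rf G x → ∀ e ∈ S, ∃ e' ∈ S, N e' = (1 - N x) * N e * (1 - N x)) : False := by
  have act : ∀ g ∈ G, ∀ e ∈ S, ∃ e' ∈ S, N e' * g.val = g.val * N e := fun g hg =>
    gen_induction (D := {x | Rf G x}) (fun _ h => h.1)
      (p := fun A => ∀ e ∈ S, ∃ e' ∈ S, N e' * A = A * N e) (fun e he => ⟨e, he, by simp⟩)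
      (fun x hx A hA e he => by
        obtain ⟨e', he', q⟩ := hA e he
        obtain ⟨e'', he'', q'⟩ := h3 x hx e' he'
        refine ⟨e'', he'', ?_⟩
        rw [q', mul_assoc, ← mul_assoc (1 - N x) _ A, rf_mul_self hx.1, one_mul, mul_assoc, q,
          mul_assoc]) (hR.gen hg)
  let C : R 3 K → Subgroup (GL (Fin 3) K) := fun e =>
    { carrier := {g | Commute g.val (N e)}
      mul_mem' := fun ha hb => Commute.mul_left ha hb
      one_mem' := Commute.one_left _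
      inv_mem' := fun ha => Commute.units_inv_left ha }
  obtain ⟨e0, he0⟩ := h0
  have mem : ∀ g, g ∈ E ⊓ ⨅ e ∈ S, C e ↔ g ∈ E ∧ ∀ e ∈ S, g ∈ C e := fun g => by
    simp only [Subgroup.mem_inf, Subgroup.mem_iInf]
  rcases hq.le_scalars_or (N := E ⊓ ⨅ e ∈ S, C e) inf_le_left (fun g hg a ha => by
    rw [mem] at ha ⊢
    refine ⟨E.mul_mem (E.mul_mem hg ha.1) (E.inv_mem hg), fun e he => ?_⟩
    obtain ⟨e', he', q⟩ := act g⁻¹ (G.inv_mem (hE hg)) e he
    have q' : N e * g.val = g.val * N e' := by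
      rw [← Units.inv_mul_eq_iff_eq_mul, ← mul_assoc, ← q, Units.inv_mul_cancel_right]
    change g.val * a.val * (g⁻¹).val * N e = N e * (g.val * a.val * (g⁻¹).val)
    rw [mul_assoc, ← q, ← mul_assoc, mul_assoc g.val, Commute.eq (ha.2 e' he'), ← mul_assoc, ← q']
    simp only [mul_assoc]) with hN | hN
  · obtain ⟨c, c5, c1⟩ := k.five
    obtain ⟨g, rfl, hg⟩ := h.exists_lift (N := 5) (by decide) c5
    refine c1 ((h.ker g).2 (hN ((mem _).2 ⟨g.2, fun e he => ?_⟩)))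
    by_contra hc
    have nk : ∀ j : ℕ, 0 < j → j < 4 → g.1 ^ j ∉ C e := fun j j0 j4 hj => hc (by
      have g5 : g.1 ^ 5 = 1 := congrArg Subtype.val hg
      have g6 : g.1 ^ 6 = g.1 := by rw [pow_succ, g5, one_mul]
      obtain ⟨m, hm⟩ : j ∣ 6 := by interval_cases j <;> decide
      rw [← g6, hm, pow_mul]
      exact (C e).pow_mem hj m)
    choose f hf using fun i : Fin 4 => act (g.1 ^ i.1) (G.pow_mem (hE g.2) _) e he
    have ne : ∀ i j : Fin 4, i < j → N (f i) ≠ N (f j) := fun i j hij q => by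
      refine nk (j.1 - i.1) (by omega) (by omega) ?_
      have q1 := (hf i).2
      have q2 := (hf j).2
      rw [← q, show j.1 = i.1 + (j.1 - i.1) by omega, pow_add, Units.val_mul, ← mul_assoc, q1,
        mul_assoc, mul_assoc, Units.mul_right_inj] at q2
      exact q2.symm
    have hd : Dual (fun i => (f i).1) fun i => (f i).2 := fun i j => by
      split_ifs with hij
      · rw [hij]; exact h1 _ (hf j).1
      · refine ((h2 _ (hf i).1 _ (hf j).1).resolve_left ?_).1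
        rcases lt_or_gt_of_ne hij with q | q
        exacts [ne _ _ q, (ne _ _ q).symm]
    have := (rank_mul_le_left (Matrix.of fun i => (f i).2) (Matrix.of fun i => (f i).1)ᵀ).trans
      (rank_le_width _)
    rw [hd.mul, rank_one] at this
    simp at this
  · obtain ⟨c, hc⟩ := exists_smul_of_commute_gspan (span_of_qs hq) (b := N e0) fun g hg =>
      Commute.symm (((mem g).1 (hN hg)).2 e0 he0)
    refine N_ne_smul_one (by norm_num) (fun e => ?_) c hc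
    have := h1 e0 he0
    rw [← trace_N, e] at this
    simp at this

theorem tw_of [Finite K] (hR : R3 G r s t) (hE : E ≤ G) (hq : H61.L3.QS E) (h : Cov3 E π)
    (k : Ok Γ x y) (h2 : (2 : K) ≠ 0) (h3 : (3 : K) ≠ 0) (hG : G ≤ E ⊔ scalars (Fin 3) K) :
    TW G r s t := by
  refine ⟨noQ8 h k ((parG_le ..).trans hG), ?_, fun S h0 h1 h4 h5 =>
    prim hR hE hq h k h0 (fun e he => (h1 e he).2) h4 fun x hx => h5 x hx (hR.sup x)⟩
  obtain ⟨a, ha⟩ := h.surj x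
  obtain ⟨b, hb⟩ := h.surj y
  have hz : π ⁅a, b⁆ = 1 := by
    rw [map_commutatorElement, ha, hb, commutatorElement_eq_one_iff_mul_comm, k.rel.2.2.1]
  have h1 := not_comm h k h2 h3 ha hb
  generalize ⁅a, b⁆ = z at hz h1
  obtain ⟨c, hc⟩ := exists_scal ((h.ker z).1 hz)
  have c3 : (c : K) ^ 3 = 1 := by
    rw [← Units.val_pow_eq_pow_val, scal_mem_specialLinear.1 (hc ▸ h.le z.2), Units.val_one]
  have c1 : (c : K) - 1 ≠ 0 := fun e =>
    h1 (Subtype.ext (by rw [hc, show c = 1 from Units.ext (sub_eq_zero.1 e), scal_one]; rfl))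
  refine ⟨1, c, ⟨fun x _ => by simp, fun x => hR.sup _⟩,
    mul_left_cancel₀ c1 (by linear_combination c3), h3, z, hE z.2, ?_⟩
  rw [hc, coe_scal, sub_smul]; simp

theorem jobB3W : JobB3W.{u} := by
  intro K _ _ G E r s t hR hE hn hq h2 hc
  rcases hc with ⟨h3, ⟨e⟩⟩ | ⟨h5, ⟨e⟩⟩
  · obtain ⟨π, h⟩ := exists_cov3 hq e
    refine tw_of hR hE hq h ok6 h2 h3 (hR.gen.trans ((Subgroup.closure_le _).2 ?_))
    rintro g ⟨x, hx, hg⟩
    obtain rfl : g = rf x hx.1 := Units.ext hg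
    exact invol_mem hq h h2 h3 (hn _ hx.mem) (Units.ext (rf_mul_self hx.1))
  · obtain ⟨π, h⟩ := exists_cov3 hq e
    exact tw_of hR hE hq h ok7 h2 (fun h3 => h2 (by linear_combination h5 - h3))
      (norm_alt7 hq hn (seven_ne_zero_of_five h5) e)

end H91.B3W
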