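import Cfsg.Agent.H63.A8Def
import Cfsg.Agent.H76.SAFD
import Cfsg.Agent.H18.SANQ

/-! A8S (S3152): `J8FD`, `2`-subgroups of `Aut SL₄(2)`. -/

set_option autoImplicit false
set_option linter.unusedSectionVars false

namespace H91.A8FD

open H64.SG (O2 Syl Cz Cs Ns cjs Is2 Inv2 UF IsO2 fx mem_fx mem_Cz)
open Matrix H57 Subgroup H67.SA H76.SAFB H76.SAFD H63.A8

variable {F : Type} [Field F] [Finite F] [CharP F 2]

theorem small {V : Subgroup (SLn 3 F)} (hV : V ≤ UU 3 F) (hc : ∀ a ∈ V, ∀ b ∈ V, cm a b ∈ ZZ 3 F)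
    (hE : ∀ y ∈ V, y ∈ Ec 3 F → y ∈ ZZ 3 F) : Nat.card V < Nat.card F ^ 4 := by
  by_contra hlt
  push Not at hlt
  let f : V → F × F × F × F := fun v => (v.1.1 0 1, v.1.1 1 2, v.1.1 0 2, v.1.1 0 3)
  have inj : Function.Injective f := fun v w e => by
    obtain ⟨e1, e2, e3, e4⟩ : v.1.1 0 1 = w.1.1 0 1 ∧ v.1.1 1 2 = w.1.1 1 2 ∧ v.1.1 0 2 = w.1.1 0 2 ∧
      v.1.1 0 3 = w.1.1 0 3 := by simpa [f] using e
    have hy : v.1 * w.1⁻¹ ∈ V := mul_mem v.2 (inv_mem w.2)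
    generalize hyy : v.1 * w.1⁻¹ = y at hy
    have ev : v.1 = y * w.1 := by rw [← hyy]; group
    obtain ⟨y1, y2⟩ := mem_UU.1 (hV hy)
    obtain ⟨w1, w2⟩ := mem_UU.1 (hV w.2)
    have a10 := y2 1 0 (by decide)
    have a20 := y2 2 0 (by decide)
    have a30 := y2 3 0 (by decide)
    have a21 := y2 2 1 (by decide)
    have a31 := y2 3 1 (by decide)
    have a32 := y2 3 2 (by decide)
    have b21 := w2 2 1 (by decide)
    have b31 := w2 3 1 (by decide)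
    have b32 := w2 3 2 (by decide)
    rw [ev, val_mul, mul_apply, Fin.sum_univ_four] at e1 e2 e3 e4
    simp only [y1, w1, a10, b21, b31, b32, one_mul, mul_one, mul_zero, zero_mul, add_zero, zero_add] at e1 e2 e3 e4
    have c01 : y.1 0 1 = 0 := by linear_combination e1
    have c12 : y.1 1 2 = 0 := by linear_combination e2
    have c02 : y.1 0 2 = 0 := by rw [c01] at e3; linear_combination e3
    have c03 : y.1 0 3 = 0 := by rw [c01, c02] at e4; linear_combination e4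
    have hEc : y ∈ Ec 3 F := mem_Col.2 ⟨y1, fun i j h h' => by
      fin_cases i <;> fin_cases j <;> first | assumption | exact absurd rfl h | exact absurd rfl h'⟩
    obtain ⟨c, hcc⟩ := mem_ZZ.1 (hE y hy hEc)
    have : c = 0 := by
      rw [← c03, hcc]; exact (x_apply_same (by decide) c).symm
    rw [this, x_eq_one (by decide) |>.2 rfl] at hcc
    rw [hcc, one_mul] at ev
    exact Subtype.ext ev
  have bij := inj.bijective_of_nat_card_le (by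
    simp only [Nat.card_prod]; refine le_trans (le_of_eq ?_) hlt; ring)
  obtain ⟨v, hv⟩ := bij.2 (1, 0, 0, 0)
  obtain ⟨w, hw⟩ := bij.2 (0, 1, 0, 0)
  obtain ⟨e1, e2, e3, -⟩ : v.1.1 0 1 = 1 ∧ v.1.1 1 2 = 0 ∧ v.1.1 0 2 = 0 ∧ v.1.1 0 3 = 0 := by
    simpa [f] using hv
  obtain ⟨d1, d2, d3, -⟩ : w.1.1 0 1 = 0 ∧ w.1.1 1 2 = 1 ∧ w.1.1 0 2 = 0 ∧ w.1.1 0 3 = 0 := by
    simpa [f] using hw
  have := ent0 (n := 3) (by norm_num) (hV v.2) (hV w.2) (hc _ v.2 _ w.2) (i := 0) (j := 2) (by decide)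
  have a32 := (mem_UU.1 (hV v.2)).2 3 2 (by decide)
  have b32 := (mem_UU.1 (hV w.2)).2 3 2 (by decide)
  rw [mul_apply, mul_apply, Fin.sum_univ_four, Fin.sum_univ_four] at this
  simp [e1, e2, e3, d1, d2, d3, a32, b32] at this

theorem th (hp : Par8 3 F) (hA : FA 3 F) (hQ : FQ 3 F) (D D' : Subgroup (Au 3 F)) (hD : IsPGroup 2 D)
    (hU : cI (UU 3 F) ≤ D) (hU' : cI (UU 3 F) ≤ D')
    (hZ : ∀ β ∈ D, ∀ z ∈ ZZ 3 F, β z = z)
    (θ : Au 3 F → Au 3 F) (hm : ∀ a ∈ D', ∀ b ∈ D', θ (a * b) = θ a * θ b) (hb : Set.BijOn θ D' D)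
    (hz : ∀ a ∈ cI (ZZ 3 F), θ a ∈ cI (ZZ 3 F)) : ∀ a ∈ cI (QQ 3 F), θ a ∈ cI (QQ 3 F) := by
  have hn := hp.two_le
  let θh : D' →* Au 3 F := MonoidHom.mk' (fun a => θ a) fun a b => hm a a.2 b b.2
  have hcm : ∀ a ∈ D', ∀ b ∈ D', θ (cm a b) = cm (θ a) (θ b) := fun a ha b hb =>
    map_commutatorElement θh ⟨a, ha⟩ ⟨b, hb⟩
  have in1 : ∀ β ∈ D, (out 3 F β).2 = 1 → β ∈ cI (UU 3 F) := fun β h e =>
    mem_cU hn hD hU h (Prod.ext (fa_fz hn β (hZ β h)) e)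
  have cq : ∀ u ∈ QQ 3 F, MulAut.conj u ∈ D' := fun u hu => hU' (mem_map_of_mem _ (QQ_le_UU hu))
  let φ : QQ 3 F →* Au 3 F := MonoidHom.mk' (fun u => θ (MulAut.conj u.1)) fun a b => by
    rw [← hm _ (cq _ a.2) _ (cq _ b.2), ← map_mul]; rfl
  have φi : Function.Injective φ := fun a b e => Subtype.ext
    (conj_inj (is2_of_UU (QQ_le_UU a.2)) (is2_of_UU (QQ_le_UU b.2)) (hb.injOn (cq _ a.2) (cq _ b.2) e))
  set P := φ.range with hP
  have cP : Nat.card P = 32 := by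
    rw [← Nat.card_congr (MonoidHom.ofInjective φi).toEquiv, card_QQ (by norm_num), hp.two]; norm_num
  have PD : P ≤ D := by
    rintro _ ⟨u, rfl⟩
    exact hb.mapsTo (cq _ u.2)
  have qcm : ∀ a ∈ QQ 3 F, ∀ b ∈ QQ 3 F, cm a b ∈ ZZ 3 F := fun _ ha _ hb => H18.SA.cm_QQ ha hb
  have Pc : ∀ a ∈ P, ∀ b ∈ P, cm a b ∈ cI (ZZ 3 F) := by
    rintro _ ⟨u, rfl⟩ _ ⟨v, rfl⟩
    change cm (θ _) (θ _) ∈ _
    rw [← hcm _ (cq _ u.2) _ (cq _ v.2), conj_cm]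
    exact hz _ (mem_map_of_mem _ (qcm _ u.2 _ v.2))
  set V := UU 3 F ⊓ P.comap MulAut.conj with hV
  have Vc : ∀ a ∈ V, ∀ b ∈ V, cm a b ∈ ZZ 3 F := fun a ha b hb' =>
    mem_of_conj ZZ_le_UU (is2_of_UU (mul_mem (mul_mem (mul_mem ha.1 hb'.1) (inv_mem ha.1)) (inv_mem hb'.1)))
      (conj_cm a b ▸ Pc _ ha.2 _ hb'.2)
  let g : Au 3 F →* Multiplicative (ZMod 2) := (MonoidHom.snd _ _).comp (out 3 F)
  have k1 : Nat.card ↥(P ⊓ g.ker) ≤ Nat.card V :=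
    (card_le_of_le (K := cI V) fun β h => by
      obtain ⟨u, hu, rfl⟩ := mem_cI.1 (in1 β (PD h.1) h.2)
      exact mem_map_of_mem _ ⟨hu, h.1⟩).trans (Nat.le_of_dvd Nat.card_pos (card_map_dvd _ _))
  by_cases ho : ∀ β ∈ P, (out 3 F β).2 = 1
  · have e : V = QQ 3 F := hQ.qq V (inf_le_left.trans UU_le_Cs)
      (H64.SG.isPGroup_iff_is2.2 fun a ha => is2_of_UU ha.1)
      (by rw [← cP]; exact (card_le_of_le (le_inf le_rfl fun β h => ho β h)).trans k1) Vc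
    rintro _ ⟨u, hu, rfl⟩
    have h1 : θ (MulAut.conj u) ∈ P := ⟨⟨u, hu⟩, rfl⟩
    obtain ⟨v, hv, ev⟩ := mem_cI.1 (in1 _ (PD h1) (ho _ h1))
    rw [ev] at h1 ⊢
    exact mem_map_of_mem _ (e ▸ (⟨hv, h1⟩ : v ∈ V))
  exfalso
  push Not at ho
  obtain ⟨β, hβ, hg⟩ := ho
  have st := St_of_mem hn hD hU (PD hβ)
  have sw := ((hA.nz β (hA.nu β st).1).2.resolve_left fun h => hg h.1).2
  have k2 := small (V := V) inf_le_left Vc fun y hy hE => by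
    have h1 : β y * y⁻¹ ∈ ZZ 3 F := mem_of_conj ZZ_le_UU
      (is2_of_UU (mul_mem ((st y).1 hy.1) (inv_mem hy.1))) (cm_conj β y ▸ Pc _ hβ _ hy.2)
    rw [← Er_inf_Ec]
    refine ⟨?_, hE⟩
    have h2 := mul_mem (inv_mem (ZZ_le_Er h1)) ((sw.2 y).1 hE)
    simpa using h2
  have k3 : Nat.card P = Nat.card ↥(P ⊓ g.ker) * Nat.card (P.map g) := by
    rw [← relIndex_ker, inf_comm, ← inf_relIndex_right,
      ← Nat.card_congr (subgroupOfEquivOfLe (inf_le_right : g.ker ⊓ P ≤ P)).toEquiv]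
    exact (card_mul_index _).symm
  have k4 : Nat.card (P.map g) ≤ 2 :=
    (Nat.le_of_dvd Nat.card_pos (card_subgroup_dvd_card _)).trans (by simp)
  rw [hp.two] at k2
  nlinarith

theorem jobFD (A : J8FA) (_C : J8FC) (Q : J8FQ) : J8FD := fun n F _ _ _ hp => by
  obtain rfl := hp.three
  exact ⟨fun D D' hD _ hU hU' hZ _ θ hm hb hz => th hp (A 3 F hp) (Q 3 F hp) D D' hD hU hU' hZ θ hm hb hz,
    fun h => absurd h (by norm_num), sb hp.two_le⟩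

end H91.A8FD
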