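import Cfsg.Agent.H63.KgvSpec
import Cfsg.Agent.H28.GenChar

set_option autoImplicit false

namespace H91.KgvPd

open Finset Cfsg ComplexConjugate H63.Kgv H28

universe u

theorem dvd_of {ι : Type} [Fintype ι] (p : ℕ) [hp : Fact p.Prime] (n : ℤ) (e a : ι → ℂ)
    (he : ∀ i, e i ^ p = 1) (ha : ∀ i, IsIntegral ℤ (a i))
    (hn : (n : ℂ) = ∑ i, (e i - 1) * a i) : (p : ℤ) ∣ n := by
  have hei : ∀ i, IsIntegral ℤ (e i) := fun i =>
    IsIntegral.of_pow hp.out.pos (by rw [he i]; exact isIntegral_one)
  let O := integralClosure ℤ ℂ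
  let e' : ι → O := fun i => ⟨e i, hei i⟩
  let a' : ι → O := fun i => ⟨a i, ha i⟩
  have he' : ∀ i, e' i ^ p = 1 := fun i => Subtype.ext (by simpa [e'] using he i)
  have hI : ∀ i, e' i - 1 ∈ (Ideal.span {(p : O)}).radical := by
    intro i
    refine ⟨p, ?_⟩
    obtain ⟨r, hr⟩ := exists_add_pow_prime_eq hp.out (e' i) (-1)
    rw [sub_eq_add_neg, hr, he' i]
    refine Ideal.add_mem _ ?_ ?_
    · rcases hp.out.eq_two_or_odd' with h2 | hodd
      · subst h2
        have : (1 : O) + (-1) ^ 2 = ((2 : ℕ) : O) := by norm_num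
        rw [this]; exact Ideal.subset_span rfl
      · rw [hodd.neg_one_pow]; simp
    · rw [Ideal.mem_span_singleton]
      first
        | exact Dvd.intro _ rfl
        | exact ((dvd_mul_right _ _).mul_right _).mul_right _
  have hn' : (n : O) = ∑ i, (e' i - 1) * a' i := by
    apply Subtype.ext
    simpa [e', a'] using hn
  have hmem : (n : O) ∈ (Ideal.span {(p : O)}).radical := by
    rw [hn']
    exact Ideal.sum_mem _ fun i _ => Ideal.mul_mem_right _ _ (hI i)
  obtain ⟨k, hk⟩ := hmem
  obtain ⟨v, hv⟩ := Ideal.mem_span_singleton.1 hk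
  have hv' : (n : ℂ) ^ k = p * (v : ℂ) := by
    have := congrArg (Subtype.val) hv
    simpa using this
  have hp0 : (p : ℂ) ≠ 0 := by exact_mod_cast hp.out.ne_zero
  have hq : (v : ℂ) = algebraMap ℚ ℂ ((n : ℚ) ^ k / p) := by
    simp only [map_div₀, map_pow, map_intCast, map_natCast]
    rw [hv']; field_simp
  have hint : IsIntegral ℤ ((n : ℚ) ^ k / p) := by
    have h2 : IsIntegral ℤ (v : ℂ) := v.2
    rw [hq] at h2
    exact (isIntegral_algebraMap_iff (algebraMap ℚ ℂ).injective).1 h2
  obtain ⟨z, hz⟩ := IsIntegrallyClosed.isIntegral_iff.1 hint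
  have hp1 : (p : ℚ) ≠ 0 := by exact_mod_cast hp.out.ne_zero
  have hz' : n ^ k = p * z := by
    have : (z : ℚ) = (n : ℚ) ^ k / p := by simpa using hz
    have h3 : (n : ℚ) ^ k = p * z := by rw [this]; field_simp
    exact_mod_cast h3
  exact (Nat.prime_iff_prime_int.1 hp.out).dvd_of_dvd_pow ⟨z, hz'⟩

theorem sum_ee (p : ℕ) [Fact p.Prime] (b : ZMod p) :
    ∑ x : ZMod p, ee p (x * b) = if b = 0 then (p : ℂ) else 0 := by
  have := AddChar.sum_mulShift b (ZMod.isPrimitive_stdAddChar p)
  rw [ZMod.card] at this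
  split_ifs at this ⊢ with h
  · simpa using this
  · simpa using this

theorem ee_pow (p : ℕ) [Fact p.Prime] (b : ZMod p) : ee p b ^ p = 1 := by
  rw [← AddChar.map_nsmul_eq_pow]
  simp

theorem key (p : ℕ) [hp : Fact p.Prime] (m : ZMod p → ℤ) (a : ZMod p → ℂ)
    (ha : ∀ t, t ≠ 0 → IsIntegral ℤ (a t))
    (h : ∀ t, t ≠ 0 → p * a t = ∑ c, ee p (t * c) * m c) (j : ZMod p) : (p : ℤ) ∣ m j - m 0 := by
  classical
  have hp0 : (p : ℂ) ≠ 0 := by exact_mod_cast hp.out.ne_zero
  refine dvd_of p _ (fun t => ee p (t * -j)) (fun t => if t = 0 then 0 else a t)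
    (fun t => ee_pow p _) (fun t => ?_) ?_
  · split_ifs with h0
    · exact isIntegral_zero
    · exact ha t h0
  · apply mul_left_cancel₀ hp0
    rw [Finset.mul_sum]
    have h1 : ∀ t : ZMod p, (p : ℂ) * ((ee p (t * -j) - 1) * if t = 0 then 0 else a t) =
        ∑ c, (ee p (t * (c - j)) * m c - ee p (t * c) * m c) := by
      intro t
      by_cases h0 : t = 0
      · subst h0; simp
      · rw [if_neg h0, mul_left_comm, h t h0, Finset.mul_sum]
        refine Finset.sum_congr rfl fun c _ => ?_
        have : ee p (t * (c - j)) = ee p (t * -j) * ee p (t * c) := by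
          rw [← AddChar.map_add_eq_mul]; congr 1; ring
        rw [this]; ring
    simp_rw [h1]
    rw [Finset.sum_comm]
    simp_rw [Finset.sum_sub_distrib, ← Finset.sum_mul, sum_ee, sub_eq_zero]
    simp
    ring

theorem job : PdSt.{u} := by
  intro p hp E _ _ f hE hf hG
  classical
  obtain ⟨Θ, hΘ, hs⟩ := hG
  beta_reduce at hs
  have hp0 : (p : ℂ) ≠ 0 := by exact_mod_cast hp.out.ne_zero
  have hE0 : (Nat.card E : ℂ) ≠ 0 := by exact_mod_cast Nat.card_pos.ne'
  refine ⟨fun c y => (p : ℂ)⁻¹ * (Θ c y - Θ 0 y), fun c => ?_, fun t ht y => ?_⟩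
  · refine H28.isGeneralizedCharacter_iff.2 ⟨fun g h => ?_, fun ψ hψ => ?_⟩
    · simp only [(hΘ c).isClassFunction g h, (hΘ 0).isClassFunction g h]
    · choose m hm using fun c => (hΘ c).classInner_int hψ.isGeneralizedCharacter
      have hpa : ∀ t, t ≠ 0 → p * classInner (f t) ψ = ∑ c, ee p (t * c) * m c := by
        intro t ht
        simp_rw [← hm]
        unfold classInner
        rw [mul_left_comm, Finset.mul_sum]
        simp_rw [← mul_assoc (p : ℂ), hs t ht, Finset.sum_mul]
        rw [Finset.sum_comm, Finset.mul_sum]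
        refine Finset.sum_congr rfl fun c _ => ?_
        rw [mul_left_comm, Finset.mul_sum (a := ee p (t * c))]
        simp_rw [mul_assoc]
      have hint : ∀ t, t ≠ 0 → IsIntegral ℤ (classInner (f t) ψ) := by
        intro t ht
        have h1 : IsIntegral ℤ (p * classInner (f t) ψ) := by
          rw [hpa t ht]
          refine IsIntegral.sum _ fun c _ => IsIntegral.mul ?_ ?_
          · exact IsIntegral.of_pow hp.out.pos (by rw [ee_pow]; exact isIntegral_one)
          · exact isIntegral_algebraMap (R := ℤ) (A := ℂ) (x := m c)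
        have h2 : IsIntegral ℤ ((Nat.card E : ℂ) * classInner (f t) ψ) := by
          unfold classInner
          rw [← mul_assoc, mul_inv_cancel₀ hE0, one_mul]
          exact IsIntegral.sum _ fun y _ =>
            (hf t ht y).mul (hψ.isGeneralizedCharacter.conj.isIntegral y)
        have hcop : IsCoprime (p : ℤ) (Nat.card E : ℤ) :=
          Nat.isCoprime_iff_coprime.2 ((Nat.Prime.coprime_iff_not_dvd hp.out).2 hE)
        obtain ⟨u, w, huw⟩ := hcop
        have huw' : (u : ℂ) * p + w * (Nat.card E : ℂ) = 1 := by exact_mod_cast huw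
        have : classInner (f t) ψ = u * (p * classInner (f t) ψ) +
            w * ((Nat.card E : ℂ) * classInner (f t) ψ) := by
          linear_combination (-classInner (f t) ψ) * huw'
        rw [this]
        exact ((isIntegral_algebraMap (R := ℤ) (A := ℂ) (x := u)).mul h1).add
          ((isIntegral_algebraMap (R := ℤ) (A := ℂ) (x := w)).mul h2)
      obtain ⟨z, hz⟩ := key p m _ hint hpa c
      refine ⟨z, ?_⟩
      have hz' : (m c : ℂ) - m 0 = p * z := by exact_mod_cast hz
      rw [← hm, ← hm] at hz'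
      apply mul_left_cancel₀ hp0
      rw [← hz']
      unfold classInner
      rw [← mul_sub, ← Finset.sum_sub_distrib, mul_left_comm, Finset.mul_sum]
      congr 1
      refine Finset.sum_congr rfl fun y _ => ?_
      field_simp
  · apply mul_left_cancel₀ hp0
    rw [hs t ht y, Finset.mul_sum]
    have h0 : ∑ c : ZMod p, ee p (t * c) = 0 := by
      have := sum_ee p t
      rw [if_neg ht] at this
      simpa [mul_comm] using this
    have h1 : ∀ c : ZMod p, (p : ℂ) * (ee p (t * c) * ((p : ℂ)⁻¹ * (Θ c y - Θ 0 y))) =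
        ee p (t * c) * Θ c y - ee p (t * c) * Θ 0 y := fun c => by field_simp
    simp_rw [h1, Finset.sum_sub_distrib, ← Finset.sum_mul, h0]
    simp

end H91.KgvPd
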