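import Cfsg.Agent.H68.EGSpec
import Cfsg.Agent.H56.RegU2

/-! Tower EG: regular unipotent matrices (`JobRU`, `JobP`). -/

set_option autoImplicit false
set_option linter.unusedSectionVars false

namespace H91.EG

open Matrix H68.EG H57 Module

universe u

variable {F : Type u} [Field F] {n : ℕ}

/-- Regular unipotent matrices. -/
def RM (M : Matrix (Fin (n + 1)) (Fin (n + 1)) F) : Prop := (M - 1) ^ (n + 1) = 0 ∧ (M - 1) ^ n ≠ 0

theorem pow_up {N : Matrix (Fin (n + 1)) (Fin (n + 1)) F} (h : ∀ a b, b ≤ a → N a b = 0) (k : ℕ) :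
    ∀ a b : Fin (n + 1), b.val < a.val + k → (N ^ k) a b = 0 := by
  induction k with
  | zero => exact fun a b e => by rw [pow_zero, one_apply_ne (by omega)]
  | succ k ih =>
    intro a b e
    rw [pow_succ, mul_apply]
    refine Finset.sum_eq_zero fun l _ => ?_
    by_cases hl : b ≤ l
    · rw [h l b hl, mul_zero]
    · rw [ih a l (by omega), zero_mul]

theorem rm_of {M : Matrix (Fin (n + 1)) (Fin (n + 1)) F} (h : ∀ a b, b ≤ a → (M - 1) a b = 0)
    (h1 : ∀ i : Fin n, (M - 1) i.castSucc i.succ ≠ 0) : RM M := by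
  refine ⟨Matrix.ext fun a b => pow_up h _ a b (by omega), fun e => ?_⟩
  have key : ∀ (k : ℕ) (hk : k < n + 1), ((M - 1) ^ k) 0 ⟨k, hk⟩ ≠ 0 := fun k => by
    induction k with
    | zero => exact fun _ => by simp
    | succ k ih =>
      intro hk
      rw [pow_succ, mul_apply, Finset.sum_eq_single ⟨k, by omega⟩ (fun l _ hl => ?_) (by simp)]
      · exact mul_ne_zero (ih _) (h1 ⟨k, by omega⟩)
      · by_cases h2 : l.val < k
        · rw [pow_up h k 0 l (by simpa using h2), zero_mul]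
        · rw [h l _ (by rw [Fin.le_def]; rw [Ne, Fin.ext_iff] at hl; simp only at hl ⊢; omega),
            mul_zero]
  exact key n n.lt_succ_self (by rw [e]; rfl)

theorem prod_eU (c : Fin n → F) (l : List (Fin n)) (hl : l.Nodup) :
    (∀ a b, b ≤ a → ((l.map fun i => eU i (c i)).prod.1 - 1) a b = 0) ∧
      ∀ i : Fin n, ((l.map fun i => eU i (c i)).prod.1 - 1) i.castSucc i.succ =
        if i ∈ l then c i else 0 := by
  induction l with
  | nil => simp
  | cons j l ih =>
    obtain ⟨h1, h2⟩ := ih (List.nodup_cons.1 hl).2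
    rw [List.map_cons, List.prod_cons]
    generalize (l.map fun i => eU i (c i)).prod = m at h1 h2 ⊢
    have e : ∀ a b, ((eU j (c j) * m).1 - 1) a b = (m.1 - 1) a b +
        if a = j.castSucc then c j * ((m.1 - 1) j.succ b + (1 : Matrix _ _ F) j.succ b) else 0 := by
      intro a b
      rw [show (eU j (c j) * m).1 = (eU j (c j)).1 * m.1 from rfl, eU,
        xA_coe Fin.castSucc_lt_succ.ne, add_mul, one_mul, add_sub_right_comm, Matrix.add_apply]
      congr 1
      split_ifs with h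
      · rw [h, single_mul_apply_same, Matrix.sub_apply, sub_add_cancel]
      · exact single_mul_apply_of_ne _ _ _ _ _ h _
    refine ⟨fun a b h => ?_, fun i => ?_⟩
    · rw [e, h1 a b h, zero_add]
      split_ifs with h3
      · have : b < j.succ := (h3 ▸ h).trans_lt Fin.castSucc_lt_succ
        rw [h1 _ _ this.le, one_apply_ne this.ne', add_zero, mul_zero]
      · rfl
    · rw [e, h2]
      by_cases h3 : i = j
      · subst h3
        simp [(List.nodup_cons.1 hl).1, h1 _ _ le_rfl]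
      · simp [h3]

theorem prod_eL (c : Fin n → F) (l : List (Fin n)) :
    (l.map fun i => eL i (c i)).prod.1 = (l.reverse.map fun i => eU i (c i)).prod.1ᵀ := by
  induction l with
  | nil => simp
  | cons j l ih =>
    have : (eL j (c j)).1 = (eU j (c j)).1ᵀ := by
      simp [eU, eL, xA_coe Fin.castSucc_lt_succ.ne, xA_coe Fin.castSucc_lt_succ.ne']
    simp [ih, this]

theorem RM.transpose {M : Matrix (Fin (n + 1)) (Fin (n + 1)) F} (h : RM M) : RM Mᵀ := by
  have e : ∀ k, (Mᵀ - 1) ^ k = ((M - 1) ^ k)ᵀ := fun k => by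
    rw [transpose_pow, transpose_sub, transpose_one]
  exact ⟨by rw [e, h.1, transpose_zero], by rw [e, Ne, transpose_eq_zero]; exact h.2⟩

theorem exists_J : ∃ J : GL (Fin (n + 1)) F, J.1.det = 1 ∧ ∀ M : Matrix _ _ F, RM M →
    ∃ c : GL (Fin (n + 1)) F, (c * J * c⁻¹).1 = M := by
  let J : Matrix (Fin (n + 1)) (Fin (n + 1)) F :=
    .of fun i j => if i = j then 1 else if j.val = i.val + 1 then 1 else 0
  have hJ : J.det = 1 := by
    rw [det_of_upperTriangular (M := J) fun i j (h : j < i) =>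
      (if_neg h.ne').trans (if_neg (show ¬ j.val = i.val + 1 by omega))]
    simp [J]
  refine ⟨.mkOfDetNeZero J (hJ ▸ one_ne_zero), hJ, fun M h => ?_⟩
  simpa only [LinearMap.toMatrix'_toLin'] using H56.RegU.exists_conj
    (J := .mkOfDetNeZero J (hJ ▸ one_ne_zero)) (fun _ _ => rfl) (x := toLin' M)
    (by rw [H53.toLin'_sub_one_pow, h.1, map_zero])
    (by rw [H53.toLin'_sub_one_pow, Ne, LinearEquiv.map_eq_zero_iff]; exact h.2)

theorem RM.det {M : Matrix (Fin (n + 1)) (Fin (n + 1)) F} (h : RM M) : M.det = 1 := by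
  obtain ⟨J, h1, h2⟩ := exists_J (F := F) (n := n)
  obtain ⟨c, rfl⟩ := h2 M h
  rw [Units.val_mul, Units.val_mul, det_units_conj, h1]

theorem jobRU : JobRU.{u} := by
  intro F _ n
  have key : ∀ (l : List (Fin n)) (c : Fin n → F), l.Nodup → (∀ i, i ∈ l) → (∀ i, c i ≠ 0) →
      RM (l.map fun i => eU i (c i)).prod.1 := fun l c h1 h2 h3 =>
    rm_of (prod_eU c l h1).1 fun i => by rw [(prod_eU c l h1).2, if_pos (h2 i)]; exact h3 i
  refine ⟨fun l c h1 h2 h3 => ⟨key l c h1 h2 h3, ?_⟩, fun j j' h h' => ?_, fun j h => ?_,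
    fun K hU hL => ?_⟩
  · show RM _
    rw [prod_eL]
    exact (key _ c (List.nodup_reverse.2 h1) (fun i => List.mem_reverse.2 (h2 i)) h3).transpose
  · obtain ⟨J, -, h2⟩ := exists_J (F := F) (n := n)
    obtain ⟨a, ha⟩ := h2 _ h
    obtain ⟨b, hb⟩ := h2 _ h'
    exact ⟨b * a⁻¹, by rw [← ha, ← hb, ← Units.val_mul, ← Units.val_mul]; congr 1; group⟩
  · have e1 : j.1 * (j⁻¹).1 = 1 := congrArg Subtype.val (mul_inv_cancel j)
    have e2 : (j⁻¹).1 * j.1 = 1 := congrArg Subtype.val (inv_mul_cancel j)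
    have c1 : Commute (-(j⁻¹).1) (j.1 - 1) :=
      ((show Commute (j⁻¹).1 j.1 from e2.trans e1.symm).sub_right (.one_right _)).neg_left
    have e : ∀ k, ((j⁻¹).1 - 1) ^ k = (-(j⁻¹).1) ^ k * (j.1 - 1) ^ k := fun k => by
      rw [← c1.mul_pow, neg_mul, mul_sub, e2, mul_one, neg_sub]
    exact ⟨by rw [e, h.1, mul_zero], by
      rw [e, Ne, ((IsUnit.of_mul_eq_one _ e2).neg.pow _).mul_right_eq_zero]; exact h.2⟩
  · have tri : ∀ i j k : Fin (n + 1), i ≠ j → j ≠ k → i ≠ k → (∀ t, xA i j t ∈ K) →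
        (∀ t, xA j k t ∈ K) → ∀ t : F, xA i k t ∈ K := fun i j k h1 h2 h3 e1 e2 t => by
      have := (stA_xA (F := F)).tri i j k h1 h2 h3 t 1
      rw [mul_one] at this
      rw [← this]
      exact K.mul_mem (K.mul_mem (K.mul_mem (e1 _) (e2 _)) (K.inv_mem (e1 _))) (K.inv_mem (e2 _))
    have key : ∀ (d : ℕ) (i j : Fin (n + 1)), j.val = i.val + d + 1 →
        (∀ t : F, xA i j t ∈ K) ∧ ∀ t : F, xA j i t ∈ K := fun d => by
      induction d with
      | zero =>
        intro i j e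
        obtain ⟨i, rfl⟩ := Fin.exists_castSucc_eq.2 (show i ≠ Fin.last n by
          rw [Ne, Fin.ext_iff, Fin.val_last]; omega)
        obtain rfl : j = i.succ := Fin.ext e
        exact ⟨hU i, hL i⟩
      | succ d ih =>
        intro i j e
        obtain ⟨l, hl⟩ : ∃ l : Fin (n + 1), l.val = i.val + d + 1 := ⟨⟨_, by omega⟩, rfl⟩
        obtain ⟨l', rfl⟩ := Fin.exists_castSucc_eq.2 (show l ≠ Fin.last n by
          rw [Ne, Fin.ext_iff, Fin.val_last]; omega)
        obtain rfl : j = l'.succ := Fin.ext (e.trans (congrArg (· + 1) hl.symm))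
        exact ⟨tri _ _ _ (by omega) (by omega) (by omega) (ih i _ hl).1 (hU l'),
          tri _ _ _ (by omega) (by omega) (by omega) (hL l') (ih i _ hl).2⟩
    rw [eq_top_iff, ← closure_xA, Subgroup.closure_le]
    rintro _ ⟨i, j, t, h, rfl⟩
    rcases lt_or_gt_of_ne h with h | h
    · exact (key (j - i - 1) i j (by omega)).1 t
    · exact (key (i - j - 1) j i (by omega)).2 t

theorem jobP : JobP.{u} := by
  intro F _ _ hF n m hm
  have hK : 4 ≤ Cardinal.mk F := by rw [← Nat.cast_card]; exact_mod_cast hF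
  have hs : ∀ l : F, toLin' m.1 ≠ l • 1 := fun l hl =>
    hm ⟨l, toLin'.injective (by rw [hl, map_smul, toLin'_one]; rfl)⟩
  have hd : LinearMap.det (toLin' m.1) = 1 := by rw [LinearMap.det_toLin', m.2]
  suffices ∃ x y : End F (Fin (n + 1) → F), toLin' m.1 = x * y ∧ (x - 1) ^ (n + 1) = 0 ∧
      (x - 1) ^ n ≠ 0 ∧ (y - 1) ^ (n + 1) = 0 ∧ (y - 1) ^ n ≠ 0 by
    obtain ⟨x, y, e, h1, h2, h3, h4⟩ := this
    obtain ⟨x, rfl⟩ := toLin'.surjective x
    obtain ⟨y, rfl⟩ := toLin'.surjective y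
    simp only [H53.toLin'_sub_one_pow, Ne, LinearEquiv.map_eq_zero_iff] at h1 h2 h3 h4
    exact ⟨⟨x, RM.det ⟨h1, h2⟩⟩, ⟨y, RM.det ⟨h3, h4⟩⟩, ⟨h1, h2⟩, ⟨h3, h4⟩,
      Subtype.ext (toLin'.injective (e.trans (toLin'_mul x y).symm))⟩
  generalize toLin' m.1 = g at hs hd
  obtain _ | _ | n := n
  · exact absurd ⟨m.1 0 0, by ext i j; fin_cases i; fin_cases j; simp⟩ hm
  · by_cases ht : ∃ a, g a = a ∧ ∀ x, g x - x ∈ F ∙ a
    · obtain ⟨a, h1, h2⟩ := ht
      obtain ⟨s, -, h3⟩ := exists_unit_ne (F := F) 1 one_pos (.inr ⟨rfl, hF⟩)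
      obtain ⟨T, rfl⟩ : ∃ T, g = 1 + T := ⟨g - 1, by abel⟩
      have e1 : T * T = 0 := LinearMap.ext fun x => by
        obtain ⟨c, hc⟩ := Submodule.mem_span_singleton.1 (h2 x)
        rw [End.mul_apply, show T x = c • a by simpa using hc.symm, map_smul,
          show T a = 0 by simpa using h1, smul_zero, LinearMap.zero_apply]
      have e2 : T ≠ 0 := fun e => hs 1 (by simp [e])
      refine ⟨1 + (s : F) • T, 1 + (1 - (s : F)) • T, ?_, by simp [pow_two, e1], by simp [e2],
        by simp [pow_two, e1], ?_⟩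
      · simp only [add_mul, mul_add, one_mul, mul_one, smul_mul_smul_comm, e1, smul_zero]
        module
      · simpa [e2, sub_eq_zero, eq_comm (a := (1 : F))] using h3
    · obtain ⟨b, hb⟩ := H62.exists_dual_of_ne_zero (F := F) (one_ne_zero (α := Fin (0 + 1 + 1) → F))
      obtain ⟨A, B, h1, h2, h3, h4, x, h5⟩ := H56.RegU.main hK 1 _ (by simp) g hd
        (fun _ => ⟨hs, ht⟩) 1 one_ne_zero b (fun h => by simp [h] at hb)
      exact ⟨_, _, h1, by simpa using h2, fun h => h4 (by rw [add_sub_cancel_left] at h; simp [h]),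
        by simpa using h3, fun h => h5 (by rw [add_sub_cancel_left] at h; simp [h])⟩
  · exact H56.RegU.exists_mul hK (by simp) (by omega) hd hs

end H91.EG
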