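import Cfsg.Agent.H12.CLSpec

/-! CL3 tower (row S3621), chapter 3: job TY. -/

set_option autoImplicit false
set_option linter.unusedSectionVars false

namespace H91.CLT

open H12.CL Module Polynomial

variable {r : ℕ} [Fact r.Prime] {K V W : Type} [Field K] [Finite K] [AddCommGroup V] [Module K V]
  [Finite V] [Nontrivial V] [AddCommGroup W] [Module (ZMod r) W] (S : Ex r K V W)

theorem chi_zero : S.χ 0 = 1 := (S.χ_eq 0).2 rfl

theorem chi_nsmul (j : ZMod r) (n : ℕ) : S.χ (n • j) = S.χ j ^ n := by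
  induction n with
  | zero => rw [zero_nsmul, pow_zero, chi_zero]
  | succ n ih => rw [succ_nsmul, S.χ_add, ih, pow_succ]

theorem chi_pow (j : ZMod r) : S.χ j ^ r = 1 := by
  rw [← chi_nsmul, nsmul_eq_mul, ZMod.natCast_self, zero_mul, chi_zero]

theorem chi_prim : IsPrimitiveRoot (S.χ 1) r := by
  have h := orderOf_eq_prime (chi_pow S 1) fun k => one_ne_zero ((S.χ_eq 1).1 k)
  have := IsPrimitiveRoot.orderOf (S.χ 1)
  rwa [h] at this

theorem t_pow (a : W) (n : ℕ) : ∃ c : K, c ≠ 0 ∧ S.t a ^ n = c • S.t (n • a) := by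
  induction n with
  | zero => exact ⟨1, one_ne_zero, by rw [pow_zero, zero_nsmul, S.t_zero, one_smul]⟩
  | succ n ih =>
    obtain ⟨c, h1, h2⟩ := ih
    obtain ⟨d, h3, h4⟩ := S.t_mul (n • a) a
    exact ⟨c * d, mul_ne_zero h1 h3, by rw [pow_succ, h2, smul_mul_assoc, h4, succ_nsmul, mul_smul]⟩

theorem exists_kap (a : W) : ∃ c : K, c ≠ 0 ∧ S.t a ^ r = c • 1 := by
  obtain ⟨c, h1, h2⟩ := t_pow S a r
  exact ⟨c, h1, by rw [h2, ← Nat.cast_smul_eq_nsmul (ZMod r), ZMod.natCast_self, zero_smul, S.t_zero]⟩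

theorem gd_iff {a : W} {k : K} (h : S.t a ^ r = k • 1) : S.Gd a ↔ ∃ c : K, c ^ r = k := by
  constructor
  · rintro ⟨v, h0, c, hc⟩
    have h1 := (show (S.t a).HasEigenvector c v from ⟨End.mem_eigenspace_iff.2 hc, h0⟩).pow_apply r
    rw [h] at h1
    exact ⟨c, (smul_left_injective K h0 h1).symm⟩
  · rintro ⟨c, hc⟩
    haveI : Module.Finite K V := Module.Finite.of_finite
    have h1 : minpoly K (S.t a) ∣ X ^ r - C k := minpoly.dvd _ _ (by
      rw [map_sub, map_pow, aeval_X, aeval_C, h, Algebra.algebraMap_eq_smul_one, sub_self])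
    have h2 := (X_pow_sub_C_splits_of_isPrimitiveRoot (chi_prim S) hc).of_dvd
      (X_pow_sub_C_ne_zero (Fact.out : r.Prime).pos k) h1
    obtain ⟨m, hm⟩ := h2.exists_eval_eq_zero
      (minpoly.degree_pos (Algebra.IsIntegral.isIntegral _)).ne'
    obtain ⟨v, hv⟩ := (End.hasEigenvalue_of_isRoot hm).exists_hasEigenvector
    exact ⟨v, hv.2, m, hv.apply_eq_smul⟩

theorem mul_pow_tw {x y : End K V} {d : K} (h : y * x = d • (x * y)) (n : ℕ) :
    (x * y) ^ n = d ^ n.choose 2 • (x ^ n * y ^ n) := by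
  have h1 : ∀ n : ℕ, y ^ n * x = d ^ n • (x * y ^ n) := fun n => by
    induction n with
    | zero => simp
    | succ n ih =>
      rw [pow_succ', mul_assoc, ih, mul_smul_comm, ← mul_assoc, h, smul_mul_assoc, smul_smul,
        mul_assoc, pow_succ]
  induction n with
  | zero => simp
  | succ n ih =>
    rw [pow_succ, ih, smul_mul_assoc, mul_assoc, ← mul_assoc (y ^ n), h1, smul_mul_assoc,
      mul_smul_comm, smul_smul, Nat.choose_succ_succ' n 1, Nat.choose_one_right, pow_add, mul_comm (d ^ n),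
      pow_succ x, pow_succ y, mul_assoc, mul_assoc]

theorem kap_add {κ : W → K} (h : ∀ a, S.t a ^ r = κ a • 1) (a b : W) :
    ∃ c : K, c ≠ 0 ∧ c ^ r * κ (a + b) = S.χ (S.B b a) ^ r.choose 2 * (κ a * κ b) := by
  obtain ⟨c, h1, h2⟩ := S.t_mul a b
  have h3 := mul_pow_tw (S.comm b a) r
  rw [h2, _root_.smul_pow, h, h, h, smul_smul, smul_mul_smul_comm, one_mul, smul_smul] at h3
  obtain ⟨v, hv⟩ := exists_ne (0 : V)
  exact ⟨c, h1, smul_left_injective K hv (DFunLike.congr_fun h3 v)⟩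

theorem c2' : ∀ i : ZMod 2, i = 0 ∨ i = 1 := by decide

theorem fin2 : ∀ x ∈ [(1 : ℤ), -1], ∀ y ∈ [(1 : ℤ), -1],
    ((if 1 * (y * x) = 1 then 0 else 1 : ZMod 2) =
      (if x = 1 then 0 else 1) + (if y = 1 then 0 else 1) + 0) ∧
    (if -1 * (y * x) = 1 then 0 else 1 : ZMod 2) =
      (if x = 1 then 0 else 1) + (if y = 1 then 0 else 1) + 1 := by decide

theorem jobTY : JobTY := by
  intro r hr K V W _ _ _ _ _ _ _ _ _ _ S hT
  classical
  choose κ k0 hκ using exists_kap S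
  have gd : ∀ a, S.Gd a ↔ ∃ c : K, c ^ r = κ a := fun a => gd_iff S (hκ a)
  by_cases hA : ∀ j, ∃ e : K, e ^ r = S.χ j ^ r.choose 2
  · have ad : ∀ a b, ∃ u : K, κ (a + b) = u ^ r * (κ a * κ b) := fun a b => by
      obtain ⟨c, h1, h2⟩ := kap_add S hκ a b
      obtain ⟨e, he⟩ := hA (S.B b a)
      exact ⟨e / c, by rw [div_pow, he, div_mul_eq_mul_div, ← h2, mul_div_cancel_left₀ _ (pow_ne_zero _ h1)]⟩
    have g0 : S.Gd 0 := by
      obtain ⟨v, hv⟩ := exists_ne (0 : V)
      exact ⟨v, hv, 1, by rw [S.t_zero, one_smul]; rfl⟩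
    have ga : ∀ {a b}, S.Gd a → S.Gd b → S.Gd (a + b) := fun {a b} h1 h2 => by
      obtain ⟨c, hc⟩ := (gd a).1 h1
      obtain ⟨d, hd⟩ := (gd b).1 h2
      obtain ⟨u, hu⟩ := ad a b
      exact (gd _).2 ⟨u * (c * d), by rw [hu, mul_pow, mul_pow, hc, hd]⟩
    let M : AddSubmonoid W := ⟨⟨{a | S.Gd a}, ga⟩, g0⟩
    let T : Submodule (ZMod r) W := { M with
      smul_mem' := fun c a ha => by
        obtain ⟨n, rfl⟩ := ZMod.natCast_zmod_surjective c
        rw [Nat.cast_smul_eq_nsmul]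
        exact M.nsmul_mem ha n }
    rcases hT T fun _ => Iff.rfl with h | h
    · exfalso
      have z : ∀ a, S.Gd a → a = 0 := fun a ha => (h.le ha : a ∈ (⊥ : Submodule (ZMod r) W))
      obtain ⟨a, ha⟩ := exists_ne (0 : W)
      obtain ⟨b, hb⟩ : ∃ b, S.B a b ≠ 0 := by
        by_contra k
        push Not at k
        exact ha (S.sp.nd a k)
      obtain ⟨g, hg⟩ := IsCyclic.exists_monoid_generator (α := Kˣ)
      obtain ⟨i, hi⟩ := hg (Units.mk0 _ (k0 a))
      obtain ⟨k, hk⟩ := hg (Units.mk0 _ (k0 b))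
      have hi' : (g : K) ^ i = κ a := congrArg Units.val hi
      have hk' : (g : K) ^ k = κ b := congrArg Units.val hk
      have i0 : (i : ZMod r) ≠ 0 := fun e => by
        obtain ⟨m, rfl⟩ := (ZMod.natCast_eq_zero_iff i r).1 e
        exact ha (z a ((gd a).2 ⟨g ^ m, by rw [← hi', ← pow_mul, mul_comm]⟩))
      have it : ∀ n : ℕ, ∃ u : K, κ (n • a + b) = u ^ r * g ^ (n * i + k) := fun n => by
        induction n with
        | zero => exact ⟨1, by simp [hk']⟩
        | succ n ih =>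
          obtain ⟨u, hu⟩ := ih
          obtain ⟨w, hw⟩ := ad a (n • a + b)
          exact ⟨w * u, by rw [succ_nsmul', add_assoc, hw, hu, ← hi']; ring⟩
      obtain ⟨n, hn⟩ := ZMod.natCast_zmod_surjective (-(k : ZMod r) / (i : ZMod r))
      obtain ⟨m, hm⟩ := (ZMod.natCast_eq_zero_iff (n * i + k) r).1 (by
        rw [Nat.cast_add, Nat.cast_mul, hn, div_mul_cancel₀ _ i0, neg_add_cancel])
      obtain ⟨u, hu⟩ := it n
      have e := z _ ((gd _).2 ⟨u * g ^ m, by rw [hu, hm, mul_pow, ← pow_mul, mul_comm m]⟩)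
      have e' := congrArg (S.B a) e
      rw [map_add, map_nsmul, S.sp.alt, map_zero, nsmul_zero, zero_add] at e'
      exact hb e'
    · exact Or.inl fun a => (h.ge trivial : a ∈ T)
  · push Not at hA
    obtain ⟨j, hj⟩ := hA
    obtain rfl : r = 2 := hr.out.eq_two_or_odd'.resolve_right fun ⟨m, hm⟩ => hj 1 (by
      rw [Nat.choose_two_right, show r * (r - 1) / 2 = r * m by
        rw [show r - 1 = 2 * m by omega, mul_left_comm, Nat.mul_div_cancel_left _ two_pos],
        pow_mul, chi_pow, one_pow, one_pow])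
    haveI := Fintype.ofFinite K
    have c2 : ∀ i : ZMod 2, i = 0 ∨ i = 1 := c2'
    have q1 : quadraticChar K (S.χ 1) = -1 := quadraticChar_neg_one_iff_not_isSquare.2 fun ⟨e, he⟩ => by
      rcases c2 j with rfl | rfl
      · exact hj 1 (by rw [chi_zero]; simp)
      · exact hj e (by rw [he, sq]; simp)
    have qg : ∀ a, S.Gd a ↔ quadraticChar K (κ a) = 1 := fun a => by
      rw [gd, quadraticChar_one_iff_isSquare (k0 a)]
      exact ⟨fun ⟨c, h⟩ => ⟨c, by rw [← h, sq]⟩, fun ⟨c, h⟩ => ⟨c, by rw [h, sq]⟩⟩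
    refine Or.inr ⟨rfl, fun a => if quadraticChar K (κ a) = 1 then 0 else 1, fun a b => ?_,
      fun a => by rw [qg]; simp⟩
    obtain ⟨c, h1, h2⟩ := kap_add S hκ b a
    have h3 := congrArg (quadraticChar K) h2
    rw [map_mul, map_mul, map_mul, quadraticChar_sq_one' h1, one_mul, add_comm b a,
      Nat.choose_self, pow_one] at h3
    simp only [h3]
    have f := fin2 _ (by simpa using quadraticChar_dichotomy (k0 a)) _
      (by simpa using quadraticChar_dichotomy (k0 b))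
    rcases c2 (S.B a b) with e | e
    · rw [e, chi_zero, map_one]; exact f.1
    · rw [e, q1]; exact f.2

end H91.CLT
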