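import Cfsg.Agent.H20.DGSpec

/-! Tower DG, job CY2: the structure of the centraliser in the cyclic case. -/

set_option autoImplicit false

namespace H91.DGCy2

open Subgroup MulAction Cfsg H98 H20.DG

universe u v

theorem cyc_le {G : Type*} [Group G] [Finite G] {K A : Subgroup G} (hK : IsCyclic K) (hA : A ≤ K)
    {x : G} (hx : x ∈ K) (h1 : x ^ Nat.card A = 1) : x ∈ A := by
  classical
  have := Fintype.ofFinite K
  have h2 := IsCyclic.card_pow_eq_one_le (α := K) (n := Nat.card A) Nat.card_pos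
  have h3 : Finset.univ.filter (fun a : K => (a : G) ∈ A) =
      Finset.univ.filter (fun a : K => a ^ Nat.card A = 1) := by
    refine Finset.eq_of_subset_of_card_le (fun a ha => ?_) (h2.trans (le_of_eq ?_))
    · simp only [Finset.mem_filter, Finset.mem_univ, true_and] at ha ⊢
      have := congrArg Subtype.val (pow_card_eq_one' (x := (⟨a, ha⟩ : A)))
      exact Subtype.ext this
    · rw [← Nat.card_congr (Subgroup.subgroupOfEquivOfLe hA).toEquiv, Nat.card_eq_fintype_card,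
        Fintype.card_subtype]
      rfl
  have h4 : (⟨x, hx⟩ : K) ∈ Finset.univ.filter (fun a : K => a ^ Nat.card A = 1) := by
    simpa [Subtype.ext_iff] using h1
  rw [← h3] at h4
  simpa using h4

theorem jobCY2 : JobCY2.{u, v} := by
  intro cy1 G Ω _ _ _ _ p q P A O hy ca hA
  obtain ⟨cyc, hP, PC, τ, sur, cop⟩ := cy1 G Ω p q P A O hy ca hA
  have : Fact p.Prime := ⟨hy.pp⟩
  have p2 : 0 < p ^ 2 := pow_pos hy.pp.pos 2
  let K : Subgroup G := τ.ker.map (Cn A).subtype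
  have cK : Nat.card K = Nat.card τ.ker := card_map_of_injective (Cn A).subtype_injective
  have mK : ∀ c : Cn A, τ c = 1 ↔ (c : G) ∈ K := fun c =>
    ⟨fun e => ⟨c, e, rfl⟩, fun ⟨d, hd, e⟩ => Subtype.ext e ▸ hd⟩
  have cZ : Nat.card (Multiplicative (ZMod (p ^ 2))) = p ^ 2 := by simp
  have cC : Nat.card (Cn A) = p ^ 2 * Nat.card K := by
    rw [← τ.ker.card_mul_index, index_ker, MonoidHom.range_eq_top.2 sur, card_top, cZ, cK, mul_comm]
  have ord : ∀ c : Cn A, τ c ≠ 1 → p ∣ orderOf (c : G) := fun c h => by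
    obtain ⟨k, -, hk⟩ := (Nat.dvd_prime_pow hy.pp).1 (cZ ▸ orderOf_dvd_natCard (τ c))
    rw [orderOf_coe]
    refine dvd_trans ?_ (orderOf_map_dvd τ c)
    rw [hk]
    refine dvd_pow_self p ?_
    rintro rfl
    exact h (orderOf_eq_one_iff.1 hk)
  have CO : ∀ c ∈ Cn A, ∀ a ∈ O, c • a ∈ O := fun c hc a ha => by_contra fun h =>
    (ca.fix a).1 (fun g hg => mem_stabilizer_iff.2 (MulAction.injective c (by
      change c • g • a = c • a
      rw [← mul_smul, ← hc g hg, mul_smul]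
      exact (ca.fix _).2 h hg))) ha
  have st : ∀ a ∈ O, Cn A ⊓ stabilizer G a = K := fun a ha => by
    have e : Ob (Cn A) a = O := Set.ext fun b =>
      ⟨fun ⟨g, hg, e⟩ => e ▸ CO g hg a ha, fun hb =>
        let ⟨g, hg, e⟩ := (ca.orb a ha b).1 hb; ⟨g, PC hg, e⟩⟩
    have e1 := ((stabilizer G a).subgroupOf (Cn A)).card_mul_index
    rw [← relIndex, ← ncard_Ob, e, ca.cardO, cC, mul_comm, ← card_map_of_injective
      (Cn A).subtype_injective, subgroupOf_map_subtype, inf_comm] at e1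
    have e2 := Nat.eq_of_mul_eq_mul_left p2 e1
    refine eq_of_le_of_card_ge (fun c hc => (mK ⟨c, hc.1⟩).1 (by_contra fun h => cop ?_)) e2.ge
    rw [← cK, ← e2]
    exact (ord _ h).trans (orderOf_dvd_natCard _ hc)
  obtain ⟨a₀, h₀⟩ : O.Nonempty := Set.nonempty_of_ncard_ne_zero (by rw [ca.cardO]; omega)
  refine ⟨K, ca, hA, cyc, fun g => ⟨fun hg a ha => ((st a ha).ge hg).2, fun hg =>
    (st a₀ h₀).le ⟨fun x hx => ?_, hg a₀ h₀⟩⟩, map_subtype_le _, cK ▸ cop, cC,
    fun c hc h a ha e => h ((st a ha).le ⟨hc, e⟩), ⟨τ, sur, mK⟩, fun c hc h => ?_⟩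
  · refine inv_mul_eq_one.1 (hy.faith _ fun ω => ?_)
    rw [mul_smul, inv_smul_eq_iff, mul_smul, mul_smul]
    by_cases hω : ω ∈ O
    · rw [hg ω hω, hg _ ((ca.orb ω hω _).2 ⟨x, ca.le hx, rfl⟩)]
    · have h1 : g • ω ∉ O := fun e => hω (MulAction.injective g (hg _ e) ▸ e)
      rw [mem_stabilizer_iff.1 ((ca.fix ω).2 hω hx), mem_stabilizer_iff.1 ((ca.fix _).2 h1 hx)]
  · obtain ⟨m, hm⟩ := ord ⟨c, hc⟩ fun e => h ((mK _).1 e)
    have m0 : m ≠ 0 := by
      rintro rfl
      exact (orderOf_pos _).ne' hm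
    have od : orderOf (c ^ m) = p := by
      rw [orderOf_pow_of_dvd m0 (hm ▸ dvd_mul_left m p), hm,
        Nat.mul_div_cancel _ (Nat.pos_of_ne_zero m0)]
    have dp : (c ^ m) ^ p = 1 := od ▸ pow_orderOf_eq_one _
    obtain ⟨g, hg, e⟩ := (ca.syl.of_le PC le_top).exists_cj_le
      (isPGroup_zpowers (k := 1) (by rwa [pow_one])) (zpowers_le.2 (pow_mem hc m))
    have m1 : g * c ^ m * g⁻¹ ∈ A := cyc_le cyc ca.le (e (conj_mem_cj (mem_zpowers _)))
      (by rw [hA, conj_pow, dp, mul_one, mul_inv_cancel])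
    have m2 : c ^ m ∈ A := by
      rw [mul_left_cancel ((inv_mul_cancel_right (g * c ^ m) g).symm.trans (hg _ m1))]
      exact m1
    exact (eq_of_le_of_card_ge (zpowers_le.2 m2) (by rw [hA, Nat.card_zpowers, od])).ge.trans
      (zpowers_le.2 (pow_mem (mem_zpowers c) m))

end H91.DGCy2
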