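import Cfsg.Agent.H68.EGCD
import Cfsg.Agent.H54.SpSimple
import Cfsg.Agent.H54.SpBlocks

/-! Tower EG: the linear and the symplectic groups (`JobA`, `JobC`). -/

set_option autoImplicit false
set_option linter.unusedSectionVars false

namespace H91.EG

open H54 H54.BNM H54.CD H64 H33 H61 H83 H68.Gow H68.EG Matrix
open H57 (xA xA_coe)

universe u

theorem conn_of {k : ℕ} {R : Fin k → Fin k → Prop}
    (h : ∀ i j : Fin k, i.val + 1 = j → R i j ∧ R j i) (i j : Fin k) :
    Relation.ReflTransGen R i j := by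
  have key : ∀ (d : ℕ) (i j : Fin k), i.val + d = j →
      Relation.ReflTransGen R i j ∧ Relation.ReflTransGen R j i := fun d => by
    induction d with
    | zero => intro i j e; obtain rfl : i = j := Fin.ext e; exact ⟨.refl, .refl⟩
    | succ d ih =>
      intro i j e
      have h1 := ih i ⟨i + d, by omega⟩ rfl
      have h2 := h ⟨i + d, by omega⟩ j e
      exact ⟨h1.1.tail h2.1, h1.2.head h2.2⟩
  rcases le_total i j with e | e
  exacts [(key (j - i) i j (by omega)).1, (key (i - j) j i (by omega)).2]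

variable {F : Type u} [Field F] [Finite F]

section

variable {J κ : Type*} [Fintype J] [DecidableEq J]

theorem supp_single {wt : J → κ → ℤ} {i j : J} {β : κ → ℤ} (h : wt i - wt j = β) :
    Supp wt (single i j (1 : F)) {β} := fun a b e => by
  by_cases h1 : i = a ∧ j = b
  · rw [← h1.1, ← h1.2]; exact h
  · exact (e (single_apply_of_ne _ _ _ _ _ h1)).elim

theorem xA_lin {i j : J} (h : i ≠ j) (t : F) : (xA i j t).1 = 1 + t • single i j 1 := by
  rw [xA_coe h, smul_single, smul_eq_mul, mul_one]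

theorem xA_inj {i j : J} (h : i ≠ j) {t : F} (e : (xA i j t).1 = 1) : t = 0 := by
  simpa [xA_coe h] using congrFun₂ e i j

end

theorem parA {N : ℕ} {i j : Fin N} (h : i ≠ j) :
    Par (cdSL F N) (xA i j) (Pi.single i 1 - Pi.single j 1) :=
  .of_lin (supp_single rfl) (xA_lin h)

theorem sq_ne (h : 4 ≤ Nat.card F) : ∃ a : F, a ≠ 0 ∧ a ^ 2 ≠ 1 :=
  let ⟨c, h1, _⟩ := exists_unit_ne (F := F) 1 one_pos (.inr ⟨rfl, h⟩)
  ⟨c, c.ne_zero, fun e => h1 (Units.ext e)⟩

theorem torA {N i j : ℕ} (hi : i < N) (hj : j < N) (h : i ≠ j) :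
    ev N i - ev N j ∈ Tor (cdSL F N) := fun d => by
  rw [ev_lt hi, ev_lt hj]
  have ne : (⟨i, hi⟩ : Fin N) ≠ ⟨j, hj⟩ := Fin.ne_of_val_ne h
  exact ⟨emb (pr _ _ ne) (hxD (d : F) d.ne_zero), emb_hxD ne d⟩

theorem jobA : JobA.{u} := by
  intro F _ _ hF N hN
  obtain ⟨k, rfl⟩ : ∃ k, N = k + 1 := ⟨N - 1, by omega⟩
  obtain ⟨e, he, -⟩ := typA (htSL F (k + 1)) (fun a => Or.inr ⟨a, Or.inl rfl⟩) (fun k => ⟨k, rfl⟩)
    rfl (fun h => h) (fun ⟨a, k, h⟩ => single_ne_neg_single a k h) rfl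
  have ne : ∀ i : Fin k, i.castSucc ≠ i.succ := fun i => Fin.castSucc_lt_succ.ne
  have ea : ∀ i : Fin k, aB (k + 1) i = Pi.single i.castSucc 1 - Pi.single i.succ 1 := fun i => by
    rw [single_eq, single_eq]; rfl
  have hr : (cdSL F (k + 1)).IsRoot (ev (k + 1) 0 - ev (k + 1) k) := by
    rw [ev_lt k.succ_pos, ev_lt k.lt_succ_self]
    exact isRoot_sub (fun k => ⟨k, rfl⟩) (by rw [Ne, Fin.mk.injEq]; omega)
  have hl : ∀ i < k, (ev (k + 1) 0 - ev (k + 1) k) ⬝ᵥ aB (k + 1) i =
      (if i = 0 then 1 else 0) + if i + 1 = k then 1 else 0 := fun i hi => by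
    simp only [aB, sub_dotProduct, dotProduct_sub, ev_dot]
    grind
  obtain ⟨a, a0, a1⟩ := sq_ne hF
  refine mod_of_cd hF (htSL F (k + 1)) (n := k - 2) e (fun i => emb (pr _ _ (ne i)))
    (fun i => aB (k + 1) i) (fun i => aB (k + 1) i) (fun i => he i ▸ self_mem_ray _)
    (fun i => by simpa only [emb_upper, ea] using parA (ne i))
    (fun i => by simpa only [emb_lower, ea, neg_sub] using parA (ne i).symm)
    (fun i t h => xA_inj (ne i) (by rw [← emb_upper (ne i), h]; rfl))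
    (fun i => he i ▸ ea i ▸ card_long (D := cdSL F (k + 1)) (single_ne_zero' _) (single_ne_zero' _)
      (by simp [cdSL, CD.comap, cdGL, Pi.single_apply, ne i, (ne i).symm]) fun _ => trivial)
    (fun i c => ea i ▸ emb_hxD (ne i) c)
    (conn_of fun i j h => ⟨.inl ?_, .inl ?_⟩)
    (gen_top_of_perfect _ (htSL_top F _) (H57.sl_commutator_eq_top_of_sq_ne_one a0 a1)
      (comm_of_diagonal fun i _ h => absurd h (single_ne_zero' i)))
    (emb ⟨fun i => ⟨i + 1, by omega⟩, fun i j h => Fin.ext (by simpa using h)⟩)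
    (fun i => ⟨i + 1, by omega⟩) (fun i t => by rw [eU, emb_xA, emb_upper]; rfl)
    (fun i t => by rw [eL, emb_xA, emb_lower]; rfl) (torA k.succ_pos k.lt_succ_self (by omega))
    (fun i => ?_) (fun i => ?_) (fun a b => ?_) (torA (by omega) k.succ_pos one_ne_zero)
    (fun i => ?_) (real_refl hr) (reflH_reflH hr.two_div) (fun a => ?_) (.inl fun i => ?_)
  · rw [aB_dot (by omega) (by omega) (by omega), if_pos (.inl h)]
  · rw [aB_dot (by omega) (by omega) (by omega), if_pos (.inr h)]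
  · rw [he, hl _ i.2]; positivity
  · rw [he, hl _ i.2]
    refine ⟨fun h => ⟨⟨i - 1, ?_⟩, Fin.ext ?_⟩, ?_⟩
    · split_ifs at h <;> omega
    · split_ifs at h <;> simp only <;> omega
    · rintro ⟨j, rfl⟩
      rw [if_neg (by simp), if_neg (by simp only; omega), add_zero]
  · change Int.natAbs (_ ⬝ᵥ (Pi.single a 1 - Pi.single b 1)) + 1 < _
    simp only [single_eq, sub_dotProduct, dotProduct_sub, ev_dot]
    split_ifs <;> omega
  · simp only [aB, sub_dotProduct, dotProduct_sub, ev_dot]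
    split_ifs <;> omega
  · rw [← reflH_dot hr.two_div _ ((cdSL F _).wt a), reflH_self hr.two_div, neg_dotProduct, neg_neg]
  · rw [he, reflH_apply, dotProduct_comm (aB _ _), hl _ (by simp only; omega), if_neg (by simp),
      if_neg (by simp only; omega), add_zero, mul_zero, zero_smul, sub_zero]

variable {m : ℕ}

theorem wt_l (k : Fin m) : (cdSp F m).wt (.inl k) = Pi.single k 1 := rfl

theorem wt_r (k : Fin m) : (cdSp F m).wt (.inr k) = -Pi.single k 1 := rfl

theorem levi_dg {A : GL (Fin m) F} {μ : Fin m → ℤ} {d : Fˣ}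
    (h : A.1 = dg (fun k => Pi.single k 1) μ d) :
    (cdSp F m).ρ (spLevi A) = dg (cdSp F m).wt μ d := by
  change (spLevi A).1 = _
  rw [spLevi_coe, show (A⁻¹).1 = _ from dg_inv (D := cdGL F m) h, h, dg, dg, dg, diagonal_transpose,
    fromBlocks_diagonal]
  congr 1
  funext k
  rcases k with k | k
  · rfl
  · rw [wt_r, dotProduct_neg, ← neg_dotProduct]; rfl

theorem torC (μ : Fin m → ℤ) : μ ∈ Tor (cdSp F m) := fun d =>
  ⟨_, levi_dg (A := ⟨dg (fun k => Pi.single k 1) μ d, dg (fun k => Pi.single k 1) (-μ) d,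
    by rw [← dg_add, add_neg_cancel, dg_zero], by rw [← dg_add, neg_add_cancel, dg_zero]⟩) rfl⟩

/-- The Levi subgroup of type `A`. -/
def lv (F : Type u) [Field F] (m : ℕ) :
    SpecialLinearGroup (Fin m) F →* symplecticGroup (Fin m) F :=
  spLevi.comp SpecialLinearGroup.toGL

theorem parC {i j : Fin m} (h : i ≠ j) :
    Par (cdSp F m) (fun t => lv F m (xA i j t)) (Pi.single i 1 - Pi.single j 1) := by
  refine .of_lin (N := single (.inl i) (.inl j) 1 - single (.inr j) (.inr i) 1)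
    ((supp_single rfl).sub (supp_single (by rw [wt_r, wt_r, wt_l, wt_l]; abel))) fun t => ?_
  change (spLevi (SpecialLinearGroup.toGL (xA i j t))).1 = _
  rw [spLevi_coe, ← map_inv, ← H57.stA_xA.neg h]
  change fromBlocks (xA i j t).1 0 0 (xA i j (-t)).1ᵀ = _
  rw [xA_coe h, xA_coe h]
  ext (a | a) (b | b) <;> simp [single_apply, one_apply, and_comm]
  split_ifs <;> simp

theorem emb_mem (k : Fin m) (A : SL2 F) :
    (emb (pr (Sum.inl k) (Sum.inr k) Sum.inl_ne_inr) A).1 ∈ symplecticGroup (Fin m) F := by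
  refine H57.sl_transvection_induction (fun A => (emb (pr (Sum.inl k) (Sum.inr k) Sum.inl_ne_inr) A).1
    ∈ symplecticGroup (Fin m) F) (by rw [map_one]; exact one_mem _) (fun i j h c => ?_)
    (fun A B h h' => by rw [map_mul]; exact mul_mem h h') A
  rw [← H57.xA_eq h]
  have hs : (single k k c).IsSymm := transpose_single _ _ _
  obtain ⟨rfl, rfl⟩ | ⟨rfl, rfl⟩ := (by decide : ∀ i j : Fin 2, i ≠ j → i = 0 ∧ j = 1 ∨ i = 1 ∧ j = 0)
    i j h
  · rw [← upper_eq, emb_upper, xA_coe Sum.inl_ne_inr]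
    convert (spUpper _ hs).2 using 1
    ext (a | a) (b | b) <;> simp [spUpper_coe, single_apply, one_apply]
  · rw [← lower_eq', emb_lower, xA_coe Sum.inr_ne_inl]
    convert (spLower _ hs).2 using 1
    ext (a | a) (b | b) <;> simp [spLower_coe, single_apply, one_apply]

/-- The long root group `SL₂`. -/
def lg (k : Fin m) : SL2 F →* symplecticGroup (Fin m) F :=
  MonoidHom.mk' (fun A => ⟨_, emb_mem k A⟩) fun A B =>
    Subtype.ext (congrArg (fun x : Matrix.SpecialLinearGroup _ F => x.1) (map_mul (emb _) A B))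

theorem lg_coe (k : Fin m) (A : SL2 F) :
    (cdSp F m).ρ (lg k A) = (emb (pr (Sum.inl k) (Sum.inr k) Sum.inl_ne_inr) A).1 := rfl

theorem exists_φ (i : Fin m) : ∃ φ : SL2 F →* symplecticGroup (Fin m) F,
    Par (cdSp F m) (fun t => φ (upper t)) ((if i.val + 1 < m then 1 else 2 : ℤ) • aB m i) ∧
    Par (cdSp F m) (fun t => φ (lower t)) (-((if i.val + 1 < m then 1 else 2 : ℤ) • aB m i)) ∧
    (∀ t, φ (upper t) = 1 → t = 0) ∧
    (∀ c : Fˣ, (cdSp F m).ρ (φ (hxD (c : F) c.ne_zero)) = dg (cdSp F m).wt (aB m i) c) ∧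
    ∀ j : Fin m, i.val + 1 = j → ∀ t, lv F m (xA i j t) = φ (upper t) ∧
      lv F m (xA j i t) = φ (lower t) := by
  by_cases h : i.val + 1 < m
  · have ne : i ≠ ⟨i + 1, h⟩ := by simp [Fin.ext_iff]
    rw [if_pos h, one_smul, aB, ev_lt h, ← single_eq, neg_sub]
    refine ⟨(lv F m).comp (emb (pr _ _ ne)),
      by simpa only [MonoidHom.comp_apply, emb_upper] using parC ne,
      by simpa only [MonoidHom.comp_apply, emb_lower] using parC ne.symm,
      fun t e => xA_inj ne ?_, fun c => levi_dg (emb_hxD ne c), fun j e t => ?_⟩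
    · rw [← emb_upper ne]
      exact congrArg Units.val (spLevi_injective (e.trans spLevi.map_one.symm))
    · obtain rfl : j = ⟨i + 1, h⟩ := Fin.ext e.symm
      rw [MonoidHom.comp_apply, MonoidHom.comp_apply, emb_upper, emb_lower]
      exact ⟨rfl, rfl⟩
  · rw [if_neg h, aB, ev_ge (not_lt.1 h), sub_zero, ← single_eq]
    refine ⟨lg i, .of_lin (supp_single (i := .inl i) (j := .inr i) (by rw [wt_l, wt_r]; module))
      fun t => by rw [lg_coe, emb_upper, xA_lin Sum.inl_ne_inr],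
      .of_lin (supp_single (i := .inr i) (j := .inl i) (by rw [wt_l, wt_r]; module))
      fun t => by rw [lg_coe, emb_lower, xA_lin Sum.inr_ne_inl],
      fun t e => xA_inj (i := Sum.inl i) (j := Sum.inr i) Sum.inl_ne_inr
        (by rw [← emb_upper Sum.inl_ne_inr, ← lg_coe, e, map_one]),
      fun c => ?_, fun j e => by omega⟩
    rw [lg_coe, emb_hxD, dg, dg]
    congr 1
    funext k
    rcases k with k | k <;> simp [wt_l, wt_r, Pi.single_apply, eq_comm]

theorem jobC : JobC.{u} := by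
  intro F _ _ hF m hm
  obtain ⟨n, rfl⟩ : ∃ n, m = n + 1 := ⟨m - 1, by omega⟩
  have hs := cdSp_short F (n + 1)
  obtain ⟨e, he, -⟩ := typB (htSp F (n + 1)) (fdSp F _).wt_std (fdSp F _).wt_up hs
    (congrArg (htFin _) (if_pos hs))
  choose φ h1 h2 h3 h4 h5 using exists_φ (F := F) (m := n + 1)
  have hl : ∀ i < n + 1, (1 : Fin (n + 1) → ℤ) ⬝ᵥ ev (n + 1) i = 1 := fun i hi => by
    rw [ev_lt hi]; simp
  have hl' : ∀ i : Fin (n + 1), (1 : Fin (n + 1) → ℤ) ⬝ᵥ aB (n + 1) i = if i.val = n then 1 else 0 :=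
    fun i => by
      rw [aB, dotProduct_sub, hl _ i.2]
      split_ifs with h
      · rw [ev_ge (by omega), dotProduct_zero, sub_zero]
      · rw [hl _ (by omega), sub_self]
  refine mod_of_cd (by omega) (htSp F (n + 1)) e φ _ (fun i => aB (n + 1) i)
    (fun i => ⟨if i.val + 1 < n + 1 then 1 else 2, by split_ifs <;> omega, by rw [he]⟩) h1 h2 h3 (fun i => ?_) h4
    (conn_of fun i j h => ⟨?_, ?_⟩)
    (gen_top_of_perfect _ (htSp_top F _) (sp_commutator_eq_top_of_sq (sq_ne (by omega)))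
      (comm_of_diagonal fun i _ h => absurd h (cdSp_wt_ne F _ i)))
    (lv F (n + 1)) Fin.castSucc (fun i t => (h5 i.castSucc i.succ rfl t).1)
    (fun i t => (h5 i.castSucc i.succ rfl t).2) (torC 1) (fun i => ?_) (fun i => ?_) (fun a b => ?_)
    (torC (ev _ 0)) (fun i => ?_) (real_neg_of_short (fdSp F _).wt_up hs Finset.univ)
    (sgnH_sgnH _) (fun a => by rw [sgnH_univ, dotProduct_neg]) (.inr fun i => sgnH_univ _)
  · rw [he]
    by_cases h : i.val + 1 < n + 1
    · exact card_aB (fdSp F _) rfl (fun _ => Iff.rfl) h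
    · have : IsEmpty {k // (fdSp F (n + 1)).wt k = 0} := ⟨fun k => cdSp_wt_ne F _ k.1 k.2⟩
      rw [card_last (fdSp F _) rfl (fun _ => Iff.rfl) hs (by omega),
        Nat.card_of_isEmpty (α := {k // _}), pow_zero, one_mul]
      exact AddSubgroup.card_top
  · rw [dotProduct_smul, aB_dot i.2 j.2 (by omega), if_pos (Or.inl h)]
    split_ifs
    exacts [.inl rfl, .inr ⟨rfl, by omega⟩]
  · rw [dotProduct_smul, aB_dot j.2 i.2 (by omega), if_pos (Or.inr h), if_pos (by omega)]
    exact .inl rfl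
  · rw [he, hl']; positivity
  · rw [he, hl', ite_eq_right_iff, imp_iff_not one_ne_zero, Set.mem_range, Fin.exists_castSucc_eq,
      Ne, Fin.ext_iff, Fin.val_last]
  · have : ∀ a, (1 : Fin (n + 1) → ℤ) ⬝ᵥ (cdSp F (n + 1)).wt a = 1 ∨
        (1 : Fin (n + 1) → ℤ) ⬝ᵥ (cdSp F (n + 1)).wt a = -1 := by
      rintro (a | a) <;> simp [wt_l, wt_r]
    rw [dotProduct_sub]
    have h6 := this a
    have h7 := this b
    omega
  · rw [if_pos (by simp), one_smul]
    simp only [aB, dotProduct_sub, ev_dot, Fin.val_castSucc]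
    grind

end H91.EG
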