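import Cfsg.Agent.H44.DP0EPSpec

/-! S3275, chapter EP, job E2: the dihedral section of `N(S)/S`. -/

set_option autoImplicit false

namespace H91.EPE2

open Subgroup Cfsg H98 H48.DP H57.DPC H48.DP2 H44.EP

universe u

/-- Two elements of order at most two in a group without large dihedral sections. -/
theorem dih {X : Type u} [Group X] [Finite X] (nd : ND X) {a b : X} (ha : a * a = 1)
    (hb : b * b = 1) : a = b ∨ (∃ c, c ≠ 1 ∧ c * c = 1 ∧ Commute a c ∧ Commute b c) ∨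
      ∃ x, orderOf x = 3 ∧ a * x * a⁻¹ = x⁻¹ ∧ Commute (a * b) x := by
  have a' : a⁻¹ = a := inv_eq_of_mul_eq_one_right ha
  have b' : b⁻¹ = b := inv_eq_of_mul_eq_one_right hb
  by_cases h1 : orderOf (a * b) = 1
  · exact .inl (by rw [← b']; exact eq_inv_of_mul_eq_one_left (orderOf_eq_one_iff.1 h1))
  obtain ⟨p, hp, m, hm⟩ := Nat.exists_prime_and_dvd h1
  have m0 : m ≠ 0 := by
    rintro rfl
    exact (orderOf_pos _).ne' hm
  have ox : orderOf ((a * b) ^ m) = p := by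
    rw [orderOf_pow_of_dvd m0 (hm ▸ dvd_mul_left m p), hm, Nat.mul_div_cancel _ (Nat.pos_of_ne_zero m0)]
  have ia : a * (a * b) ^ m * a⁻¹ = ((a * b) ^ m)⁻¹ := by
    rw [← conj_pow, ← inv_pow, mul_inv_rev, ← mul_assoc, ha, one_mul, b']
  have cw : Commute (a * b) ((a * b) ^ m) := (Commute.refl _).pow_right m
  rcases lt_trichotomy p 3 with h | rfl | h
  · obtain rfl : p = 2 := by have := hp.two_le; omega
    have c2 : (a * b) ^ m * (a * b) ^ m = 1 := by rw [← pow_two, ← ox, pow_orderOf_eq_one]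
    have ca : Commute a ((a * b) ^ m) :=
      mul_inv_eq_iff_eq_mul.1 (ia.trans (inv_eq_of_mul_eq_one_right c2))
    refine .inr (.inl ⟨_, fun e => ?_, c2, ca, ?_⟩)
    · rw [e, orderOf_one] at ox
      omega
    · simpa using ca.inv_left.mul_left cw
  · exact .inr (.inr ⟨_, ox, ia, cw⟩)
  · exact absurd ia (nd.not_real hp h ox)

variable {H X : Type*} [Group H] [Group X] [Finite H]

/-- Lifting an element of order three through a 2-group. -/
theorem lift3 (π : H →* X) (hπ : Function.Surjective π) (hk : IsPGroup 2 π.ker) {x : X}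
    (hx : orderOf x = 3) : ∃ (y : H) (k : ℕ), orderOf y = 3 ∧ π y = x ^ k := by
  have : Fact (Nat.Prime 3) := ⟨Nat.prime_three⟩
  obtain ⟨y, rfl⟩ := hπ x
  obtain ⟨k, hk'⟩ := isPGroup_iff_forall.1 hk (y ^ 3)
    (by rw [MonoidHom.mem_ker, map_pow, ← hx, pow_orderOf_eq_one])
  refine ⟨y ^ 2 ^ k, 2 ^ k, orderOf_eq_prime (by rw [← pow_mul, mul_comm, pow_mul, hk']) fun e => ?_,
    map_pow _ _ _⟩
  have := orderOf_dvd_of_pow_eq_one ((map_pow π y _).symm.trans (by rw [e, map_one]))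
  rw [hx] at this
  exact absurd (Nat.prime_three.dvd_of_dvd_pow this) (by decide)

/-- Two lifts of order three are conjugate under the kernel. -/
theorem conj3 (π : H →* X) (hk : IsPGroup 2 π.ker) {y y' : H} (hy : y ^ 3 ^ 1 = 1)
    (hy' : y' ^ 3 ^ 1 = 1) (e : π y' = π y) : ∃ s, π s = 1 ∧ s * y' * s⁻¹ = y := by
  have : Fact (Nat.Prime 3) := ⟨Nat.prime_three⟩
  have : Fact (Nat.Prime 2) := ⟨Nat.prime_two⟩
  have dj : ∀ R : Subgroup H, IsPGroup 3 R → ∀ r ∈ R, π r = 1 → r = 1 := fun R hR r h1 h2 =>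
    (disjoint_def.1 (IsPGroup.disjoint_of_ne 3 2 (by decide) R π.ker hR hk)) h1 h2
  have syl : IsSyl 3 (zpowers y) ((zpowers (π y)).comap π) :=
    ⟨zpowers_le.2 (mem_zpowers (π y)), isPGroup_zpowers hy, fun R hR h1 h2 => le_antisymm
      (fun r hr => by
        obtain ⟨i, hi⟩ := h2 hr
        have := dj R hR ((y ^ i)⁻¹ * r) (R.mul_mem (R.inv_mem (h1 ⟨i, rfl⟩)) hr)
          (by rw [map_mul, map_inv, map_zpow, ← hi, inv_mul_cancel])
        exact ⟨i, inv_mul_eq_one.1 this⟩) h1⟩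
  obtain ⟨g, ⟨i, hi⟩, hg⟩ := syl.exists_cj_le (isPGroup_zpowers hy')
    (zpowers_le.2 (show π y' ∈ zpowers (π y) from e ▸ mem_zpowers _))
  have s1 : π ((y ^ i)⁻¹ * g) = 1 := by rw [map_mul, map_inv, map_zpow, ← hi, inv_mul_cancel]
  have m1 : (y ^ i)⁻¹ * g * y' * ((y ^ i)⁻¹ * g)⁻¹ ∈ zpowers y := by
    have := mul_mem (mul_mem (inv_mem (zpow_mem (mem_zpowers y) i))
      (hg (conj_mem_cj (mem_zpowers y')))) (zpow_mem (mem_zpowers y) i)
    convert this using 1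
    group
  refine ⟨_, s1, mul_inv_eq_one.1 (dj _ (isPGroup_zpowers hy) _
    (mul_mem m1 (inv_mem (mem_zpowers y))) ?_)⟩
  rw [map_mul, map_mul, map_mul π _ y', map_inv, map_inv, s1, e]
  group

theorem jobE2 : E2.{u} := by
  intro e0 G _ _ M Q S hu hS
  have : Fact (Nat.Prime 2) := ⟨Nat.prime_two⟩
  have step : ∀ (A : Subgroup G) (g : G), IsPGroup 2 A → A ≤ M → g ∉ M → cj g A ≤ M →
      ∃ t ∈ M, t ∈ No A ∧ t ∉ A ∧ t * t ∈ A := fun A g hA hAM hg hgA => by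
    obtain ⟨T, hT, hle⟩ := exists_isSyl_le hA hAM
    refine (grow hT.isPGroup (lt_of_le_of_ne hle ?_)).imp fun t ht => ⟨hT.le ht.1, ht.2⟩
    rintro rfl
    obtain ⟨m, hm, h⟩ := hT.exists_cj_le (hA.map _) hgA
    rw [cj_cj] at h
    exact hg ((M.mul_mem_cancel_left hm).1 ((e0 G M Q A hu hT).2 (mem_normalizer_of_cj_le h)))
  have home : ∀ Y : Subgroup G, IsPGroup 2 Y → S ≤ Y → ∀ r ∈ Y, r ∈ M → r ∉ S → Y ≤ M :=
    fun Y hY hSY r h1 h2 h3 => by
      obtain ⟨T, hT⟩ := exists_isSyl 2 M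
      obtain ⟨a, -, ha⟩ := (e0 G M Q T hu hT).1.exists_cj_le hY le_top
      have l : S ≤ Y ⊓ M := le_inf hSY hS.le
      have aM := hS.mx (Y ⊓ M) a (hY.to_le inf_le_left) inf_le_right
        (lt_of_le_of_ne (card_le_of_le l) fun e => h3 (eq_of_le_of_card_ge l e.ge ▸ ⟨h1, h2⟩))
        (((cj_mono a inf_le_left).trans ha).trans hT.le)
      exact (cj_le_iff.1 (ha.trans hT.le)).trans (cj_eq_self_of_mem (M.inv_mem aM)).le
  obtain ⟨g, hg, hgS⟩ := hS.ex
  obtain ⟨t₁, m1, n1, s1, q1⟩ := step S g hS.two hS.le hg hgS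
  obtain ⟨t', m2, n2', s2', q2'⟩ := step (cj g S) g⁻¹ (hS.two.map _) hgS
    (fun e => hg (inv_mem_iff.1 e)) (by rw [cj_inv_cj]; exact hS.le)
  obtain ⟨t₂, rfl⟩ : ∃ t₂, t' = g * t₂ * g⁻¹ := ⟨g⁻¹ * t' * g, by group⟩
  have n2 : t₂ ∈ No S := conj_mem_cj_iff.1 ((cj_normalizer g S).ge n2')
  have s2 : t₂ ∉ S := fun e => s2' (conj_mem_cj e)
  have q2 : t₂ * t₂ ∈ S := conj_mem_cj_iff.1 (by rwa [conj_mul] at q2')
  have tM : t₂ ∉ M := fun e => hg (hS.mx _ g (two_sup hS.two n2 q2)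
    (sup_le hS.le (zpowers_le.2 e)) (card_lt_sup s2) (by
      rw [cj_sup]
      refine sup_le hgS ?_
      rintro _ ⟨_, ⟨i, rfl⟩, rfl⟩
      rw [map_zpow]
      exact zpow_mem m2 i))
  let N := No S
  let π : N →* N ⧸ S.subgroupOf N := QuotientGroup.mk' _
  have hπ : Function.Surjective π := QuotientGroup.mk'_surjective _
  have k1 : ∀ {x : N}, π x = 1 ↔ (x : G) ∈ S := fun {x} => QuotientGroup.eq_one_iff x
  have hk : IsPGroup 2 π.ker := by
    rw [QuotientGroup.ker_mk']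
    exact isPGroup_subgroupOf hS.two _
  have eqM : ∀ {x y : N}, π x = π y → (y : G) ∈ M → (x : G) ∈ M := fun {x y} e h => by
    have : π (x * y⁻¹) = 1 := by rw [map_mul, map_inv, e, mul_inv_cancel]
    simpa using M.mul_mem (hS.le (k1.1 this)) h
  let a : N := ⟨t₁, n1⟩
  let b : N := ⟨t₂, n2⟩
  have ha : π a * π a = 1 := (map_mul π a a).symm.trans (k1.2 q1)
  have hb : π b * π b = 1 := (map_mul π b b).symm.trans (k1.2 q2)
  have pair : ∀ x y : N, π x * π x = 1 → π y * π y = 1 → Commute (π x) (π y) → (x : G) ∈ M →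
      π x ≠ 1 → (y : G) ∈ M := fun x y hx hy c h1 h2 => by
    have p2 : IsPGroup 2 ↥(zpowers (π x) ⊔ zpowers (π y)) :=
      (isPGroup_zpowers (k := 1) (by rw [pow_one, pow_two, hx])).to_sup_of_normal_left'
        (isPGroup_zpowers (k := 1) (by rw [pow_one, pow_two, hy])) (zpowers_le.2
          (mem_normalizer_fintype (by
            rintro _ ⟨i, rfl⟩
            change π y * π x ^ i * (π y)⁻¹ ∈ _
            rw [(c.symm.zpow_right i).eq, mul_inv_cancel_right]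
            exact ⟨i, rfl⟩)))
    refine home (((zpowers (π x) ⊔ zpowers (π y)).comap π).map N.subtype)
      ((p2.comap_of_ker_isPGroup π hk).map _)
      (fun s hs => ⟨⟨s, le_normalizer hs⟩, mem_comap.2 ?_, rfl⟩) x
      ⟨x, mem_sup_left (mem_zpowers _), rfl⟩ h1 (fun e => h2 (k1.2 e))
      ⟨y, mem_sup_right (mem_zpowers _), rfl⟩
    rw [(k1 (x := ⟨s, le_normalizer hs⟩)).2 hs]
    exact one_mem _
  rcases dih ((hu.nd.sub N).quot _) ha hb with e | ⟨c, c1, c2, ca, cb⟩ | ⟨x, x3, xa, xw⟩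
  · exact absurd (eqM e.symm m1) tM
  · obtain ⟨c, rfl⟩ := hπ c
    exact absurd (pair c b c2 hb cb.symm (pair a c ha c2 ca m1 fun e => s1 (k1.1 e)) c1) tM
  obtain ⟨y, k, y3, hy⟩ := lift3 π hπ hk x3
  have y3' : y ^ 3 ^ 1 = 1 := by rw [pow_one, ← y3, pow_orderOf_eq_one]
  obtain ⟨s, hs, e⟩ := conj3 π hk (y' := a * y⁻¹ * a⁻¹) y3'
    (by rw [conj_pow, inv_pow, y3', inv_one, mul_one, mul_inv_cancel]) (by
      rw [map_mul, map_mul, map_inv, map_inv, hy, ← inv_pow, ← conj_pow, ← conj_inv, xa, inv_inv])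
  have y3G : orderOf (y : G) = 3 := (orderOf_coe y).trans y3
  have ts : π (s * a) = π a := by rw [map_mul, hs, one_mul]
  refine ⟨y, (s * a : N), y3G, fun yM => tM ((M.mul_mem_cancel_left m1).1
    (hu.ti y (a * b : N) y3G yM (eqM (x := a * b * y * (a * b)⁻¹) ?_ yM))), y.2, eqM ts m1,
    fun h => s1 (k1.1 (ts ▸ k1.2 h)), (s * a).2, k1.1 ((map_mul π _ _).trans (by rw [ts, ha])), ?_⟩
  · rw [map_mul, map_inv, map_mul π _ y, map_mul, hy, (xw.pow_right k).eq, mul_inv_cancel_right]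
  · have : s * a * y * (s * a)⁻¹ = y⁻¹ := by
      conv_rhs => rw [← e]
      group
    exact congrArg Subtype.val this

end H91.EPE2
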