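import Cfsg.Agent.H68.EaSpec

/-! Tower EA (S4546, S4577): `JobG46`. -/

set_option autoImplicit false

namespace H91.EaG46

open Subgroup H68.EA

universe u

theorem half {N : ℕ} [NeZero N] {a : ZMod N} (h : a + a = 0) (h0 : a ≠ 0) : 2 * a.val = N :=
  ((ZMod.neg_eq_self_iff a).1 (neg_eq_of_add_eq_zero_left h)).resolve_left h0

theorem z2 (b : ZMod 2) : b + b = 0 := by revert b; decide

theorem jobG46 : JobG46.{u} := by
  intro GD GW P _ _ I n hn ⟨e⟩ hI
  obtain ⟨m, rfl⟩ := Nat.exists_eq_add_of_le' hn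
  have cm : ∀ x y : P, x * y = y * x := fun x y => e.injective (by rw [map_mul, map_mul, mul_comm])
  have cP : Nat.card P = 2 ^ (m + 2 + 3) := by
    rw [Nat.card_congr e.toEquiv]
    simp only [Nat.card_eq_fintype_card, Fintype.card_multiplicative, Fintype.card_prod, ZMod.card]
    ring
  have hP : IsPGroup 2 P := IsPGroup.of_card cP
  obtain ⟨Z, V, hD⟩ := GD P I cm hP hI
  refine ⟨cm, cP, ?_⟩
  let f : P → ZMod (2 ^ (m + 2)) := fun x => (e x).toAdd.1
  have fm : ∀ x y, f (x * y) = f x + f y := fun x y => by simp [f]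
  have f1 : f 1 = 0 := by simp [f]
  have sq : ∀ x y : P, f x + f x = f y + f y → x * x = y * y := fun x y h => e.injective (by
    rw [map_mul, map_mul]
    refine Multiplicative.toAdd.injective (Prod.ext h (Prod.ext ?_ (Prod.ext ?_ ?_))) <;>
      simp only [toAdd_mul, Prod.snd_add, Prod.fst_add, z2])
  have k1 : ∀ x : P, x * x * (x * x) = 1 → x * x ≠ 1 → 2 * (f x + f x).val = 2 ^ (m + 2) :=
    fun x h h0 => half (by rw [← fm, ← fm, h, f1]) fun k => h0 (by
      rw [sq x 1 (by rw [k, f1, add_zero]), mul_one])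
  have k2 : ∀ x : P, x * x * (x * x) = 1 → x * x ∈ Z := fun x h => (hD.fix _).2 fun α _ => by
    by_cases h0 : x * x = 1
    · rw [h0, map_one]
    rw [map_mul]
    refine sq _ _ (ZMod.val_injective _ ?_)
    have a := k1 x h h0
    have b := k1 (α x) (by rw [← map_mul, ← map_mul, h, map_one])
      (by rw [← map_mul]; exact fun k => h0 (α.injective (k.trans (map_one α).symm)))
    omega
  have bot : ∀ x ∈ Z, x ∈ V → x = 1 := fun x h h' => mem_bot.1 (hD.inf ▸ (⟨h, h'⟩ : x ∈ Z ⊓ V))
  have k3 : ∀ k : ℕ, ∀ v ∈ V, v ^ 2 ^ (k + 1) = 1 → v * v = 1 := fun k => by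
    induction k with
    | zero => intro v _ h; simpa [pow_two] using h
    | succ k ih =>
      intro v hv h
      exact bot _ (k2 v (ih _ (mul_mem hv hv) (by rw [← pow_two, ← pow_mul, ← pow_succ', h])))
        (mul_mem hv hv)
  have k4 : ∀ v ∈ V, v * v = 1 := fun v hv => k3 (m + 4) v hv (by rw [← cP]; exact pow_card_eq_one')
  have cV : Nat.card V ≤ 8 := by
    refine (Nat.card_le_card_of_injective (fun v : V => (e v).toAdd.2) fun v w h => ?_).trans (by simp)
    have hy := mul_mem v.2 w.2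
    have h2 : (e (v * w)).toAdd.2 = 0 := by
      have h' : (e v).toAdd.2 = (e w).toAdd.2 := h
      rw [map_mul, toAdd_mul, Prod.snd_add, h']
      exact Prod.ext (z2 _) (Prod.ext (z2 _) (z2 _))
    have h3 : v.1 * w.1 = 1 := by
      by_contra h0
      have h4 := half (a := f (v * w)) (by rw [← fm, k4 _ hy, f1]) fun k =>
        h0 (e.injective (Multiplicative.toAdd.injective (by
          rw [map_one, toAdd_one]; exact Prod.ext k h2)))
      have h5 : (f (v * w)).val = 2 ^ m + 2 ^ m := by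
        have h7 : 2 * (f (v * w)).val = 2 * (2 ^ m + 2 ^ m) := h4.trans (by ring)
        exact Nat.eq_of_mul_eq_mul_left two_pos h7
      have h6 : e.symm (Multiplicative.ofAdd (((2 ^ m : ℕ) : ZMod (2 ^ (m + 2))), 0)) *
          e.symm (Multiplicative.ofAdd (((2 ^ m : ℕ) : ZMod (2 ^ (m + 2))), 0)) = v * w :=
        e.injective (Multiplicative.toAdd.injective (by
          rw [map_mul, MulEquiv.apply_symm_apply, toAdd_mul, toAdd_ofAdd]
          refine Prod.ext ?_ (by rw [h2]; simp)
          change _ = f (v * w)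
          rw [← ZMod.natCast_zmod_val (f (v * w)), h5, Nat.cast_add]
          rfl))
      exact h0 (bot _ (h6 ▸ k2 _ (by rw [h6, k4 _ hy])) hy)
    exact Subtype.ext (by rw [eq_inv_of_mul_eq_one_left h3, inv_eq_of_mul_eq_one_right (k4 _ w.2)])
  refine (GW P I Z V cm hP hI hD cV).imp id fun ⟨u, hu, h⟩ => ⟨Z, V, u, hu, h.imp id fun h8 => ⟨h8, ?_⟩⟩
  have nV : V.Normal := ⟨fun a ha g => by rwa [cm g, mul_inv_cancel_right]⟩
  have cZ : Nat.card Z = 2 ^ (m + 2) := by
    have := (isComplement'_of_disjoint_and_mul_eq_univ (H := Z) (K := V) (disjoint_iff.2 hD.inf)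
      (by rw [← mul_normal, hD.sup, coe_top])).card_mul
    rw [h8, cP, pow_add _ _ 3] at this
    omega
  obtain ⟨z, hz, v, hv, hg⟩ := mem_sup_of_normal_right.1
    (hD.sup ▸ mem_top (e.symm (Multiplicative.ofAdd (1, 0))))
  have fz : f z + f z = 2 := by
    have a : f (z * v) = 1 := by rw [hg]; simp [f]
    have b : f v + f v = 0 := by rw [← fm, k4 v hv, f1]
    rw [fm] at a
    linear_combination 2 * a - b
  have fp : ∀ k : ℕ, f (z ^ k) = k * f z := fun k => by simp [f]
  have oz : orderOf z = 2 ^ (m + 1 + 1) := orderOf_eq_prime_pow (fun k => by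
    have a := fp (2 ^ (m + 1))
    rw [k, f1] at a
    have b : ((2 ^ (m + 1) : ℕ) : ZMod (2 ^ (m + 2))) = 0 := by
      push_cast at a ⊢
      linear_combination -a - 2 ^ m * fz
    rw [ZMod.natCast_eq_zero_iff, Nat.pow_dvd_pow_iff_le_right one_lt_two] at b
    omega) (by
      rw [← cZ]
      exact congrArg Subtype.val (pow_card_eq_one' (x := (⟨z, hz⟩ : Z))))
  exact ⟨z, (eq_of_le_of_card_ge (zpowers_le.2 hz) (by rw [Nat.card_zpowers, oz, cZ])).symm⟩

end H91.EaG46
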