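import Cfsg.Agent.H23.NDSpec

/-! ND tower (S4780): `JobStep`. -/

set_option autoImplicit false
set_option linter.unusedSectionVars false
open Cfsg H28 H32 H44 H93.DG H55.Nd MulAction H23.ND

namespace H91.NDStep

universe u

theorem le_center {G : Type u} [Group G] [Finite G] {χ : G → ℂ} (hχ : IsIrrCharacter G χ)
    {Z : Subgroup G} (h0 : ∀ g, g ∉ Z → χ g = 0) (hd : charDegree χ ^ 2 = Z.index) :
    Z ≤ charCenter χ := by
  classical
  cases nonempty_fintype G
  have h1 := hχ.sum_norm_sq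
  have hr : (χ 1).re = charDegree χ := by rw [← hχ.cast_charDegree, Complex.natCast_re]
  rw [← Finset.sum_filter_add_sum_filter_not Finset.univ (fun g => g ∈ Z),
    Finset.sum_eq_zero (s := Finset.univ.filter fun g => g ∉ Z) fun g hg => by
      simp [h0 g (by simpa using hg)], add_zero,
    Finset.sum_subtype (p := (· ∈ Z)) _ (by simp), ← Z.card_mul_index, ← hd] at h1
  have h2 : ∑ z : Z, ((χ 1).re ^ 2 - ‖χ z‖ ^ 2) = 0 := by
    rw [Finset.sum_sub_distrib, h1, hr]; simp
  intro z hz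
  have h3 := (Finset.sum_eq_zero_iff_of_nonneg fun (z : Z) _ => sub_nonneg.2
    (pow_le_pow_left₀ (norm_nonneg _) (hχ.isCharacter.norm_le (z : G)) 2)).1 h2 ⟨z, hz⟩
    (Finset.mem_univ _)
  exact hχ.mem_charCenter.2 ((pow_left_inj₀ (norm_nonneg _) (by rw [hr]; positivity) two_ne_zero).1
    (sub_eq_zero.1 h3).symm)

theorem jobStep (LP : JobLP.{u}) : JobStep.{u} := by
  intro G _ _ p N A Z T hN _ hZ h q b f zN aN zA nT q1 hq hcd hcl x hx hT
  have hM : (⁅Z, N⁆ : Subgroup G).Normal := inferInstance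
  refine (LP G N ⁅Z, N⁆ T h b.gen (Subgroup.commutator_le_right _ _) nT (fun ψ hψ hi => ?_) x
    (zN hx)).1 ?_
  · by_cases hk : Kr A ψ
    · exact fun y hy => hk (zA hy)
    have h0 : ∀ g : N, g ∉ Z.subgroupOf N → ψ g = 0 := fun g hg => (hcl g g.2 hg).van g.2 hψ hk
    have h1 : q ∣ charDegree ψ := by
      have := index_dvd_sq_of_vanish hψ (Z.subgroupOf N) h0
      rwa [← Subgroup.relIndex, ← hq, Nat.pow_dvd_pow_iff two_ne_zero] at this
    obtain ⟨m, hm⟩ := h1
    obtain ⟨k, hk'⟩ := Subgroup.index_dvd_of_le hi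
    have h2 : k * m = 1 := b.nd.mul hcd (f.dd ψ hψ) (fun e => q1 (Nat.eq_one_of_mul_eq_one_right e))
      (dvd_of_eq (by rw [DD, hm, hk']; ring))
    have h3 := le_center hψ h0 (by
      rw [hm, Nat.eq_one_of_mul_eq_one_left h2, mul_one, hq]; rfl)
    have h4 : ⁅Z, N⁆ ≤ (charKer ψ).map N.subtype := Subgroup.commutator_le.2 fun z hz n hn =>
      ⟨_, hψ.isClassFunction.commutator_mem_charKer (h3 (x := ⟨z, zN hz⟩) hz) ⟨n, hn⟩, rfl⟩
    intro y hy
    obtain ⟨w, hw, e⟩ := h4 hy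
    exact (Subtype.ext e : w = y) ▸ hw
  · rintro g ⟨a, ha, y, hy, e⟩
    refine hT g ?_
    have h1 := inv_mem (Subgroup.commutator_mem_commutator hx ha)
    have h2 := hM.conj_mem _ hy (x * a)
    rw [e]
    convert mul_mem h1 h2 using 1
    simp only [commutatorElement_def]
    group

end H91.NDStep
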