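/- Pronormality of subgroups of odd index: general lemmas. -/
import Cfsg.Agent.H98.Sylow
import Cfsg.Agent.S3820

set_option autoImplicit false

namespace H91

open Subgroup H98 Cfsg

section
variable {G G' : Type*} [Group G] [Group G']

/-- Every subgroup of odd index is pronormal. -/
def PN (G : Type*) [Group G] : Prop := ∀ H : Subgroup G, Odd H.index → IsPronormal H

theorem pronormal_map {H : Subgroup G} (h : IsPronormal H) (f : G →* G')
    (hf : Function.Surjective f) : IsPronormal (H.map f) := by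
  intro g
  obtain ⟨g, rfl⟩ := hf g
  obtain ⟨x, hx, e⟩ := h g
  refine ⟨f x, ?_, ?_⟩
  · change f x ∈ H.map f ⊔ cj (f g) (H.map f)
    rw [← map_cj, ← Subgroup.map_sup]
    exact mem_map_of_mem f hx
  · change cj (f g) (H.map f) = cj (f x) (H.map f)
    rw [← map_cj, ← map_cj, show cj g H = cj x H from e]

theorem PN.of_surj (h : PN G) (f : G →* G') (hf : Function.Surjective f) : PN G' := by
  intro H hH
  rw [← map_comap_eq_self_of_surjective hf H]
  exact pronormal_map (h _ (by rwa [index_comap_of_surjective _ hf])) f hf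

theorem pronormal_of_isSyl [Finite G] {p : ℕ} [Fact p.Prime] {S : Subgroup G}
    (hS : IsSyl p S ⊤) : IsPronormal S := fun g => by
  obtain ⟨x, hx, e⟩ := (hS.of_le (K := S ⊔ cj g S) le_sup_left le_top).exists_cj_eq
    ((hS.cj_of_mem (mem_top g)).of_le le_sup_right le_top)
  exact ⟨x, hx, e.symm⟩

theorem exists_cj_ge [Finite G] {p : ℕ} [Fact p.Prime] {S H : Subgroup G} (hS : IsSyl p S ⊤)
    (hH : ¬ p ∣ H.index) : ∃ c, S ≤ cj c H := by
  obtain ⟨T, hT⟩ := exists_isSyl p H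
  have hT' : IsSyl p T ⊤ := isSyl_of_not_dvd_relIndex le_top hT.isPGroup (by
    rw [relIndex_top_right, ← relIndex_mul_index hT.le]
    exact fun h => ((Nat.Prime.dvd_mul Fact.out).1 h).elim hT.not_dvd_relIndex hH)
  obtain ⟨c, -, e⟩ := hT'.exists_cj_eq hS
  exact ⟨c, e ▸ cj_mono c hT.le⟩

/-- Criterion through the normaliser of a Sylow subgroup. -/
theorem pn_of_isSyl [Finite G] {S : Subgroup G} (hS : IsSyl 2 S ⊤)
    (h : ∀ H, S ≤ H → ∀ g ∈ normalizer (S : Set G), ∃ w ∈ H ⊔ cj g H, cj g H = cj w H) : PN G := by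
  intro H hH
  obtain ⟨c, hc⟩ := exists_cj_ge hS (Nat.two_dvd_ne_zero.2 (Nat.odd_iff.1 hH))
  have := pronormal_map ((Agent.S3820.result S _ hc (pronormal_of_isSyl hS)).2 (h _ hc))
    (MulAut.conj c⁻¹).toMonoidHom (MulAut.conj c⁻¹).surjective
  rwa [show (cj c H).map (MulAut.conj c⁻¹).toMonoidHom = H from cj_inv_cj c H] at this

theorem isSyl_of_norm [Finite G] {p : ℕ} [Fact p.Prime] {S B : Subgroup G} (hS : IsPGroup p S)
    (hB : S ≤ B) (h : ∀ g ∈ B, g ∈ normalizer (S : Set G) → (∃ k : ℕ, g ^ p ^ k = 1) → g ∈ S) :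
    IsSyl p S B := by
  refine isSyl_of_isSyl_normalizer ⟨le_inf hB le_normalizer, hS, fun Q hQ h1 h2 => ?_⟩
  exact le_antisymm (fun x hx => h x (h2 hx).1 (h2 hx).2 (isPGroup_iff_forall.1 hQ x hx)) h1

theorem pn_of_selfnorm [Finite G] {S : Subgroup G} (hS : IsPGroup 2 S)
    (h : ∀ g, (∀ s ∈ S, g * s * g⁻¹ ∈ S) → g ∈ S) : PN G :=
  pn_of_isSyl (isSyl_of_norm hS le_top fun g _ hg _ =>
      h g fun _ hs => conj_mem_of_mem_normalizer hg hs) fun H hH g hg =>
    ⟨1, one_mem _, by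
      rw [cj_one, cj_eq_self_of_mem (hH (h g fun _ hs => conj_mem_of_mem_normalizer hg hs))]⟩

/-- Sylow `2`-normaliser data: `N(S) = S ⟨x⟩` with `x ^ 3 = 1`. -/
structure Tri3 (S : Subgroup G) (x : G) : Prop where
  two : IsPGroup 2 S
  cube : x ^ 3 = 1
  nor : ∀ s ∈ S, x * s * x⁻¹ ∈ S
  cases : ∀ g, (∀ s ∈ S, g * s * g⁻¹ ∈ S) → g ∈ S ∨ x⁻¹ * g ∈ S ∨ x * g ∈ S
  key : ∀ H, S ≤ H → x ∈ H ⊔ cj x H ∨ cj x H = H

namespace Tri3
variable [Finite G] {S : Subgroup G} {x : G} (h : Tri3 S x)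
include h

theorem mem_nor : x ∈ normalizer (S : Set G) :=
  mem_normalizer_of_cj_le fun s hs => by
    obtain ⟨t, ht, rfl⟩ := hs
    exact h.nor t ht

theorem exists_eq {g : G} (hg : g ∈ normalizer (S : Set G)) :
    ∃ e : ℤ, (e = 0 ∨ e = 1 ∨ e = -1) ∧ ∃ s ∈ S, g = x ^ e * s := by
  rcases h.cases g fun _ hs => conj_mem_of_mem_normalizer hg hs with h1 | h1 | h1
  · exact ⟨0, by simp, g, h1, by simp⟩
  · exact ⟨1, by simp, _, h1, by simp⟩
  · exact ⟨-1, by simp, _, h1, by simp⟩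

/-- An overgroup of `S` contains `x` as soon as it contains an element of `N(S) \ S`. -/
theorem mem_of_mem {K : Subgroup G} (hK : S ≤ K) {g : G} (hg : g ∈ normalizer (S : Set G))
    (hgK : g ∈ K) (hS : g ∉ S) : x ∈ K := by
  obtain ⟨e, he, s, hs, rfl⟩ := h.exists_eq hg
  have := (K.mul_mem_cancel_right (hK hs)).1 hgK
  rcases he with rfl | rfl | rfl
  · exact absurd (by simpa using hs) hS
  · simpa using this
  · simpa using this

theorem isSyl : IsSyl 2 S ⊤ := by
  refine isSyl_of_norm h.two le_top fun g _ hg ⟨k, hk⟩ => ?_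
  haveI : (S.subgroupOf (normalizer (S : Set G))).Normal := normal_in_normalizer
  have h3 : g ^ 3 ∈ S := by
    obtain ⟨e, -, s, hs, rfl⟩ := h.exists_eq hg
    have hx := h.mem_nor
    have e1 : ((⟨x ^ e * s, hg⟩ : normalizer (S : Set G)) :
        normalizer (S : Set G) ⧸ S.subgroupOf (normalizer (S : Set G))) =
        ((⟨x, hx⟩ : normalizer (S : Set G)) : _ ⧸ S.subgroupOf (normalizer (S : Set G))) ^ e := by
      rw [← QuotientGroup.mk_zpow, eq_comm, QuotientGroup.eq, mem_subgroupOf]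
      simpa using hs
    have e2 : (((⟨x ^ e * s, hg⟩ : normalizer (S : Set G)) ^ 3 : normalizer (S : Set G)) :
        normalizer (S : Set G) ⧸ S.subgroupOf (normalizer (S : Set G))) = 1 := by
      rw [QuotientGroup.mk_pow, e1, ← zpow_natCast, ← zpow_mul, mul_comm, zpow_mul, zpow_natCast,
        ← QuotientGroup.mk_pow, show ((⟨x, hx⟩ : normalizer (S : Set G)) ^ 3) = 1 from
          Subtype.ext h.cube]
      simp
    rwa [QuotientGroup.eq_one_iff, mem_subgroupOf] at e2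
  have hc : Nat.Coprime 3 (orderOf g) :=
    ((Nat.coprime_primes Nat.prime_three Nat.prime_two).2 (by norm_num)).pow_right k
      |>.coprime_dvd_right (orderOf_dvd_of_pow_eq_one hk)
  obtain ⟨m, hm⟩ := exists_pow_eq_self_of_coprime hc
  exact hm ▸ pow_mem h3 m

theorem step {H : Subgroup G} (hH : S ≤ H) {g : G} (hg : g ∈ normalizer (S : Set G)) :
    ∃ w ∈ H ⊔ cj g H, cj g H = cj w H := by
  obtain ⟨e, he, s, hs, rfl⟩ := h.exists_eq hg
  rw [← cj_cj, cj_eq_self_of_mem (hH hs)]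
  rcases he with rfl | rfl | rfl
  · exact ⟨1, one_mem _, by rw [zpow_zero]⟩
  · rw [zpow_one]
    rcases h.key H hH with h1 | h1
    · exact ⟨x, h1, rfl⟩
    · exact ⟨1, one_mem _, by rw [h1, cj_one]⟩
  · rw [zpow_neg_one]
    have h0 : S ≤ cj x⁻¹ H := by
      rw [← cj_eq_self (inv_mem h.mem_nor)]; exact cj_mono _ hH
    rcases h.key _ h0 with h1 | h1 <;> rw [cj_cj_inv] at h1
    · exact ⟨x⁻¹, inv_mem (by rwa [sup_comm] at h1), rfl⟩
    · exact ⟨1, one_mem _, by rw [← h1, cj_one]⟩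

theorem pn : PN G := pn_of_isSyl h.isSyl fun _ hH _ hg => h.step hH hg

theorem comm_mem {a b : G} (ha : a ∈ normalizer (S : Set G)) (hb : b ∈ normalizer (S : Set G)) :
    a * b * a⁻¹ * b⁻¹ ∈ S := by
  obtain ⟨e, -, s, hs, rfl⟩ := h.exists_eq ha
  obtain ⟨f, -, t, ht, rfl⟩ := h.exists_eq hb
  have hx := h.mem_nor
  have e1 : x ^ e * s * (x ^ f * t) * (x ^ e * s)⁻¹ * (x ^ f * t)⁻¹ =
      (x ^ e * s * (x ^ e)⁻¹) * (x ^ (e + f) * (t * s⁻¹) * (x ^ (e + f))⁻¹) *
        (x ^ f * t⁻¹ * (x ^ f)⁻¹) := by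
    group
  rw [e1]
  exact mul_mem (mul_mem (conj_mem_of_mem_normalizer (zpow_mem hx e) hs)
    (conj_mem_of_mem_normalizer (zpow_mem hx _) (mul_mem ht (inv_mem hs))))
    (conj_mem_of_mem_normalizer (zpow_mem hx _) (inv_mem ht))

end Tri3

theorem tri3_one {S : Subgroup G} (hS : IsPGroup 2 S)
    (h : ∀ g, (∀ s ∈ S, g * s * g⁻¹ ∈ S) → g ∈ S) : Tri3 S 1 :=
  ⟨hS, one_pow _, fun s hs => by simpa using hs, fun g hg => Or.inl (h g hg),
    fun _ _ => Or.inl (one_mem _)⟩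

end

/-- Direct products. -/
theorem pn_pi {ι : Type*} [Finite ι] {G : ι → Type*} [∀ i, Group (G i)] [∀ i, Finite (G i)]
    (h : ∀ i, ∃ (S : Subgroup (G i)) (x : G i), Tri3 S x) : PN (Π i, G i) := by
  classical
  choose S x h using h
  have hn : ∀ g ∈ normalizer ((pi Set.univ S : Subgroup (Π i, G i)) : Set (Π i, G i)), ∀ i,
      g i ∈ normalizer (S i : Set (G i)) := fun g hg i => mem_normalizer_of_cj_le fun s hs => by
    obtain ⟨t, ht, rfl⟩ := hs
    have := conj_mem_of_mem_normalizer hg ((mulSingle_mem_pi (I := Set.univ) i t).2 fun _ => ht) i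
      trivial
    simpa using this
  have hS : IsSyl 2 (pi Set.univ S) ⊤ := by
    refine isSyl_of_norm (isPGroup_iff_forall.2 fun g hg => ?_) le_top fun g _ hg ⟨k, hk⟩ i _ => ?_
    · choose k hk using fun i => isPGroup_iff_forall.1 (h i).two _ (hg i trivial)
      obtain ⟨N, hN⟩ := Finite.exists_le k
      refine ⟨N, funext fun i => ?_⟩
      obtain ⟨d, hd⟩ := Nat.exists_eq_add_of_le (hN i)
      rw [Pi.pow_apply, hd, pow_add, pow_mul, hk, one_pow, Pi.one_apply]
    · exact (h i).isSyl.le_of_le_normalizer' (isPGroup_zpowers (congrFun hk i)) le_top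
        (zpowers_le.2 (hn g hg i)) (mem_zpowers _)
  refine pn_of_isSyl hS fun H hH g hg => ?_
  have key : ∀ i, ∃ w : G i, Pi.mulSingle i w ∈ H ⊔ cj g H ∧
      Pi.mulSingle i (w⁻¹ * g i) ∈ normalizer (H : Set (Π i, G i)) := by
    intro i
    set A := H.comap (MonoidHom.mulSingle G i) with hA
    set B := H.map (Pi.evalMonoidHom G i) with hB
    have hSA : S i ≤ A := fun s hs => hH ((mulSingle_mem_pi i s).2 fun _ => hs)
    have hAB : A ≤ B := fun a ha => ⟨_, ha, by simp⟩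
    have hc : ∀ (y : Π i, G i) (a : G i),
        y * Pi.mulSingle i a * y⁻¹ = Pi.mulSingle i (y i * a * (y i)⁻¹) := fun y a => by
      ext j; by_cases hj : j = i
      · subst hj; simp
      · simp [hj]
    have hBA : B ≤ normalizer (A : Set (G i)) := by
      rintro _ ⟨y, hy, rfl⟩
      refine mem_normalizer_of_cj_le ?_
      rintro _ ⟨a, ha, rfl⟩
      have := mul_mem (mul_mem hy ha) (inv_mem hy)
      rwa [MonoidHom.mulSingle_apply, hc] at this
    have hfr : ∀ b ∈ B, ∃ n ∈ normalizer (S i : Set (G i)), ∃ a ∈ A, b = n * a := fun b hb =>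
      ((h i).isSyl.of_le hSA le_top).frattini_mem (hBA hb)
    have hnor : ∀ n : G i, (∀ b ∈ B, n * b * n⁻¹ * b⁻¹ ∈ A) →
        Pi.mulSingle i n ∈ normalizer (H : Set (Π i, G i)) := fun n hn' => by
      refine mem_normalizer_of_cj_le ?_
      rintro _ ⟨y, hy, rfl⟩
      have e : (MulAut.conj (Pi.mulSingle i n : Π i, G i)).toMonoidHom y =
          Pi.mulSingle i (n * y i * n⁻¹ * (y i)⁻¹) * y := by
        ext j; by_cases hj : j = i
        · subst hj; simp
        · simp [hj]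
      rw [e]
      exact mul_mem (hn' _ ⟨y, hy, rfl⟩) hy
    by_cases hx : x i ∈ B
    · refine ⟨1, by simp, hnor _ fun b hb => ?_⟩
      rw [inv_one, one_mul]
      obtain ⟨n, hn', a, ha, rfl⟩ := hfr b hb
      have hg' : g i ∈ B := by
        obtain ⟨e, -, s, hs, e1⟩ := (h i).exists_eq (hn g hg i)
        exact e1 ▸ mul_mem (zpow_mem hx e) (hAB (hSA hs))
      have hn2 : n ∈ B := (B.mul_mem_cancel_right (hAB ha)).1 hb
      have e : g i * (n * a) * (g i)⁻¹ * (n * a)⁻¹ = (g i * n * (g i)⁻¹ * n⁻¹) *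
          ((n * g i) * a * (n * g i)⁻¹) * (n * a⁻¹ * n⁻¹) *
          ((n * a * n⁻¹) * ((n * g i * n⁻¹ * (g i)⁻¹)⁻¹ * (n * g i * n⁻¹ * (g i)⁻¹)) *
            (n * a * n⁻¹)⁻¹) := by group
      rw [e, inv_mul_cancel, mul_one, mul_inv_cancel, mul_one]
      exact mul_mem (mul_mem (hSA ((h i).comm_mem (hn g hg i) hn'))
        (conj_mem_of_mem_normalizer (hBA (mul_mem hn2 hg')) ha))
        (conj_mem_of_mem_normalizer (hBA hn2) (inv_mem ha))
    · have hBA' : B ≤ A := fun b hb => by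
        obtain ⟨n, hn', a, ha, rfl⟩ := hfr b hb
        refine mul_mem (hSA ?_) ha
        by_contra hnS
        exact hx ((h i).mem_of_mem (hSA.trans hAB) hn'
          ((B.mul_mem_cancel_right (hAB ha)).1 hb) hnS)
      obtain ⟨w, hw, e⟩ := (h i).step hSA (hn g hg i)
      refine ⟨w, ?_, hnor _ fun b hb => mul_mem (conj_mem_of_mem_normalizer (cj_eq_self_iff.1 ?_)
        (hBA' hb)) (inv_mem (hBA' hb))⟩
      · refine (sup_le (fun a ha => mem_sup_left ha) ?_ :
          A ⊔ cj (g i) A ≤ (H ⊔ cj g H).comap (MonoidHom.mulSingle G i)) hw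
        rintro _ ⟨a, ha, rfl⟩
        refine mem_sup_right ⟨_, ha, ?_⟩
        exact hc g a
      · rw [← cj_cj, e, cj_inv_cj]
  choose w hw hw' using key
  refine ⟨w, pi_mem_of_mulSingle_mem w hw, ?_⟩
  have := cj_eq_self (pi_mem_of_mulSingle_mem (w⁻¹ * g) hw')
  conv_rhs => rw [← this, cj_cj, mul_inv_cancel_left]

end H91
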