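/- Pronormality in extensions. -/
import Cfsg.Agent.H91.PrnBase

set_option autoImplicit false

namespace H91

open Subgroup H98 Cfsg

variable {G G' : Type*} [Group G] [Group G']

/-- `H` and `g H g⁻¹` are conjugate in their join. -/
def PR (H : Subgroup G) (g : G) : Prop := ∃ x ∈ H ⊔ cj g H, cj g H = cj x H

theorem PR.red {H : Subgroup G} {g x n : G} (hx : x ∈ H ⊔ cj g H)
    (hn : n ∈ normalizer (H : Set G)) (h : PR H (x⁻¹ * g * n)) : PR H g := by
  obtain ⟨w, hw, e⟩ := h
  rw [← cj_cj, cj_eq_self hn, ← cj_cj] at hw e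
  refine ⟨x * w, mul_mem hx ((sup_le le_sup_left ?_ : _ ≤ H ⊔ cj g H) hw), ?_⟩
  · exact cj_le_of_le_of_mem le_sup_right (inv_mem hx)
  · rw [← cj_cj, ← e, cj_cj_inv]

theorem pr_map_iff {f : G →* G'} (hf : Function.Injective f) {H : Subgroup G} {g : G} :
    PR (H.map f) (f g) ↔ PR H g := by
  unfold PR
  rw [← map_cj, ← Subgroup.map_sup]
  constructor
  · rintro ⟨_, ⟨x, hx, rfl⟩, e⟩
    exact ⟨x, hx, map_injective hf (by rw [e, map_cj])⟩
  · rintro ⟨x, hx, e⟩
    exact ⟨f x, mem_map_of_mem f hx, by rw [e, map_cj]⟩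

theorem pr_subgroupOf {H N : Subgroup G} (h : H ≤ N) (g : N) :
    PR (H.subgroupOf N) g ↔ PR H g.1 := by
  rw [← pr_map_iff N.subtype_injective, map_subgroupOf_eq_of_le h, coe_subtype]

theorem comap_cj (f : G →* G') (g : G) (K : Subgroup G') :
    (cj (f g) K).comap f = cj g (K.comap f) := by
  ext x
  rw [mem_comap, mem_cj, mem_cj, mem_comap, map_mul, map_mul, map_inv]

theorem PR.of_map {f : G →* G'} {H : Subgroup G} {g : G} (h : PR (H.map f) (f g)) :
    ∃ x ∈ H ⊔ cj g H, f (x⁻¹ * g) ∈ normalizer ((H.map f : Subgroup G') : Set G') := by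
  obtain ⟨y, hy, e⟩ := h
  rw [← map_cj, ← Subgroup.map_sup] at hy
  obtain ⟨x, hx, rfl⟩ := hy
  exact ⟨x, hx, cj_eq_self_iff.1 (by rw [map_mul, map_inv, ← cj_cj, e, cj_inv_cj])⟩

theorem PR.of_map_ker {f : G →* G'} {H : Subgroup G} (hk : f.ker ≤ H) {g : G}
    (h : PR (H.map f) (f g)) : PR H g := by
  obtain ⟨x, hx, h1⟩ := h.of_map
  have h2 := congrArg (comap f) (cj_eq_self h1)
  rw [comap_cj, comap_map_eq_self hk, ← cj_cj] at h2
  exact ⟨x, hx, by conv_rhs => rw [← h2, cj_cj_inv]⟩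

section

variable [Finite G] {p : ℕ} [Fact p.Prime]

theorem exists_isSyl_top {J H : Subgroup G} (hH : ¬ p ∣ H.index) (hJ : IsPGroup p J)
    (hJH : J ≤ H) : ∃ S, IsSyl p S ⊤ ∧ J ≤ S ∧ S ≤ H := by
  obtain ⟨T, hT, hJT⟩ := exists_isSyl_le hJ hJH
  refine ⟨T, isSyl_of_not_dvd_relIndex le_top hT.isPGroup ?_, hJT, hT.le⟩
  rw [relIndex_top_right, ← relIndex_mul_index hT.le]
  exact fun h => ((Nat.Prime.dvd_mul Fact.out).1 h).elim hT.not_dvd_relIndex hH

theorem exists_sylow_le_iff {K : Subgroup G} :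
    (∃ P : Sylow p G, (P : Subgroup G) ≤ K) ↔ ¬ p ∣ K.index := by
  refine ⟨fun ⟨P, hP⟩ h => P.not_dvd_index (h.trans (index_dvd_of_le hP)), fun h => ?_⟩
  obtain ⟨S, hS, -, h1⟩ := exists_isSyl_top h IsPGroup.of_bot bot_le
  exact ⟨hS.toSylowTop, h1⟩

theorem le_nor_of_isSyl {A T S : Subgroup G} [A.Normal] (hT : IsSyl p T A) (hS : IsPGroup p S)
    (h : T ≤ S) : S ≤ normalizer (T : Set G) := by
  rw [← hT.eq_of_le (hS.to_le (inf_le_left (b := A))) (le_inf h hT.le) inf_le_right]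
  exact le_normalizer_inf le_normalizer (by rw [normalizer_eq_top]; exact le_top)

/-- The overgroups of the Sylow `p`-subgroups are pronormal. -/
def YP (p : ℕ) (G : Type*) [Group G] : Prop :=
  ∀ K : Subgroup G, (∃ P : Sylow p G, (P : Subgroup G) ≤ K) → IsPronormal K

theorem yp_ext (A : Subgroup G) [A.Normal] (hA : YP p A) (hQ : YP p (G ⧸ A)) (T : Subgroup G)
    (hT : IsSyl p T A) [(T.subgroupOf (normalizer (T : Set G))).Normal] :
    YP p G ↔ (YP p (normalizer (T : Set G) ⧸ T.subgroupOf (normalizer (T : Set G))) ∧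
      ∀ K : Subgroup G, (∃ P : Sylow p G, (P : Subgroup G) ≤ K) →
        (normalizer (K : Set G)).map (QuotientGroup.mk' A) =
          normalizer ((K.map (QuotientGroup.mk' A) : Subgroup (G ⧸ A)) : Set (G ⧸ A))) := by
  constructor
  · refine fun h => ⟨fun K hK g => ?_, fun K hK => le_antisymm (map_le_normalizer_map _ le_rfl) ?_⟩
    · obtain ⟨g, rfl⟩ := QuotientGroup.mk'_surjective _ g
      obtain ⟨S, hS, hTS, -⟩ := exists_isSyl_top (H := ⊤)
        (by rw [index_top]; exact Nat.Prime.not_dvd_one Fact.out) hT.isPGroup le_top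
      have h1 := h ((K.comap (QuotientGroup.mk' _)).map (normalizer (T : Set G)).subtype) (by
        rw [exists_sylow_le_iff, index_map_subtype,
          index_comap_of_surjective _ (QuotientGroup.mk'_surjective _)]
        exact fun hd => ((Nat.Prime.dvd_mul Fact.out).1 hd).elim (exists_sylow_le_iff.1 hK)
          (exists_sylow_le_iff.1 ⟨hS.toSylowTop, le_nor_of_isSyl hT hS.isPGroup hTS⟩))
      obtain ⟨x, hx, e⟩ := (pr_map_iff (normalizer (T : Set G)).subtype_injective).1 (h1 g.1)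
      have hm := map_comap_eq_self_of_surjective
        (QuotientGroup.mk'_surjective (T.subgroupOf (normalizer (T : Set G)))) K
      refine ⟨QuotientGroup.mk' _ x, ?_, ?_⟩
      · change _ ∈ K ⊔ cj _ K
        rw [← hm, ← map_cj, ← Subgroup.map_sup]
        exact mem_map_of_mem _ hx
      · change cj _ K = cj _ K
        rw [← hm, ← map_cj, ← map_cj, e]
    · intro g hg
      obtain ⟨g, rfl⟩ := QuotientGroup.mk'_surjective A g
      obtain ⟨x, hx, e⟩ : PR K g := h K hK g
      have h1 := mem_map_of_mem (QuotientGroup.mk' A) hx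
      rw [Subgroup.map_sup, map_cj, cj_eq_self hg, sup_idem] at h1
      obtain ⟨k, hk, e1⟩ := h1
      refine ⟨k * (x⁻¹ * g), mul_mem (le_normalizer hk)
        (cj_eq_self_iff.1 (by rw [← cj_cj, e, cj_inv_cj])), ?_⟩
      rw [map_mul, e1, ← map_mul, mul_inv_cancel_left]
  · rintro ⟨h1, h2⟩
    have key : ∀ H : Subgroup G, ¬ p ∣ H.index → T ≤ H → IsPronormal H := fun H hH hTH g => by
      have hB : IsSyl p T (H ⊓ A) := hT.of_le (le_inf hTH hT.le) inf_le_right
      have hHB : H ≤ normalizer ((H ⊓ A : Subgroup G) : Set G) :=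
        le_normalizer_inf le_normalizer (by rw [normalizer_eq_top]; exact le_top)
      have s3 : ∀ n ∈ normalizer (T : Set G), n ∈ normalizer ((H ⊓ A : Subgroup G) : Set G) →
          PR H n := fun n hn hnB => by
        obtain ⟨S, hS, hTS, hSH⟩ := exists_isSyl_top hH hT.isPGroup hTH
        have hi : ¬ p ∣ (H ⊓ normalizer (T : Set G)).index := exists_sylow_le_iff.1
          ⟨hS.toSylowTop, le_inf hSH (le_nor_of_isSyl hT hS.isPGroup hTS)⟩
        have h3 := h1 (((H ⊓ normalizer (T : Set G)).subgroupOf _).map (QuotientGroup.mk' _))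
          (exists_sylow_le_iff.2 fun hd => hi ((hd.trans (index_map_dvd _
            (QuotientGroup.mk'_surjective _))).trans (relIndex_dvd_index_of_le inf_le_right)))
          (QuotientGroup.mk' _ ⟨n, hn⟩)
        obtain ⟨z, hz, e⟩ := (pr_subgroupOf inf_le_right _).1 (PR.of_map_ker (by
          rw [QuotientGroup.ker_mk']
          exact comap_mono (le_inf hTH le_normalizer)) h3)
        have hzB : z ∈ normalizer ((H ⊓ A : Subgroup G) : Set G) :=
          (sup_le (inf_le_left.trans hHB) (cj_le_of_le_of_mem (inf_le_left.trans hHB) hnB) :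
            _ ≤ normalizer ((H ⊓ A : Subgroup G) : Set G)) hz
        refine ⟨z, sup_le_sup inf_le_left (cj_mono n inf_le_left) hz, ?_⟩
        rw [← hB.frattini inf_le_left hHB, cj_sup, cj_sup, e, cj_eq_self hnB, cj_eq_self hzB]
      have s2 : ∀ a ∈ A, PR H a := fun a ha => by
        obtain ⟨P, hP⟩ := hT.exists_sylow
        obtain ⟨y, hy, e⟩ := (pr_subgroupOf inf_le_right ⟨a, ha⟩).1 (hA ((H ⊓ A).subgroupOf A)
          ⟨P, hP ▸ comap_mono hB.le⟩ ⟨a, ha⟩)
        have h3 : y⁻¹ * a ∈ normalizer ((H ⊓ A : Subgroup G) : Set G) :=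
          cj_eq_self_iff.1 (by rw [← cj_cj, e, cj_inv_cj])
        obtain ⟨n, hn, b, hb, e1⟩ := hB.frattini_mem h3
        refine PR.red (sup_le_sup inf_le_left (cj_mono a inf_le_left) hy)
          (inv_mem (le_normalizer hb.1)) ?_
        rw [e1, mul_inv_cancel_right]
        exact s3 n hn ((mul_mem_cancel_right (le_normalizer hb)).1 (e1 ▸ h3))
      obtain ⟨x, hx, h3⟩ := PR.of_map (hQ (H.map (QuotientGroup.mk' A)) (exists_sylow_le_iff.2
        fun hd => hH (hd.trans (index_map_dvd _ (QuotientGroup.mk'_surjective A))))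
        (QuotientGroup.mk' A g))
      rw [← h2 H (exists_sylow_le_iff.2 hH)] at h3
      obtain ⟨n, hn, e⟩ := h3
      refine PR.red hx (inv_mem hn) (s2 _ ((QuotientGroup.eq_one_iff _).1 ?_))
      change QuotientGroup.mk' A _ = 1
      rw [map_mul, ← e, ← map_mul, mul_inv_cancel, map_one]
    intro H hH
    obtain ⟨S, hS, hTS⟩ := exists_isSyl_le hT.isPGroup le_top
    obtain ⟨c, hc⟩ := exists_cj_ge hS (exists_sylow_le_iff.1 hH)
    have := pronormal_map (key (cj c H) (by
      rw [cj, index_map_of_bijective (MulAut.conj c).bijective]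
      exact exists_sylow_le_iff.1 hH) (hTS.trans hc))
      (MulAut.conj c⁻¹).toMonoidHom (MulAut.conj c⁻¹).surjective
    rwa [show (cj c H).map (MulAut.conj c⁻¹).toMonoidHom = H from cj_inv_cj c H] at this

theorem nor_le_of_selfnorm
    (h : ∀ P : Sylow p G, normalizer ((P : Subgroup G) : Set G) = P) {K : Subgroup G}
    (hK : ∃ P : Sylow p G, (P : Subgroup G) ≤ K) : normalizer (K : Set G) ≤ K := by
  obtain ⟨P, hP⟩ := hK
  simpa using (isSyl_sylow P).normalizer_normalizer_le (K := K) (by rwa [h, top_inf_eq]) le_top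

theorem yp_of_selfnorm (h : ∀ P : Sylow p G, normalizer ((P : Subgroup G) : Set G) = P) :
    YP p G := by
  rintro K ⟨P, hP⟩
  refine (Agent.S3820.result P K hP (pronormal_of_isSyl (isSyl_sylow P))).2 fun g hg => ?_
  exact ⟨g, mem_sup_left (hP (h P ▸ hg)), rfl⟩

theorem yp_ext' (A : Subgroup G) [A.Normal] (hA : YP p A)
    (hQ : ∀ P : Sylow p (G ⧸ A), normalizer ((P : Subgroup (G ⧸ A)) : Set (G ⧸ A)) = P)
    (T : Subgroup G) (hT : IsSyl p T A) [(T.subgroupOf (normalizer (T : Set G))).Normal] :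
    YP p G ↔ YP p (normalizer (T : Set G) ⧸ T.subgroupOf (normalizer (T : Set G))) := by
  rw [yp_ext A hA (yp_of_selfnorm hQ) T hT]
  refine and_iff_left fun K hK => le_antisymm (map_le_normalizer_map _ le_rfl) ?_
  exact (nor_le_of_selfnorm hQ (exists_sylow_le_iff.2 fun hd => exists_sylow_le_iff.1 hK
    (hd.trans (index_map_dvd _ (QuotientGroup.mk'_surjective A))))).trans (map_mono le_normalizer)

end

open scoped commutatorElement in
theorem pronormal_iff_of_abelian [Finite G] (V : Subgroup G) [V.Normal] (hV : IsMulCommutative V)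
    (H : Subgroup G) (hHV : H ⊔ V = ⊤) :
    IsPronormal H ↔ ∀ U : Subgroup G, U ≤ V → (∀ h ∈ H, cj h U = U) →
      U = (U ⊓ normalizer (H : Set G)) ⊔ ⁅H, U⁆ := by
  have hc : ∀ a ∈ V, ∀ b ∈ V, a * b = b * a := fun a ha b hb =>
    congrArg Subtype.val (hV.is_comm.comm (⟨a, ha⟩ : V) ⟨b, hb⟩)
  constructor
  · intro h U hU hH
    have h1 : H ≤ normalizer (U : Set G) := fun x hx => cj_eq_self_iff.1 (hH x hx)
    have h2 := commutator_le_right' h1
    refine le_antisymm (fun u hu => ?_) (sup_le inf_le_left h2)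
    obtain ⟨x, hx, e⟩ : PR H u := h u
    have h3 : H ⊔ cj u H ≤ ⁅H, U⁆ ⊔ H := sup_le le_sup_right (by
      rintro _ ⟨a, ha, rfl⟩
      have e1 : (MulAut.conj u).toMonoidHom a = ⁅a, u⁆⁻¹ * a := by
        simp [commutatorElement_def, mul_assoc]
      exact e1 ▸ mul_mem_sup (inv_mem (commutator_mem_commutator ha hu)) ha)
    obtain ⟨w, hw, a, ha, rfl⟩ :=
      (mem_sup_right_norm (le_normalizer_commutator le_normalizer h1)).1 (h3 hx)
    rw [← cj_cj, cj_eq_self_of_mem ha] at e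
    rw [← mul_inv_cancel_left w u]
    exact mul_mem (mem_sup_right hw) (mem_sup_left (mem_inf.2 ⟨mul_mem (inv_mem (h2 hw)) hu,
      cj_eq_self_iff.1 (by rw [← cj_cj, e, cj_inv_cj])⟩))
  · intro h g
    have hN : ∀ K : Subgroup G, K ≤ normalizer (V : Set G) := fun K => by
      rw [normalizer_eq_top]; exact le_top
    obtain ⟨v, hv, a, ha, rfl⟩ := (mem_sup_right_norm (hN H)).1
      (show g ∈ V ⊔ H by rw [sup_comm, hHV]; trivial)
    refine PR.red (one_mem _) (inv_mem (le_normalizer ha)) ?_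
    rw [inv_one, one_mul, mul_inv_cancel_right]
    have hm : ∀ u ∈ V, ∀ b : G, ⁅b, u⁆ ∈ V := fun u hu b =>
      mul_mem (‹V.Normal›.conj_mem u hu b) (inv_mem hu)
    let U : Subgroup G :=
      { carrier := {u | u ∈ V ∧ ∀ b ∈ H, ⁅b, u⁆ ∈ H ⊔ cj v H}
        one_mem' := ⟨one_mem _, fun b _ => by simp⟩
        mul_mem' := fun {x y} hx hy => ⟨mul_mem hx.1 hy.1, fun b hb => by
          have e : ⁅b, x * y⁆ = ⁅b, x⁆ * (x * ⁅b, y⁆ * x⁻¹) := by
            simp [commutatorElement_def, mul_assoc]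
          rw [e, hc x hx.1 _ (hm y hy.1 b), mul_inv_cancel_right]
          exact mul_mem (hx.2 b hb) (hy.2 b hb)⟩
        inv_mem' := fun {x} hx => ⟨inv_mem hx.1, fun b hb => by
          have e : ⁅b, x⁻¹⁆ = x⁻¹ * ⁅b, x⁆⁻¹ * x := by
            simp [commutatorElement_def, mul_assoc]
          rw [e, hc _ (inv_mem hx.1) _ (inv_mem (hm x hx.1 b)), inv_mul_cancel_right]
          exact inv_mem (hx.2 b hb)⟩ }
    have hU : U ≤ V := fun u hu => hu.1
    have h1 := h U hU fun b hb => cj_eq_self (mem_normalizer_of_cj_le (by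
      rintro _ ⟨u, hu, rfl⟩
      refine ⟨‹V.Normal›.conj_mem u hu.1 b, fun c hc' => ?_⟩
      have e : ⁅c, (MulAut.conj b).toMonoidHom u⁆ = b * ⁅b⁻¹ * c * b, u⁆ * b⁻¹ := by
        simp [commutatorElement_def, mul_assoc]
      rw [e]
      exact mul_mem (mul_mem (mem_sup_left hb) (hu.2 _ (mul_mem (mul_mem (inv_mem hb) hc') hb)))
        (mem_sup_left (inv_mem hb))))
    have hvU : v ∈ U := ⟨hv, fun b hb => by
      have e : ⁅b, v⁆ = b * (v * b⁻¹ * v⁻¹) := by simp [commutatorElement_def, mul_assoc]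
      exact e ▸ mul_mem_sup hb (conj_mem_cj (inv_mem hb))⟩
    have h2 : ⁅H, U⁆ ≤ V := (commutator_mono le_rfl hU).trans (commutator_le_right' (hN H))
    rw [h1, sup_comm] at hvU
    obtain ⟨w, hw, n, hn, e⟩ := (mem_sup_right_norm (le_normalizer_of_le_centralizer
      fun x hx => mem_centralizer_iff.2 fun y hy => hc y (h2 hy) x (hU (mem_inf.1 hx).1))).1 hvU
    refine ⟨w, (commutator_le.2 fun b hb u hu => hu.2 b hb : ⁅H, U⁆ ≤ _) hw, ?_⟩
    rw [e, ← cj_cj, cj_eq_self hn.2]

end H91
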