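/- A TI elementary abelian `2`-group modulo a central involution. -/
import Cfsg.Agent.H91.PrnExt
import Cfsg.Agent.H59.CharAux
import Cfsg.Agent.H43.KFBase
import Cfsg.Agent.S1911
import Cfsg.Agent.S1225

set_option autoImplicit false

namespace H91

open Subgroup H98 Cfsg

universe u

variable {X : Type u} [Group X]

theorem isSyl_of_tri [Finite X] {S B : Subgroup X} {x : X} (two : IsPGroup 2 S) (hSB : S ≤ B)
    (cube : x ^ 3 = 1) (nor : x ∈ normalizer (S : Set X))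
    (cases : ∀ g ∈ B, g ∈ normalizer (S : Set X) → g ∈ S ∨ x⁻¹ * g ∈ S ∨ x * g ∈ S) :
    IsSyl 2 S B := by
  refine isSyl_of_norm two hSB fun g hg hn ⟨k, hk⟩ => ?_
  have key : ∀ y ∈ normalizer (S : Set X), y ^ 3 = 1 → y⁻¹ * g ∈ S → g ^ 3 ∈ S := fun y hy h3 hs => by
    have e : g ^ 3 = (y * (y⁻¹ * g) * y⁻¹) * (y ^ 2 * (y⁻¹ * g) * (y ^ 2)⁻¹) * (y ^ 3 * (y⁻¹ * g)) := by
      simp only [pow_succ, pow_zero, one_mul, mul_inv_rev, mul_assoc, inv_mul_cancel_left,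
        mul_inv_cancel_left]
    rw [e, h3, one_mul]
    exact mul_mem (mul_mem (conj_mem_of_mem_normalizer hy hs)
      (conj_mem_of_mem_normalizer (pow_mem hy 2) hs)) hs
  have h3 : g ^ 3 ∈ S := by
    rcases cases g hg hn with h | h | h
    · exact pow_mem h 3
    · exact key x nor cube h
    · exact key x⁻¹ (inv_mem nor) (by rw [inv_pow, cube, inv_one]) (by rwa [inv_inv])
  have hc : Nat.Coprime 3 (orderOf g) :=
    ((Nat.coprime_primes Nat.prime_three Nat.prime_two).2 (by norm_num)).pow_right k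
      |>.coprime_dvd_right (orderOf_dvd_of_pow_eq_one hk)
  obtain ⟨m, hm⟩ := exists_pow_eq_self_of_coprime hc
  exact hm ▸ pow_mem h3 m

theorem comm_mem_of_tri {S : Subgroup X} {x g : X} (nor : x ∈ normalizer (S : Set X))
    (h : g ∈ S ∨ x⁻¹ * g ∈ S ∨ x * g ∈ S) : x * g * x⁻¹ * g⁻¹ ∈ S := by
  rcases h with h | h | h
  · exact mul_mem (conj_mem_of_mem_normalizer nor h) (inv_mem h)
  · rw [show x * g * x⁻¹ * g⁻¹ = x * (x * (x⁻¹ * g) * x⁻¹ * (x⁻¹ * g)⁻¹) * x⁻¹ by group]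
    exact conj_mem_of_mem_normalizer nor (mul_mem (conj_mem_of_mem_normalizer nor h) (inv_mem h))
  · rw [show x * g * x⁻¹ * g⁻¹ = x⁻¹ * (x * (x * g) * x⁻¹ * (x * g)⁻¹) * x by group]
    exact conj_mem_of_mem_normalizer' nor (mul_mem (conj_mem_of_mem_normalizer nor h) (inv_mem h))

theorem tri3_sub {G S : Subgroup X} {x : X} (hS : S ≤ G) (hx : x ∈ G) (two : IsPGroup 2 S)
    (cube : x ^ 3 = 1) (nor : x ∈ normalizer (S : Set X))
    (cases : ∀ g ∈ G, (∀ s ∈ S, g * s * g⁻¹ ∈ S) → g ∈ S ∨ x⁻¹ * g ∈ S ∨ x * g ∈ S)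
    (key : ∀ H, S ≤ H → H ≤ G → x ∈ H ⊔ cj x H ∨ cj x H = H) :
    Tri3 (S.subgroupOf G) ⟨x, hx⟩ := by
  refine ⟨isPGroup_subgroupOf two G, Subtype.ext cube,
    fun s hs => conj_mem_of_mem_normalizer (x := s.1) nor hs,
    fun g hg => cases g g.2 fun s hs => hg ⟨s, hS hs⟩ hs, fun H hH => ?_⟩
  have e : cj x (H.map G.subtype) = (cj ⟨x, hx⟩ H).map G.subtype := (map_cj G.subtype ⟨x, hx⟩ H).symm
  rcases key (H.map G.subtype) ((map_subgroupOf_eq_of_le hS).ge.trans (map_mono hH))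
    (map_subtype_le H) with h | h <;> rw [e] at h
  · rw [← Subgroup.map_sup] at h
    exact .inl ((mem_map_iff_mem (f := G.subtype) G.subtype_injective (x := ⟨x, hx⟩)).1 h)
  · exact .inr (map_injective G.subtype_injective h)

/-- `E / ⟨z⟩` is a TI-subgroup meeting the conjugates of `M` trivially -/
structure TIz (M E : Subgroup X) (z t : X) : Prop where
  cen : z ∈ center X
  zE : z ∈ E
  EM : E ≤ M
  nor : M ≤ normalizer (E : Set X)
  sq : ∀ e ∈ E, e * e = 1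
  ti : ∀ g, g ∉ M → ∀ e ∈ E, g * e * g⁻¹ ∈ M → e = 1 ∨ e = z
  tE : t ∈ E
  t1 : t ≠ 1
  tz : t ≠ z

namespace TIz

variable {M E : Subgroup X} {z t : X} (h : TIz M E z t)
include h

theorem normal : (zpowers z).Normal := ⟨fun a ha g => by
  rwa [mem_center_iff.1 (zpowers_le.2 h.cen ha) g, mul_inv_cancel_right]⟩

theorem exists_hom : ∃ (Y : Type u) (_ : Group Y) (f : X →* Y), Function.Surjective f ∧
    f.ker ≤ center X ∧ ∀ a b, f a = f b ↔ a = b ∨ a = b * z := by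
  have := h.normal
  refine ⟨_, _, QuotientGroup.mk' (zpowers z), QuotientGroup.mk'_surjective _,
    by rw [QuotientGroup.ker_mk']; exact zpowers_le.2 h.cen, fun a b => ?_⟩
  rw [eq_comm, QuotientGroup.mk'_apply, QuotientGroup.mk'_apply, QuotientGroup.eq,
    H59.mem_zpowers_of_sq (h.sq z h.zE), inv_mul_eq_iff_eq_mul, inv_mul_eq_iff_eq_mul, mul_one]

theorem mem_M {g : X} (hg : g * t * g⁻¹ ∈ M) : g ∈ M := by
  by_contra hn
  exact (h.ti g hn t h.tE hg).elim h.t1 h.tz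

variable [Finite X]

theorem emb : M = ⊤ ∨ ∃ X0 : Subgroup X, X0.Normal ∧ E ≤ X0 ∧ ∀ s ∈ X0 ⊓ M,
    s * s = 1 ∨ s * s = z → s ≠ 1 → s ≠ z → ∃ d ∈ X0 ⊓ M, d * t * d⁻¹ = s ∨ d * t * d⁻¹ = s * z := by
  obtain ⟨Y, _, f, hf, -, hk⟩ := h.exists_hom
  have : Finite Y := Finite.of_surjective f hf
  have h1 : ∀ a, f a = 1 ↔ a = 1 ∨ a = z := fun a => by rw [← map_one f, hk, one_mul]
  have hE : ∀ a, f a ∈ E.map f → a ∈ E := by
    rintro a ⟨e, he, e1⟩
    rcases (hk _ _).1 e1.symm with rfl | rfl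
    exacts [he, mul_mem he h.zE]
  have hN : ∀ g, f g ∈ normalizer ((E.map f : Subgroup Y) : Set Y) ↔ g ∈ M := fun g =>
    ⟨fun hg => h.mem_M (h.EM (hE _ (by
      simpa using conj_mem_of_mem_normalizer hg (mem_map_of_mem f h.tE)))),
      fun hg => map_le_normalizer_map f h.nor (mem_map_of_mem f hg)⟩
  have ho : ∀ s, s * s = 1 ∨ s * s = z → s ≠ 1 → s ≠ z → orderOf (f s) = 2 := fun s hs s1 sz =>
    orderOf_eq_prime (by rw [pow_two, ← map_mul, h1]; exact hs) fun e => ((h1 s).1 e).elim s1 sz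
  have hb : ∀ g, g ∉ normalizer ((E.map f : Subgroup Y) : Set Y) →
      cj g (E.map f) ⊓ normalizer ((E.map f : Subgroup Y) : Set Y) = ⊥ := fun g hg => by
    obtain ⟨g, rfl⟩ := hf g
    rw [eq_bot_iff, ← map_cj]
    rintro _ ⟨⟨_, ⟨e, he, rfl⟩, rfl⟩, h2⟩
    have := (h1 e).2 (h.ti g (fun hm => hg ((hN g).2 hm)) e he ((hN _).1 h2))
    simp [this]
  have ot := ho t (.inl (h.sq t h.tE)) h.t1 h.tz
  by_cases hM : M = ⊤
  · exact .inl hM
  obtain ⟨g, hg⟩ : ∃ g, g ∉ M := by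
    by_contra hc
    push Not at hc
    exact hM (eq_top_iff.2 fun g _ => hc g)
  rcases Agent.S1911.result (E.map f) ⟨even_iff_two_dvd.2 (ot ▸
      orderOf_dvd_natCard _ (mem_map_of_mem f h.tE)), fun g hg => by
        have : E.map f ⊓ cj g (E.map f) = ⊥ :=
          eq_bot_iff.2 ((le_inf inf_le_right (inf_le_left.trans le_normalizer)).trans (hb g hg).le)
        change Odd (Nat.card ↥(E.map f ⊓ cj g (E.map f)))
        rw [this, card_bot]
        exact odd_one⟩ (fun g hg => by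
        change Odd (Nat.card ↥(cj g (E.map f) ⊓ _))
        rw [hb g hg, card_bot]
        exact odd_one) with hn | hs
  · exact absurd ((hN g).1 (by rw [normalizer_eq_top]; trivial)) hg
  have hle : E.map f ≤ normalClosure (E.map f : Set Y) := le_normalClosure
  have ht := hle (mem_map_of_mem f h.tE)
  refine .inr ⟨(normalClosure (E.map f : Set Y)).comap f, inferInstance,
    fun e he => hle (mem_map_of_mem f he), fun s hs0 h2 s1 sz => ?_⟩
  obtain ⟨⟨d, hd, e⟩, -⟩ := Agent.S1225.result _ hs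
    ⟨f g * f t * (f g)⁻¹, normalClosure_normal.conj_mem _ ht _⟩
    (by rw [← Subgroup.orderOf_coe]; exact ((MulAut.conj (f g)).orderOf_eq (f t)).trans ot)
    (fun hu => hg (h.mem_M ((hN _).1 (by rw [map_mul, map_mul, map_inv]; exact hu))))
    ⟨f t, ht⟩ ⟨f s, hs0.1⟩ (by rw [← Subgroup.orderOf_coe]; exact ot) ((hN t).2 (h.EM h.tE))
    (by rw [← Subgroup.orderOf_coe]; exact ho s h2 s1 sz) ((hN s).2 hs0.2)
  obtain ⟨d, hd0⟩ := d
  obtain ⟨d, rfl⟩ := hf d
  exact ⟨d, ⟨hd0, (hN d).1 hd.1⟩, (hk _ _).1 (by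
    rw [map_mul, map_mul, map_inv]; exact congrArg Subtype.val e)⟩

theorem zstar (hE : ∀ e ∈ E, e = 1 ∨ e = z ∨ e = t ∨ e = t * z) : M ⊔ oddCore X = ⊤ := by
  obtain ⟨Y, _, f, hf, hc, hk⟩ := h.exists_hom
  have : Finite Y := Finite.of_surjective f hf
  have h1 : ∀ a, f a = 1 ↔ a = 1 ∨ a = z := fun a => by rw [← map_one f, hk, one_mul]
  have ot : orderOf (f t) = 2 := orderOf_eq_prime (by rw [pow_two, ← map_mul, h.sq t h.tE, map_one])
    fun e => ((h1 t).1 e).elim h.t1 h.tz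
  have h2 : ∀ g, f g * f t * (f g)⁻¹ = f t → g ∈ M := fun g e => h.mem_M (h.EM (by
    rcases (hk (g * t * g⁻¹) t).1 (by simpa using e) with e | e <;> rw [e]
    exacts [h.tE, mul_mem h.tE h.zE]))
  have htop : centralizer ({f t} : Set Y) ⊔ oddCore Y = ⊤ := by
    by_contra hne
    obtain ⟨g, hg1, hg2⟩ := H49.exists_conj_comm_of_ne_top ot hne
    obtain ⟨g, rfl⟩ := hf g
    have h3 : g ∈ M := h.mem_M (h2 _ (by
      rw [map_mul, map_mul, map_inv, ← hg1.eq, mul_inv_cancel_right]))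
    have h4 : f g * f t * (f g)⁻¹ ≠ 1 := fun e => by
      rw [mul_inv_eq_one, mul_eq_left] at e
      rw [e, orderOf_one] at ot
      omega
    rw [← map_inv, ← map_mul, ← map_mul] at hg2 h4
    rcases hE _ (conj_mem_of_mem_normalizer (h.nor h3) h.tE) with e | e | e | e
    · exact h4 ((h1 _).2 (.inl e))
    · exact h4 ((h1 _).2 (.inr e))
    · exact hg2 ((hk _ _).2 (.inl e))
    · exact hg2 ((hk _ _).2 (.inr e))
  have h5 : (M ⊔ oddCore X).map f = ⊤ := by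
    rw [Subgroup.map_sup, H43.KF.oddCore_map_central f hf hc, eq_top_iff, ← htop]
    refine sup_le_sup_right (fun y hy => ?_) _
    obtain ⟨g, rfl⟩ := hf y
    exact mem_map_of_mem f (h2 g (by
      rw [← mem_centralizer_iff.1 hy _ rfl, mul_inv_cancel_right]))
  refine eq_top_iff.2 fun g _ => ?_
  obtain ⟨a, ha, e⟩ : f g ∈ (M ⊔ oddCore X).map f := h5 ▸ mem_top _
  rcases (hk _ _).1 e.symm with rfl | rfl
  exacts [ha, mul_mem ha (mem_sup_left (h.EM h.zE))]

end TIz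

end H91
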