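/- Pronormality of subgroups of odd index in characteristic two. -/
import Cfsg.Agent.H91.PrnBase
import Cfsg.Agent.H67.LieAll
import Cfsg.Agent.H55.Transport
import Cfsg.Agent.H61.PSLMin

set_option autoImplicit false

namespace H91

open Subgroup H98 Cfsg

theorem torus_norm {G : Type*} [Group G] [Finite G] {p : ℕ} [Fact p.Prime] {D : H67.SBN p G}
    (h : D.Good) {H : Subgroup G} (hH : D.U ≤ H) {t : G} (ht : t ∈ D.H) :
    t ∈ normalizer (H : Set G) := by
  let K : Subgroup G := ⨆ n : ↥(D.N ⊓ H), cj n.1 D.U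
  have hUK : D.U ≤ K := by
    have := le_iSup (fun n : ↥(D.N ⊓ H) => cj n.1 D.U) 1
    rwa [coe_one, cj_one] at this
  have hKH : K ≤ H := iSup_le fun n => cj_le_of_le_of_mem hH n.2.2
  have htK : t ∈ normalizer (K : Set G) := zpowers_le.1 (le_normalizer_iSup fun n =>
    zpowers_le.2 (cj_eq_self_iff.1 (by
      have h1 : n.1⁻¹ * t * n.1 ∈ normalizer (D.U : Set G) := by
        rw [D.normalizer_U]
        exact (D.H_conj' n.2.1 ht).1
      rw [cj_cj, show t * n.1 = n.1 * (n.1⁻¹ * t * n.1) by group, ← cj_cj, cj_eq_self h1])))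
  have hHK : H ≤ normalizer (K : Set G) := fun g hg => by
    obtain ⟨b, hb, n, hn, b', hb', e, -⟩ := H67.exists_bruhat D.P g
    obtain ⟨u, hu, h1, hh1, rfl⟩ := D.split b hb
    obtain ⟨u', hu', h2, hh2, rfl⟩ := D.split b' hb'
    have hu2 : h2⁻¹ * u' * h2 ∈ D.U := D.U_norm' hh2.1 hu'
    have e1 : g = u * (h1 * n * h2) * (h2⁻¹ * u' * h2) := by rw [e]; group
    have hm : h1 * n * h2 ∈ D.N ⊓ H := ⟨mul_mem (mul_mem hh1.2 hn) hh2.2, by
      have := mul_mem (mul_mem (inv_mem (hH hu)) hg) (inv_mem (hH hu2))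
      rwa [e1, mul_assoc u, inv_mul_cancel_left, mul_inv_cancel_right] at this⟩
    rw [e1]
    refine mul_mem (mul_mem (le_normalizer (hUK hu)) (mem_normalizer_of_cj_le ?_))
      (le_normalizer (hUK hu2))
    rw [cj_le_iff]
    refine iSup_le fun m => ?_
    rw [← cj_le_iff, cj_cj]
    exact le_iSup (fun n : ↥(D.N ⊓ H) => cj n.1 D.U) ⟨_, mul_mem hm m.2⟩
  have hS : IsSyl p D.U K := (D.coe_sylow ▸ isSyl_sylow D.sylow).of_le hUK le_top
  refine mem_normalizer_of_cj_le ?_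
  rintro _ ⟨g, hg, rfl⟩
  obtain ⟨a, ha, k, hk, rfl⟩ := hS.frattini_mem (hHK hg)
  rw [D.normalizer_U] at ha
  obtain ⟨u, hu, h1, hh1, rfl⟩ := D.split a ha
  have hh : h1 ∈ H := (mul_mem_cancel_left (hH hu)).1 ((mul_mem_cancel_right (hKH hk)).1 hg)
  have e : (MulAut.conj t).toMonoidHom (u * h1 * k) = (t * u * t⁻¹) * h1 * (t * k * t⁻¹) := by
    have := h.comm t ht h1 hh1
    calc _ = (t * u * t⁻¹) * (t * h1) * k * t⁻¹ := by simp [mul_assoc]
      _ = _ := by rw [this]; group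
  rw [e]
  exact mul_mem (mul_mem (hH (D.U_norm t ht.1 u hu)) hh) (hKH (conj_mem_of_mem_normalizer htK hk))

theorem pn_of_good {G : Type*} [Group G] [Finite G] (h : H67.HasGood 2 G) : PN G := by
  obtain ⟨D, h⟩ := h.exists_good
  refine pn_of_isSyl (D.coe_sylow ▸ isSyl_sylow D.sylow) fun H hH g hg => ⟨1, one_mem _, ?_⟩
  rw [D.normalizer_U] at hg
  obtain ⟨u, hu, t, ht, rfl⟩ := D.split g hg
  rw [cj_one, ← cj_cj, cj_eq_self (torus_norm h hH ht), cj_eq_self_of_mem (hH hu)]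

theorem exists_small (F : Type*) [Field F] [Fintype F] (h : (2 : F) = 0) :
    ∃ (K : Type) (_ : Field K) (_ : Fintype K) (_ : CharP K 2), Nonempty (F ≃+* K) := by
  have : CharP F 2 := (CharP.charP_iff_prime_eq_zero Nat.prime_two).2 h
  have e := (Shrink.ringEquiv.{0} F).symm
  exact ⟨Shrink.{0} F, inferInstance, Fintype.ofEquiv F e.toEquiv,
    charP_of_injective_ringHom (f := e.toRingHom) e.injective 2, ⟨e⟩⟩

theorem pn_psl_two {F : Type*} [Field F] [Fintype F] (h : (2 : F) = 0) {n : ℕ} (hn : 2 ≤ n)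
    (hs : IsSimpleGroup (Matrix.ProjectiveSpecialLinearGroup (Fin n) F)) :
    PN (Matrix.ProjectiveSpecialLinearGroup (Fin n) F) := by
  obtain ⟨K, _, _, _, ⟨e⟩⟩ := exists_small F h
  refine pn_of_good (H67.hasGood_psl ⟨K, inferInstance, inferInstance, inferInstance, n, hn, ?_, ⟨H55.pslCongr e⟩⟩)
  rintro rfl
  rw [← Fintype.card_congr e.toEquiv, ← Nat.card_eq_fintype_card]
  exact H61.four_le_card_of_simple

theorem pn_psu_two {F : Type*} [Field F] [Fintype F] (h : (2 : F) = 0) {n q : ℕ} (hn : 4 ≤ n)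
    (hF : Fintype.card F = q ^ 2) : PN (PSU n F q) := by
  obtain ⟨K, _, _, _, ⟨e⟩⟩ := exists_small F h
  exact pn_of_good (H67.hasGood_psu ⟨K, inferInstance, inferInstance, inferInstance, n, q,
    by rw [← Fintype.card_congr e.toEquiv, hF], by omega, by omega, ⟨H55.psuCongr e n q⟩⟩)

end H91
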