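/- Monomial matrices over a quaternion algebra. -/
import Cfsg.Agent.H91.PrnBase
import Cfsg.Agent.H86.CFWr

set_option autoImplicit false

namespace H91.QM

open Subgroup H98 Cfsg H86 H86.FW Quaternion

section Quat

variable {F : Type*} [Field F]

instance finQ [Finite F] : Finite ℍ[F] :=
  Finite.of_equiv _ (QuaternionAlgebra.equivProd (-1 : F) 0 (-1)).symm

/-- the quaternion with the given coordinates -/
def mq (a b c d : F) : ℍ[F] := ⟨a, b, c, d⟩

@[simp] theorem mq_re (a b c d : F) : (mq a b c d).re = a := rfl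
@[simp] theorem mq_imI (a b c d : F) : (mq a b c d).imI = b := rfl
@[simp] theorem mq_imJ (a b c d : F) : (mq a b c d).imJ = c := rfl
@[simp] theorem mq_imK (a b c d : F) : (mq a b c d).imK = d := rfl

def qi : ℍ[F]ˣ := ⟨mq 0 1 0 0, mq 0 (-1) 0 0, by ext <;> simp, by ext <;> simp⟩
def qj : ℍ[F]ˣ := ⟨mq 0 0 1 0, mq 0 0 (-1) 0, by ext <;> simp, by ext <;> simp⟩

theorem val_qi : ((qi : ℍ[F]ˣ) : ℍ[F]) = mq 0 1 0 0 := rfl
theorem val_qj : ((qj : ℍ[F]ˣ) : ℍ[F]) = mq 0 0 1 0 := rfl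
theorem inv_qi : ((qi⁻¹ : ℍ[F]ˣ) : ℍ[F]) = mq 0 (-1) 0 0 := rfl
theorem inv_qj : ((qj⁻¹ : ℍ[F]ˣ) : ℍ[F]) = mq 0 0 (-1) 0 := rfl

theorem qi_sq : (qi * qi : ℍ[F]ˣ) = -1 := by ext <;> simp [val_qi]
theorem qj_sq : (qj * qj : ℍ[F]ˣ) = -1 := by ext <;> simp [val_qj]

theorem normSq_qi : normSq ((qi : ℍ[F]ˣ) : ℍ[F]) = 1 := by simp [normSq_def', val_qi]
theorem normSq_qj : normSq ((qj : ℍ[F]ˣ) : ℍ[F]) = 1 := by simp [normSq_def', val_qj]

theorem neg_one_ne (h2 : (2 : F) ≠ 0) : (-1 : ℍ[F]) ≠ 1 := fun h => by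
  have := congrArg QuaternionAlgebra.re h
  simp only [re_neg, re_one] at this
  exact h2 (by linear_combination -this)

theorem eq_zero_of_neg (h2 : (2 : F) ≠ 0) {a : ℍ[F]} (h : -a = a) : a = 0 := by
  have h1 : (2 : F) • a = 0 := by rw [two_smul]; nth_rewrite 1 [← h]; exact neg_add_cancel a
  exact (smul_eq_zero.1 h1).resolve_left h2

/-- the quaternion algebra is a prime ring -/
theorem prime_q (h2 : (2 : F) ≠ 0) {v u : ℍ[F]} (h1 : v * u = 0) (hi : v * qi.1 * u = 0)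
    (hj : v * qj.1 * u = 0) (hk : v * (qi.1 * qj.1) * u = 0) : v = 0 ∨ u = 0 := by
  have H : ∀ y : ℍ[F], v * y * u = 0 := fun y => by
    have e : y = y.re • (1 : ℍ[F]) + y.imI • qi.1 + y.imJ • qj.1 + y.imK • (qi.1 * qj.1) := by
      ext <;> simp [val_qi, val_qj]
    rw [e]
    simp only [mul_add, add_mul, mul_smul_comm, smul_mul_assoc, mul_one, h1, hi, hj, hk,
      smul_zero, add_zero]
  have key : ∀ t : ℍ[F], (2 * 2 * (t * u).re) • v = 0 := fun t => by
    have e : (2 * 2 * (t * u).re) • (1 : ℍ[F]) = t * u - qi.1 * (t * u) * qi.1 -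
        qj.1 * (t * u) * qj.1 - qi.1 * qj.1 * (t * u) * (qi.1 * qj.1) := by
      generalize t * u = w
      ext <;> simp [val_qi, val_qj] <;> ring
    rw [← mul_one v, ← mul_smul_comm, e]
    have a1 := H t
    have a2 := H (qi.1 * t)
    have a3 := H (qj.1 * t)
    have a4 := H (qi.1 * qj.1 * t)
    simp only [mul_sub, ← mul_assoc] at a2 a3 a4 ⊢
    rw [a1, a2, a3, a4]
    simp
  refine or_iff_not_imp_left.2 fun hv => ?_
  have k : ∀ t : ℍ[F], (t * u).re = 0 := fun t =>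
    (mul_eq_zero.1 ((smul_eq_zero.1 (key t)).resolve_right hv)).resolve_left (mul_ne_zero h2 h2)
  have k1 := k 1
  have k2 := k qi.1
  have k3 := k qj.1
  have k4 := k (qi.1 * qj.1)
  simp [val_qi, val_qj] at k1 k2 k3 k4
  ext <;> simp [k1, k2, k3, k4]

end Quat

section Mon

variable {R : Type*} [Ring R] {ι : Type*} [Fintype ι] [DecidableEq ι]

/-- the matrix of an element of the wreath product -/
def mh : FW ι Rˣ Unit →* Matrix ι ι R where
  toFun w := Matrix.of fun a b => if a = pm w b then (co w a).1 else 0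
  map_one' := by ext a b; simp [Matrix.one_apply]
  map_mul' v w := by
    ext a b
    simp only [Matrix.of_apply, Matrix.mul_apply, mul_ite, mul_zero, Finset.sum_ite_eq',
      Finset.mem_univ, if_true, ite_mul, zero_mul, map_mul, Equiv.Perm.mul_apply, co_mul]
    split_ifs with h
    · rw [h]; simp
    · rfl

/-- monomial matrices -/
def mon : FW ι Rˣ Unit →* (Matrix ι ι R)ˣ := mh.toHomUnits

theorem mon_apply (w : FW ι Rˣ Unit) (a b : ι) :
    (mon w).1 a b = if a = pm w b then (co w a).1 else 0 := rfl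

theorem mon_base (d : ι → Rˣ) (a b : ι) :
    (mon (base d)).1 a b = if a = b then (d a).1 else 0 := rfl

theorem mon_inj [Nontrivial R] : Function.Injective (mon : FW ι Rˣ Unit → _) := by
  rw [injective_iff_map_eq_one]
  intro w h
  have h1 : ∀ a b, (if a = pm w b then (co w a).1 else 0) = if a = b then 1 else 0 :=
    fun a b => by rw [← mon_apply, h, Units.val_one, Matrix.one_apply]
  have h2 : ∀ a, pm w a = a := fun a => by
    by_contra hne
    have := h1 a a
    rw [if_neg (Ne.symm hne), if_pos rfl] at this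
    exact zero_ne_one this
  refine ext' (fun a => Units.ext ?_) (Equiv.ext h2) rfl
  simpa [h2] using h1 a a

theorem conj_base (g : (Matrix ι ι R)ˣ) (d : ι → Rˣ) (a b : ι) :
    (g * mon (base d) * g⁻¹).1 a b = ∑ c, g.1 a c * d c * (g⁻¹).1 c b := by
  simp [Matrix.mul_apply, mon_base]

theorem sum_inv (g : (Matrix ι ι R)ˣ) (a b : ι) :
    ∑ c, g.1 a c * (g⁻¹).1 c b = if a = b then 1 else 0 := by
  rw [← Matrix.mul_apply, Units.mul_inv, Matrix.one_apply]

theorem conj_blk (g : (Matrix ι ι R)ˣ) (i : ι) (s : Rˣ) (a b : ι) :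
    (g * mon (blk i s) * g⁻¹).1 a b =
      (if a = b then 1 else 0) + g.1 a i * (s - 1) * (g⁻¹).1 i b := by
  rw [blk_apply, conj_base, ← sum_inv g, ← Finset.add_sum_erase _ _ (Finset.mem_univ i),
    ← Finset.add_sum_erase _ _ (Finset.mem_univ i), Pi.mulSingle_eq_same,
    Finset.sum_congr rfl fun c hc => by
      rw [Pi.mulSingle_eq_of_ne (Finset.ne_of_mem_erase hc), Units.val_one, mul_one]]
  noncomm_ring

/-- a monomial conjugate of a block element is diagonal -/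
theorem pm_eq_one [Finite R] {g : (Matrix ι ι R)ˣ} {i : ι} {s : Rˣ} (hs : s ≠ -1)
    {w : FW ι Rˣ Unit} (h : g * mon (blk i s) * g⁻¹ = mon w) : pm w = 1 := by
  refine Equiv.ext fun a => ?_
  by_contra hne
  have E : ∀ c e, (if c = pm w e then (co w c).1 else 0) =
      (if c = e then 1 else 0) + g.1 c i * (s - 1) * (g⁻¹).1 i e := fun c e => by
    rw [← mon_apply, ← h, conj_blk]
  have h1 : ∀ c, pm w c ≠ c → (s - 1 : R) * ((g⁻¹).1 i c * g.1 c i) = -1 := fun c hc => by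
    have := E c c
    rw [if_neg (Ne.symm hc), if_pos rfl] at this
    have h3 : g.1 c i * (-((s - 1 : R) * (g⁻¹).1 i c)) = 1 := by
      rw [mul_neg, ← mul_assoc, neg_eq_iff_add_eq_zero, add_comm, ← this]
    rw [mul_eq_one_comm, neg_mul, mul_assoc, neg_eq_iff_eq_neg] at h3
    exact h3
  have hb : pm w (pm w a) ≠ pm w a := fun e => hne ((pm w).injective e)
  have h2 : ∀ c, c ≠ a → c ≠ pm w a → g.1 c i = 0 := fun c h3 h4 => by
    have := E c a
    rw [if_neg h4, if_neg h3, zero_add] at this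
    have h5 := congrArg (· * g.1 a i) this
    simp only [zero_mul, mul_assoc] at h5
    rw [h1 a hne] at h5
    simpa using h5
  have h3 := sum_inv g⁻¹ i i
  rw [inv_inv, if_pos rfl, Fintype.sum_eq_add a (pm w a) (Ne.symm hne)
    fun c hc => by rw [h2 c hc.1 hc.2, mul_zero]] at h3
  have h4 : (s - 1 : R) = -1 + -1 := by
    have := congrArg ((s - 1 : R) * ·) h3
    simp only [mul_add, mul_one] at this
    rw [← this, h1 a hne, h1 _ hb]
  exact hs (Units.ext (by rw [Units.val_neg, Units.val_one, ← sub_add_cancel (s : R) 1, h4]; abel))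

theorem mem_range_of_col [Finite R] [Nontrivial R] {g : (Matrix ι ι R)ˣ}
    (h : ∀ i, ∃ a, ∀ b, b ≠ a → g.1 b i = 0 ∧ (g⁻¹).1 i b = 0) : g ∈ (mon : FW ι Rˣ Unit →* _).range := by
  choose f hf using h
  have h1 : ∀ i j, (g⁻¹).1 i (f i) * g.1 (f i) j = if i = j then 1 else 0 := fun i j => by
    have := sum_inv g⁻¹ i j
    rwa [inv_inv, Fintype.sum_eq_single (f i) fun c hc => by rw [(hf i c hc).2, zero_mul]] at this
  have h2 : ∀ i, (g⁻¹).1 i (f i) * g.1 (f i) i = 1 := fun i => by simpa using h1 i i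
  have hi : Function.Injective f := fun i j e => by
    by_contra hne
    have h3 := congrArg (g.1 (f i) i * ·) (h1 i j)
    simp only [if_neg hne, mul_zero, ← mul_assoc, mul_eq_one_comm.1 (h2 i), one_mul] at h3
    have h4 := h2 j
    rw [← e, h3, mul_zero] at h4
    exact zero_ne_one h4
  let π : Equiv.Perm ι := Equiv.ofBijective f (Finite.injective_iff_bijective.1 hi)
  let u : ι → Rˣ := fun i => ⟨_, _, mul_eq_one_comm.1 (h2 i), h2 i⟩
  refine ⟨mk' (fun a => u (π⁻¹ a)) π (), Units.ext (Matrix.ext fun a b => ?_)⟩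
  rw [mon_apply, pm_mk', co_mk']
  split_ifs with e
  · rw [e, show π⁻¹ (π b) = b from π.symm_apply_apply b]
    rfl
  · exact (hf b a e).1.symm

end Mon

variable {F : Type*} [Field F] [Finite F] {ι : Type*} [Fintype ι] [DecidableEq ι]

/-- the group of monomial matrices -/
abbrev Mon (ι F : Type*) [Field F] [Fintype ι] [DecidableEq ι] : Subgroup (Matrix ι ι ℍ[F])ˣ :=
  (mon : FW ι ℍ[F]ˣ Unit →* _).range

theorem col_of_conj (h2 : (2 : F) ≠ 0) {g : (Matrix ι ι ℍ[F])ˣ} {i : ι}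
    (hi : g * mon (blk i qi) * g⁻¹ ∈ Mon ι F) (hj : g * mon (blk i qj) * g⁻¹ ∈ Mon ι F) :
    ∃ a, ∀ b, b ≠ a → g.1 b i = 0 ∧ (g⁻¹).1 i b = 0 := by
  obtain ⟨v, hv⟩ := hi
  obtain ⟨w, hw⟩ := hj
  have n1 : (qi : ℍ[F]ˣ) ≠ -1 := fun e => by
    simpa [val_qi] using congrArg (fun x : ℍ[F]ˣ => x.1.re) e
  have n2 : (qj : ℍ[F]ˣ) ≠ -1 := fun e => by
    simpa [val_qj] using congrArg (fun x : ℍ[F]ˣ => x.1.re) e
  have p1 := pm_eq_one n1 hv.symm
  have p2 := pm_eq_one n2 hw.symm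
  have E : ∀ (s : ℍ[F]ˣ) (u : FW ι ℍ[F]ˣ Unit), pm u = 1 → mon u = g * mon (blk i s) * g⁻¹ →
      ∀ a b, a ≠ b → g.1 a i * s * (g⁻¹).1 i b = g.1 a i * (g⁻¹).1 i b := fun s u hu e a b hab => by
    have := conj_blk g i s a b
    rw [← e, mon_apply, hu, if_neg (by simpa using hab), if_neg hab, zero_add, mul_sub, sub_mul,
      mul_one] at this
    exact (sub_eq_zero.1 this.symm)
  have key : ∀ a b, a ≠ b → g.1 a i = 0 ∨ (g⁻¹).1 i b = 0 := fun a b hab => by
    have e0 := E (qi * qi) (v * v) (by rw [map_mul, p1, mul_one])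
      (by rw [map_mul, hv, conj_mul, ← map_mul, ← map_mul]) a b hab
    rw [qi_sq, Units.val_neg, Units.val_one, mul_neg, mul_one, neg_mul] at e0
    have e1 := eq_zero_of_neg h2 e0
    have e2 := E (qi * qj) (v * w) (by rw [map_mul, p1, p2, mul_one])
      (by rw [map_mul, hv, hw, conj_mul, ← map_mul, ← map_mul]) a b hab
    rw [Units.val_mul] at e2
    exact prime_q h2 e1 ((E qi v p1 hv a b hab).trans e1) ((E qj w p2 hw a b hab).trans e1)
      (e2.trans e1)
  obtain ⟨a, ha⟩ : ∃ a, (g⁻¹).1 i a * g.1 a i ≠ 0 := by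
    by_contra h
    push Not at h
    have h3 := sum_inv g⁻¹ i i
    rw [inv_inv, if_pos rfl, Finset.sum_eq_zero fun c _ => h c] at h3
    exact zero_ne_one h3
  exact ⟨a, fun b hb => ⟨(key b a hb).resolve_right (left_ne_zero_of_mul ha),
    (key a b hb.symm).resolve_left (right_ne_zero_of_mul ha)⟩⟩

theorem mem_mon (h2 : (2 : F) ≠ 0) {g : (Matrix ι ι ℍ[F])ˣ}
    (h : ∀ i, g * mon (blk i qi) * g⁻¹ ∈ Mon ι F ∧ g * mon (blk i qj) * g⁻¹ ∈ Mon ι F) :
    g ∈ Mon ι F :=
  mem_range_of_col fun i => col_of_conj h2 (h i).1 (h i).2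

end H91.QM
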