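/- Self-normalizing Sylow `2`-subgroups of classical groups of dimension a power of two. -/
import Cfsg.Agent.H91.PrnMon
import Cfsg.Agent.H30.SymTwo
import Cfsg.Agent.H90.PermMod

set_option autoImplicit false

namespace H91.QM

open Subgroup H98 Cfsg H86 H86.FW Quaternion

/-- a transitive self-normalizing `2`-group of permutations -/
structure TD {ι : Type*} (T : Subgroup (Equiv.Perm ι)) : Prop where
  two : IsPGroup 2 T
  self : ∀ π, (∀ τ ∈ T, π * τ * π⁻¹ ∈ T) → π ∈ T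
  trans : ∀ a b, ∃ τ ∈ T, τ a = b

theorem exists_td (k : ℕ) : ∃ T : Subgroup (Equiv.Perm (Fin (2 ^ k))), TD T := by
  obtain ⟨P⟩ : Nonempty (Sylow 2 (Equiv.Perm (Fin (2 ^ k)))) := inferInstance
  refine ⟨P, P.isPGroup', H30.SymTwo.sym_selfnorm _ P, fun a b => ?_⟩
  obtain ⟨τ, h⟩ := (H90.sylow_isPretransitive (f := k) (Ω := Fin (2 ^ k)) (by simp) P).1 a b
  exact ⟨τ, τ.2, h⟩

variable {F : Type*} [Field F] {ι : Type*} [Fintype ι] [DecidableEq ι]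

/-- the monomial elements of `G` -/
def Frame (Γ : Subgroup ℍ[F]ˣ) (G : Subgroup (Matrix ι ι ℍ[F])ˣ) : Prop :=
  ∀ w : FW ι ℍ[F]ˣ Unit, mon w ∈ G ↔ (∀ i, co w i ∈ Γ) ∧ ∏ i, normSq (co w i).1 = 1

/-- the wreath product `D wr T` -/
def SS (D : Subgroup ℍ[F]ˣ) (T : Subgroup (Equiv.Perm ι)) : Subgroup (Matrix ι ι ℍ[F])ˣ :=
  (sub D T ⊤).map mon

variable {Γ D : Subgroup ℍ[F]ˣ} {G : Subgroup (Matrix ι ι ℍ[F])ˣ} {T : Subgroup (Equiv.Perm ι)}

theorem mem_SS {w : FW ι ℍ[F]ˣ Unit} : mon w ∈ SS D T ↔ (∀ i, co w i ∈ D) ∧ pm w ∈ T := by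
  rw [SS, mem_map_iff_mem mon_inj, mem_sub]
  simp

theorem SS_le : SS D T ≤ Mon ι F := map_le_range _ _

theorem blk_mem_SS (i : ι) {a : ℍ[F]ˣ} (ha : a ∈ D) : mon (blk i a) ∈ SS D T :=
  mem_map_of_mem _ (blk_mem_sub i ha)

theorem top_mem_SS {τ : Equiv.Perm ι} (h : τ ∈ T) : mon (top τ) ∈ SS D T :=
  mem_map_of_mem _ (top_mem_sub h)

theorem base_mem_SS {d : ι → ℍ[F]ˣ} (h : ∀ i, d i ∈ D) : mon (base d) ∈ SS D T :=
  mem_map_of_mem _ (base_mem_sub h)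

theorem Frame.blk_mem (hG : Frame Γ G) (i : ι) {a : ℍ[F]ˣ} (ha : a ∈ Γ) (h : normSq a.1 = 1) :
    mon (blk i a) ∈ G :=
  (hG _).2 ⟨fun j => by rw [co_blk]; split_ifs; exacts [ha, one_mem _],
    Finset.prod_eq_one fun j _ => by rw [co_blk]; split_ifs; exacts [h, by simp]⟩

theorem Frame.top_mem (hG : Frame Γ G) (τ : Equiv.Perm ι) : mon (top τ) ∈ G :=
  (hG _).2 ⟨fun _ => one_mem _, by simp⟩

theorem eq_base_top (w : FW ι ℍ[F]ˣ Unit) : w = base (co w) * top (pm w) :=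
  ext' (fun i => by simp [co_mul]) (by simp) rfl

theorem co_conj_base (w : FW ι ℍ[F]ˣ Unit) (s : ι → ℍ[F]ˣ) (a : ι) :
    co (w * base s * w⁻¹) a = co w a * s ((pm w)⁻¹ a) * (co w a)⁻¹ := by
  simp [co_mul, co_inv]

variable [Finite F]

theorem isPGroup_SS (hD : IsPGroup 2 D) (hT : IsPGroup 2 T) : IsPGroup 2 (SS D T) :=
  (isPGroup_sub hD hT (IsPGroup.of_card (n := 0) (by simp))).map _

theorem cases_gen (h2 : (2 : F) ≠ 0) (hG : Frame Γ G) (hT : TD T) (hD : D ≤ Γ) (hi : qi ∈ D)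
    (hj : qj ∈ D) {g : (Matrix ι ι ℍ[F])ˣ} (hn : ∀ s ∈ G, s ∈ SS D T → g * s * g⁻¹ ∈ SS D T) :
    ∃ w, g = mon w ∧ pm w ∈ T ∧ (∀ a b, co w a * (co w b)⁻¹ ∈ D) ∧
      ∀ s : ι → ℍ[F]ˣ, (∀ i, s i ∈ D) → ∏ i, normSq (s i).1 = 1 →
        ∀ i, co w i * s i * (co w i)⁻¹ ∈ D := by
  obtain ⟨w, rfl⟩ := mem_mon h2 (g := g) fun i =>
    ⟨SS_le (hn _ (hG.blk_mem i (hD hi) normSq_qi) (blk_mem_SS i hi)),
      SS_le (hn _ (hG.blk_mem i (hD hj) normSq_qj) (blk_mem_SS i hj))⟩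
  have h1 : ∀ τ ∈ T, (∀ i, co (w * top τ * w⁻¹) i ∈ D) ∧ pm (w * top τ * w⁻¹) ∈ T := fun τ hτ => by
    rw [← mem_SS, map_mul, map_mul, map_inv]
    exact hn _ (hG.top_mem τ) (top_mem_SS hτ)
  refine ⟨w, rfl, hT.self _ fun τ hτ => by simpa using (h1 τ hτ).2, fun a b => ?_,
    fun s hs h i => ?_⟩
  · obtain ⟨τ, hτ, e⟩ := hT.trans ((pm w)⁻¹ b) ((pm w)⁻¹ a)
    have := (h1 τ hτ).1 a
    rw [co_mul, co_mul, co_inv, co_top, mul_one, map_mul, pm_top, mul_inv_rev,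
      Equiv.Perm.mul_apply, ← e] at this
    simpa using this
  · have h3 := hn (mon (base fun i => s (pm w i))) ((hG _).2 ⟨fun i => hD (hs _), by
      simpa [Equiv.prod_comp (pm w) fun i => normSq (s i).1] using h⟩) (base_mem_SS fun i => hs _)
    rw [← map_inv, ← map_mul, ← map_mul, mem_SS] at h3
    simpa [co_conj_base] using h3.1 i

omit [Finite F] in
theorem comm_qi_iff (h2 : (2 : F) ≠ 0) {a : ℍ[F]ˣ} :
    Commute a qi ↔ a.1.imJ = 0 ∧ a.1.imK = 0 := by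
  rw [Commute, SemiconjBy, Units.ext_iff, Quaternion.ext_iff]
  simp only [Units.val_mul, val_qi, re_mul, imI_mul, imJ_mul, imK_mul, mq_re, mq_imI, mq_imJ, mq_imK]
  constructor
  · rintro ⟨-, -, h3, h4⟩
    exact ⟨(mul_eq_zero.1 (by linear_combination -h4)).resolve_left h2,
      (mul_eq_zero.1 (by linear_combination h3)).resolve_left h2⟩
  · rintro ⟨h3, h4⟩
    simp [h3, h4]

omit [Finite F] in
theorem comm_of_comm_qi (h2 : (2 : F) ≠ 0) {a b : ℍ[F]ˣ} (ha : Commute a qi) (hb : Commute b qi) :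
    Commute a b := by
  rw [comm_qi_iff h2] at ha hb
  refine Units.ext ?_
  ext <;> simp [ha.1, ha.2, hb.1, hb.2] <;> ring

omit [Finite F] in
theorem qj_qi : (qj * qi * qj⁻¹ : ℍ[F]ˣ) = qi⁻¹ := by
  ext <;> simp [val_qi, val_qj, inv_qj, inv_qi, -Units.val_inv_eq_inv_val]

/-- the `2`-part of the torus -/
def T2 (h2 : (2 : F) ≠ 0) (Γ : Subgroup ℍ[F]ˣ) : Subgroup ℍ[F]ˣ where
  carrier := {a | a ∈ Γ ∧ Commute a qi ∧ ∃ k, a ^ 2 ^ k = 1}
  one_mem' := ⟨one_mem _, Commute.one_left _, 0, one_pow _⟩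
  mul_mem' := by
    rintro a b ⟨h1, h3, k, hk⟩ ⟨h4, h5, l, hl⟩
    refine ⟨mul_mem h1 h4, h3.mul_left h5, k + l, ?_⟩
    rw [(comm_of_comm_qi h2 h3 h5).mul_pow, pow_add, pow_mul, hk, mul_comm (2 ^ k), pow_mul, hl]
    simp
  inv_mem' := by
    rintro a ⟨h1, h3, k, hk⟩
    exact ⟨inv_mem h1, h3.inv_left, k, by rw [inv_pow, hk, inv_one]⟩

theorem qj_nor (h2 : (2 : F) ≠ 0) (hj : qj ∈ Γ) : zpowers qj ≤ normalizer (T2 h2 Γ : Set ℍ[F]ˣ) := by
  refine zpowers_le.2 (mem_normalizer_of_cj_le ?_)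
  rintro _ ⟨a, ⟨h1, h3, k, hk⟩, rfl⟩
  refine ⟨mul_mem (mul_mem hj h1) (inv_mem hj), ?_, k, by rw [← map_pow, hk, map_one]⟩
  have := h3.map (MulAut.conj (qj : ℍ[F]ˣ)).toMonoidHom
  rw [show (MulAut.conj (qj : ℍ[F]ˣ)).toMonoidHom qi = qi⁻¹ from qj_qi] at this
  simpa using this.inv_right

omit [Finite F] in
theorem qj_four : (qj : ℍ[F]ˣ) ^ 2 ^ 2 = 1 := by
  rw [show 2 ^ 2 = 2 * 2 from rfl, pow_mul, pow_two qj, qj_sq, neg_one_sq]

omit [Finite F] in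
theorem qi_four : (qi : ℍ[F]ˣ) ^ 2 ^ 2 = 1 := by
  rw [show 2 ^ 2 = 2 * 2 from rfl, pow_mul, pow_two qi, qi_sq, neg_one_sq]

theorem two_D (h2 : (2 : F) ≠ 0) (hj : qj ∈ Γ) : IsPGroup 2 ↥(T2 h2 Γ ⊔ zpowers qj) :=
  IsPGroup.to_sup_of_normal_left' (isPGroup_iff_forall.2 fun _ h => h.2.2)
    (isPGroup_zpowers qj_four) (qj_nor h2 hj)

theorem mem_D (h2 : (2 : F) ≠ 0) (hj : qj ∈ Γ) {a : ℍ[F]ˣ} (h : a ∈ T2 h2 Γ ⊔ zpowers qj) :
    Commute a qi ∨ Commute (a * qj) qi := by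
  obtain ⟨t, ht, _, ⟨n, rfl⟩, rfl⟩ := (mem_sup_right_norm (qj_nor h2 hj)).1 h
  have h1 : ∀ m : ℤ, Commute ((qj : ℍ[F]ˣ) ^ (2 * m)) qi := fun m => by
    rw [zpow_mul, zpow_two, qj_sq]
    exact (Commute.neg_one_left _).zpow_left m
  obtain ⟨m, rfl | rfl⟩ := Int.even_or_odd' n
  · exact .inl (ht.2.1.mul_left (h1 m))
  · refine .inr ?_
    rw [mul_assoc]
    refine ht.2.1.mul_left ?_
    have := h1 (m + 1)
    rwa [show 2 * (m + 1) = 2 * m + 1 + 1 by ring, zpow_add_one] at this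

theorem exists_zeta (h2 : (2 : F) ≠ 0) (hx : ∃ x ∈ Γ, ∃ l, x.1 = mq l l 0 0) :
    ∃ z ∈ T2 h2 Γ, (z * z).1.imI ≠ 0 := by
  obtain ⟨x, hx, l, e⟩ := hx
  have hl : l ≠ 0 := fun h => x.ne_zero (by rw [e, h]; rfl)
  obtain ⟨k, _, ⟨n, rfl⟩, hk⟩ := Nat.exists_eq_two_pow_mul_odd (orderOf_pos x).ne'
  have h1 : ∀ n : ℕ, ∃ μ, μ ≠ 0 ∧ ((x * x) ^ (2 * n + 1)).1 = mq 0 μ 0 0 := fun n => by
    induction n with
    | zero => exact ⟨2 * l * l, by simp [h2, hl], by ext <;> simp [e]; ring⟩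
    | succ n ih =>
      obtain ⟨μ, h0, h⟩ := ih
      refine ⟨-(2 * l * l) ^ 2 * μ, by simp [h2, hl, h0], ?_⟩
      rw [show 2 * (n + 1) + 1 = 2 * n + 1 + 1 + 1 from rfl, pow_succ, pow_succ, Units.val_mul,
        Units.val_mul, h]
      ext <;> simp [e] <;> ring
  refine ⟨x ^ (2 * n + 1), ⟨pow_mem hx _, ((comm_qi_iff h2).2 (by simp [e])).pow_left _, k, ?_⟩, ?_⟩
  · rw [← pow_mul, mul_comm, ← hk, pow_orderOf_eq_one]
  · obtain ⟨μ, h0, h⟩ := h1 n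
    rwa [← (Commute.refl x).mul_pow, h]

omit [Finite F] in
/-- conjugation fixes scalars -/
theorem eq_of_conj_scalar {g a : ℍ[F]ˣ} {c : F} (h : (g * a * g⁻¹).1 = c) : a.1 = c := by
  have : a = g⁻¹ * (g * a * g⁻¹) * g := by group
  rw [this, Units.val_mul, Units.val_mul, h, ← coe_commutes, mul_assoc, Units.inv_mul, mul_one]

omit [Finite F] in
theorem conj_qi_cases (h2 : (2 : F) ≠ 0) {g : ℍ[F]ˣ} (h : Commute (g * qi * g⁻¹) qi) :
    Commute g qi ∨ Commute (qj * g) qi := by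
  obtain ⟨h3, h4⟩ := (comm_qi_iff h2).1 h
  have h5 : (g * qi * g⁻¹) * (g * qi * g⁻¹) = -1 := by rw [conj_mul, qi_sq]; simp
  generalize hu : g * qi * g⁻¹ = u at h3 h4 h5
  have h6 := congrArg (fun x : ℍ[F]ˣ => x.1.re) h5
  have h7 := congrArg (fun x : ℍ[F]ˣ => x.1.imI) h5
  simp [h3, h4] at h6 h7
  have h8 : u.1.imI ≠ 0 := fun e => by
    have := eq_of_conj_scalar (g := g) (a := qi) (c := u.1.re) (by rw [hu]; ext <;> simp [e, h3, h4])
    simpa [val_qi] using congrArg QuaternionAlgebra.imI this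
  have h9 : u.1.re = 0 := (mul_eq_zero.1 ((mul_eq_zero.1 (show 2 * (u.1.re * u.1.imI) = 0 by
    linear_combination h7)).resolve_left h2)).resolve_right h8
  rcases mul_self_eq_one_iff.1 (show u.1.imI * u.1.imI = 1 by
    linear_combination u.1.re * h9 - h6) with e | e
  · left
    have : u = qi := by ext <;> simp [val_qi, e, h3, h4, h9]
    rw [this, mul_inv_eq_iff_eq_mul] at hu
    exact hu
  · right
    have : u = qi⁻¹ := by ext <;> simp [inv_qi, e, h3, h4, h9, -Units.val_inv_eq_inv_val]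
    have h10 : qj * g * qi * (qj * g)⁻¹ = qi := by
      calc _ = qj * (g * qi * g⁻¹) * qj⁻¹ := by group
        _ = (qj * qi * qj⁻¹)⁻¹ := by rw [hu, this]; group
        _ = qi := by rw [qj_qi, inv_inv]
    exact mul_inv_eq_iff_eq_mul.1 h10

theorem mem_D_of (h2 : (2 : F) ≠ 0) (hj : qj ∈ Γ) (hx : ∃ x ∈ Γ, ∃ l, x.1 = mq l l 0 0)
    {g : ℍ[F]ˣ} (hg : g ∈ Γ) (hn : g ∈ normalizer ((T2 h2 Γ ⊔ zpowers qj : Subgroup _) : Set ℍ[F]ˣ))
    {K : ℕ} (hK : normSq g.1 ^ 2 ^ K = 1) : g ∈ T2 h2 Γ ⊔ zpowers qj := by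
  have hjD : qj ∈ T2 h2 Γ ⊔ zpowers qj := mem_sup_right (mem_zpowers _)
  have key : ∀ g ∈ Γ, g ∈ normalizer ((T2 h2 Γ ⊔ zpowers qj : Subgroup _) : Set ℍ[F]ˣ) →
      normSq g.1 ^ 2 ^ K = 1 → Commute g qi → g ∈ T2 h2 Γ := fun g hg hn hK hc => by
    obtain ⟨k, hk⟩ := isPGroup_iff_forall.1 (two_D h2 hj) _
      (mul_mem (conj_mem_of_mem_normalizer hn hjD) (inv_mem hjD))
    have h1 : Commute (qj * g⁻¹ * qj⁻¹) qi := by
      have := hc.inv_left.map (MulAut.conj (qj : ℍ[F]ˣ))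
      rw [show MulAut.conj (qj : ℍ[F]ˣ) qi = qi⁻¹ from qj_qi] at this
      simpa using this.inv_right
    rw [show g * qj * g⁻¹ * qj⁻¹ = g * (qj * g⁻¹ * qj⁻¹) by group,
      (comm_of_comm_qi h2 hc h1).mul_pow, conj_pow, inv_pow, ← mul_assoc, mul_inv_eq_one,
      ← mul_assoc, mul_inv_eq_iff_eq_mul] at hk
    obtain ⟨h3, h4⟩ := (comm_qi_iff h2).1 (hc.pow_left (2 ^ k))
    have h5 : normSq (g ^ 2 ^ k).1 ^ 2 ^ K = 1 := by
      rw [Units.val_pow_eq_pow_val, map_pow, ← pow_mul, mul_comm, pow_mul, hK, one_pow]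
    refine ⟨hg, hc, k + (1 + K), ?_⟩
    rw [pow_add, pow_mul, pow_add, pow_mul]
    generalize g ^ 2 ^ k = c at hk h3 h4 h5
    have h6 := congrArg (fun x : ℍ[F]ˣ => x.1.imK) hk
    simp [val_qj] at h6
    have h7 : c.1.imI = 0 := (mul_eq_zero.1 (show 2 * c.1.imI = 0 by
      linear_combination h6)).resolve_left h2
    have h8 : (c ^ 2 ^ 1).1 = normSq c.1 := by
      ext <;> simp [pow_two, normSq_def', h3, h4, h7]
    refine Units.ext ?_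
    rw [Units.val_pow_eq_pow_val, h8, ← Quaternion.coe_pow, h5]
    rfl
  obtain ⟨z, hz, h0⟩ := exists_zeta h2 hx
  have h1 : Commute (g * z * g⁻¹) qi := by
    refine (mem_D h2 hj (conj_mem_of_mem_normalizer hn (mem_sup_left hz))).resolve_right fun h => ?_
    obtain ⟨h3, h4⟩ := (comm_qi_iff h2).1 h
    have h5 := eq_of_conj_scalar (g := g) (a := z * z) (c := -normSq (g * z * g⁻¹).1) (by
      rw [← conj_mul]
      generalize g * z * g⁻¹ = y at h3 h4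
      simp [val_qj] at h3 h4
      ext <;> simp [normSq_def', h3, h4, pow_two] <;> ring)
    exact h0 (by rw [h5]; rfl)
  obtain ⟨h3, h4⟩ := (comm_qi_iff h2).1 hz.2.1
  have h5 : z.1.imI ≠ 0 := fun e => h0 (by simp [e, h3, h4])
  have h6 : Commute (g * qi * g⁻¹) qi := by
    have e : z.1 = (z.1.re : ℍ[F]) + z.1.imI • qi.1 := by ext <;> simp [val_qi, h3, h4]
    have e2 : (g * z * g⁻¹).1 = (z.1.re : ℍ[F]) + z.1.imI • (g * qi * g⁻¹).1 := by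
      rw [Units.val_mul, Units.val_mul, Units.val_mul, Units.val_mul]
      conv_lhs => rw [e]
      rw [mul_add, add_mul, ← coe_commutes, mul_assoc, Units.mul_inv, mul_one, mul_smul_comm,
        smul_mul_assoc]
    rw [comm_qi_iff h2, e2] at h1
    rw [comm_qi_iff h2]
    generalize (g * qi * g⁻¹).1 = u at h1
    simpa [h5] using h1
  rcases conj_qi_cases h2 h6 with h | h
  · exact mem_sup_left (key g hg hn hK h)
  · exact (mul_mem_cancel_left hjD).1 (mem_sup_left (key _ (mul_mem hj hg)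
      (mul_mem (le_normalizer hjD) hn) (by rwa [Units.val_mul, map_mul, normSq_qj, one_mul]) h))

theorem tri3_frame (h2 : (2 : F) ≠ 0) (hG : Frame Γ G) (hT : TD T) {k : ℕ}
    (hc : Fintype.card ι = 2 ^ k) (hi : qi ∈ Γ) (hj : qj ∈ Γ)
    (hx : ∃ x ∈ Γ, ∃ l, x.1 = mq l l 0 0) (hι : Nontrivial ι ∨ ∀ a ∈ Γ, normSq a.1 = 1) :
    ∃ S : Subgroup G, Tri3 S 1 := by
  have hD : T2 h2 Γ ⊔ zpowers qj ≤ Γ := sup_le (fun _ h => h.1) (zpowers_le.2 hj)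
  refine ⟨(SS (T2 h2 Γ ⊔ zpowers qj) T).subgroupOf G, tri3_one
    (isPGroup_subgroupOf (isPGroup_SS (two_D h2 hj) hT.two) G) fun g hg => ?_⟩
  obtain ⟨w, e, h1, h3, h4⟩ := cases_gen h2 hG hT hD
    (mem_sup_left ⟨hi, Commute.refl _, 2, qi_four⟩) (mem_sup_right (mem_zpowers _)) (g := g.1)
    fun s hs h => hg ⟨s, hs⟩ h
  obtain ⟨h5, h6⟩ := (hG w).1 (e ▸ g.2)
  rw [mem_subgroupOf, e, mem_SS]
  refine ⟨fun i => ?_, h1⟩
  obtain ⟨K, hK⟩ := (two_D h2 hj).exists_card_eq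
  refine mem_D_of h2 hj hx (h5 i) (mem_normalizer_of_cj_le ?_) (K := k + K) ?_
  · rintro _ ⟨a, ha, rfl⟩
    rcases hι with hι | hι
    · obtain ⟨j, hji⟩ := exists_ne i
      have := h4 (Pi.mulSingle i a * Pi.mulSingle j a⁻¹) (fun c => mul_mem
        (by rw [Pi.mulSingle_apply]; split_ifs; exacts [ha, one_mem _])
        (by rw [Pi.mulSingle_apply]; split_ifs; exacts [inv_mem ha, one_mem _])) (by
          rw [Fintype.prod_eq_mul i j hji.symm fun c hc => by simp [hc.1, hc.2], ← map_mul,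
            ← Units.val_mul]
          simp [hji, hji.symm]) i
      simpa [hji.symm] using this
    · exact h4 (fun _ => a) (fun _ => ha) (by simp [hι a (hD ha)]) i
  · have h7 : ∀ c, normSq (co w c).1 ^ 2 ^ K = normSq (co w i).1 ^ 2 ^ K := fun c => by
      have h8 : (co w c * (co w i)⁻¹) ^ 2 ^ K = 1 := by
        have := pow_card_eq_one' (x := (⟨_, h3 c i⟩ : ↥(T2 h2 Γ ⊔ zpowers qj)))
        rw [hK] at this
        exact congrArg Subtype.val this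
      conv_lhs => rw [← inv_mul_cancel_right (co w c) (co w i), Units.val_mul, map_mul, mul_pow,
        ← map_pow, ← Units.val_pow_eq_pow_val, h8]
      simp
    have h8 := congrArg (· ^ 2 ^ K) h6
    simp only [← Finset.prod_pow, h7, Finset.prod_const, Finset.card_univ, hc, one_pow] at h8
    rw [pow_add, mul_comm, pow_mul, h8]

end H91.QM
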