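/- The quaternion group of order eight in the group of quaternions of norm one. -/
import Cfsg.Agent.H91.PrnSelf
import Cfsg.Agent.H91.PrnAbs
import Cfsg.Agent.H7.Frobenius
import Cfsg.Agent.H36.PrinLoc
import Cfsg.Agent.H2.MinNormal
import Cfsg.Agent.S0205

set_option autoImplicit false

namespace H91.QM

open Subgroup H98 Cfsg Quaternion

variable {F : Type*} [Field F]

/-- quaternions of norm one -/
def H1 (F : Type*) [Field F] : Subgroup ℍ[F]ˣ where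
  carrier := {a | normSq a.1 = 1}
  one_mem' := map_one normSq
  mul_mem' := fun {a b} ha hb => by
    change normSq (a.1 * b.1) = 1
    rw [map_mul, ha, hb, one_mul]
  inv_mem' := fun {a} ha => by
    have h : normSq a.1 * normSq (a⁻¹).1 = 1 := by rw [← map_mul, Units.mul_inv, map_one]
    rwa [ha, one_mul] at h

theorem mem_H1 {a : ℍ[F]ˣ} : a ∈ H1 F ↔ normSq a.1 = 1 := Iff.rfl

theorem inv_eq_star {a : ℍ[F]ˣ} (h : a ∈ H1 F) : (a⁻¹).1 = star a.1 :=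
  Units.inv_eq_of_mul_eq_one_right (by rw [self_mul_star, mem_H1.1 h]; rfl)

theorem conj_H1 (g : ℍ[F]ˣ) {a : ℍ[F]ˣ} (h : a ∈ H1 F) : g * a * g⁻¹ ∈ H1 F := by
  rw [mem_H1, Units.val_mul, Units.val_mul, map_mul, map_mul, mem_H1.1 h, mul_one, ← map_mul,
    Units.mul_inv, map_one]

theorem eq_zero_of_normSq {a b : ℍ[F]} (ha : normSq a ≠ 0) (h : a * b = 0) : b = 0 := by
  have := congrArg (star a * ·) h
  simp only [← mul_assoc, star_mul_self, mul_zero, coe_mul_eq_smul] at this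
  exact (smul_eq_zero.1 this).resolve_left ha

theorem eq_zero_of_normSq' {a b : ℍ[F]} (ha : normSq a ≠ 0) (h : b * a = 0) : b = 0 := by
  have := congrArg (· * star a) h
  simp only [mul_assoc, self_mul_star, zero_mul, mul_coe_eq_smul] at this
  exact (smul_eq_zero.1 this).resolve_left ha

theorem scalar_H1 {a : ℍ[F]ˣ} (h : a ∈ H1 F) (h1 : a.1.imI = 0) (h3 : a.1.imJ = 0)
    (h4 : a.1.imK = 0) : a = 1 ∨ a = -1 := by
  rw [mem_H1, normSq_def', h1, h3, h4] at h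
  rcases mul_self_eq_one_iff.1 (show a.1.re * a.1.re = 1 by linear_combination h) with e | e
  · left; ext <;> simp [*]
  · right; ext <;> simp [*]

theorem sq_eq_one (h2 : (2 : F) ≠ 0) {a : ℍ[F]ˣ} (h : a ∈ H1 F) (e : a * a = 1) :
    a = 1 ∨ a = -1 := by
  have h1 := inv_eq_star h
  rw [inv_eq_of_mul_eq_one_right e, Quaternion.ext_iff] at h1
  simp only [re_star, imI_star, imJ_star, imK_star] at h1
  have k : ∀ x : F, x = -x → x = 0 := fun x hx =>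
    (mul_eq_zero.1 (show 2 * x = 0 by linear_combination hx)).resolve_left h2
  exact scalar_H1 h (k _ h1.2.1) (k _ h1.2.2.1) (k _ h1.2.2.2)

theorem neg_one_ne' (h2 : (2 : F) ≠ 0) : (-1 : ℍ[F]ˣ) ≠ 1 := fun e =>
  neg_one_ne h2 (congrArg Units.val e)

theorem eq_one_of_odd (h2 : (2 : F) ≠ 0) {a : ℍ[F]ˣ} (h : a = 1 ∨ a = -1) (ho : Odd (orderOf a)) :
    a = 1 := by
  refine h.resolve_right fun e => neg_one_ne' h2 ?_
  subst e
  have := pow_orderOf_eq_one (-1 : ℍ[F]ˣ)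
  rwa [ho.neg_one_pow] at this

theorem re_conj (g : ℍ[F]ˣ) (a : ℍ[F]) : (g.1 * a * (g⁻¹).1).re = a.re := by
  have h : ∀ x y : ℍ[F], (x * y).re = (y * x).re := fun x y => by simp only [re_mul]; ring
  rw [h, ← mul_assoc, Units.inv_mul, one_mul]

/-- commuting pure quaternions of norm one agree up to sign -/
theorem eq_or_neg (h2 : (2 : F) ≠ 0) {a b : ℍ[F]ˣ} (ha : a ∈ H1 F) (hb : b ∈ H1 F)
    (ra : a.1.re = 0) (rb : b.1.re = 0) (h : Commute a b) : b = a ∨ b = -a := by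
  have h3 : (a * b) * (a * b) = 1 := by
    have k : ∀ c ∈ H1 F, c.1.re = 0 → c * c = -1 := fun c hc r => by
      rw [mem_H1, normSq_def', r] at hc
      ext <;> simp [r] <;> first | linear_combination -hc | ring
    rw [h.symm.mul_mul_mul_comm, k a ha ra, k b hb rb, neg_mul_neg, one_mul]
  have h4 : a⁻¹ = -a := by ext <;> simp [inv_eq_star ha, ra, -Units.val_inv_eq_inv_val]
  rcases sq_eq_one h2 (mul_mem ha hb) h3 with e | e
  · right; rw [← h4, eq_inv_of_mul_eq_one_right e]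
  · left; rw [← inv_mul_cancel_left a b, e, h4]; simp

theorem comm_of_odd {G : Type*} [Group G] {g u : G} (ho : Odd (orderOf g))
    (h : Commute (g * g) u) : Commute g u := by
  obtain ⟨m, hm⟩ := exists_pow_eq_self_of_coprime (x := g) (n := 2) ho.coprime_two_left
  rw [← hm, pow_two]
  exact h.pow_left m

theorem comm_of_conj (h2 : (2 : F) ≠ 0) {g u : ℍ[F]ˣ} (ho : Odd (orderOf g)) (hu : u ∈ H1 F)
    (ru : u.1.re = 0) (h : Commute u (g * u * g⁻¹)) : Commute g u := by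
  rcases eq_or_neg h2 hu (conj_H1 g hu) ru ((re_conj g u.1).trans ru) h with e | e
  · exact mul_inv_eq_iff_eq_mul.1 e
  · refine comm_of_odd ho (mul_inv_eq_iff_eq_mul.1 ?_)
    calc g * g * u * (g * g)⁻¹ = g * (g * u * g⁻¹) * g⁻¹ := by group
      _ = u := by rw [e, mul_neg, neg_mul, e, neg_neg]

def qk : ℍ[F]ˣ := qi * qj

theorem val_qk : ((qk : ℍ[F]ˣ) : ℍ[F]) = mq 0 0 0 1 := by ext <;> simp [qk, val_qi, val_qj]

theorem qk_sq : (qk * qk : ℍ[F]ˣ) = -1 := by ext <;> simp [val_qk]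
theorem qij : (qi * qj : ℍ[F]ˣ) = qk := rfl
theorem qji : (qj * qi : ℍ[F]ˣ) = -(qk : ℍ[F]ˣ) := by ext <;> simp [val_qi, val_qj, val_qk]
theorem qjk : (qj * qk : ℍ[F]ˣ) = qi := by ext <;> simp [val_qi, val_qj, val_qk]
theorem qkj : (qk * qj : ℍ[F]ˣ) = -(qi : ℍ[F]ˣ) := by ext <;> simp [val_qi, val_qj, val_qk]
theorem qki : (qk * qi : ℍ[F]ˣ) = qj := by ext <;> simp [val_qi, val_qj, val_qk]
theorem qik : (qi * qk : ℍ[F]ˣ) = -(qj : ℍ[F]ˣ) := by ext <;> simp [val_qi, val_qj, val_qk]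
theorem qi_inv : (qi⁻¹ : ℍ[F]ˣ) = -(qi : ℍ[F]ˣ) := inv_eq_of_mul_eq_one_right (by simp [qi_sq])
theorem qj_inv : (qj⁻¹ : ℍ[F]ˣ) = -(qj : ℍ[F]ˣ) := inv_eq_of_mul_eq_one_right (by simp [qj_sq])
theorem qk_inv : (qk⁻¹ : ℍ[F]ˣ) = -(qk : ℍ[F]ˣ) := inv_eq_of_mul_eq_one_right (by simp [qk_sq])

/-- the quaternion group -/
def Q8 (F : Type*) [Field F] : Subgroup ℍ[F]ˣ where
  carrier := {a : ℍ[F]ˣ | a = 1 ∨ a = -1 ∨ a = qi ∨ a = -qi (F := F) ∨ a = qj ∨ a = -qj (F := F) ∨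
    a = qk ∨ a = -qk (F := F)}
  one_mem' := .inl rfl
  mul_mem' := by
    rintro a b (rfl | rfl | rfl | rfl | rfl | rfl | rfl | rfl)
      (rfl | rfl | rfl | rfl | rfl | rfl | rfl | rfl) <;>
    simp only [Set.mem_setOf_eq, qi_sq, qj_sq, qk_sq, qij, qji, qjk, qkj, qki, qik, neg_mul, mul_neg,
      neg_neg, one_mul, mul_one, true_or, or_true]
  inv_mem' := by
    rintro a (rfl | rfl | rfl | rfl | rfl | rfl | rfl | rfl) <;>
    simp only [Set.mem_setOf_eq, qi_inv, qj_inv, qk_inv, inv_neg, neg_neg, inv_one, true_or,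
      or_true]

theorem mem_Q8 {a : ℍ[F]ˣ} : a ∈ Q8 F ↔
    a = 1 ∨ a = -1 ∨ a = qi ∨ a = -qi (F := F) ∨ a = qj ∨ a = -qj (F := F) ∨ a = qk ∨
      a = -qk (F := F) := Iff.rfl

theorem qi_mem : qi ∈ Q8 F := by simp [mem_Q8]
theorem qj_mem : qj ∈ Q8 F := by simp [mem_Q8]
theorem qk_mem : qk ∈ Q8 F := by simp [mem_Q8]
theorem neg_one_mem : -1 ∈ Q8 F := by simp [mem_Q8]

theorem Q8_le {R : Subgroup ℍ[F]ˣ} (hi : qi ∈ R) (hj : qj ∈ R) : Q8 F ≤ R := by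
  have h1 : -1 ∈ R := qi_sq (F := F) ▸ mul_mem hi hi
  have h3 : ∀ a ∈ R, -a ∈ R := fun a ha => by simpa using mul_mem h1 ha
  have hk : qk ∈ R := mul_mem hi hj
  rintro a (rfl | rfl | rfl | rfl | rfl | rfl | rfl | rfl)
  exacts [one_mem _, h1, hi, h3 _ hi, hj, h3 _ hj, hk, h3 _ hk]

theorem Q8_le_H1 : Q8 F ≤ H1 F := Q8_le normSq_qi normSq_qj

theorem two_Q8 : IsPGroup 2 (Q8 F) := isPGroup_iff_forall.2 fun a ha => ⟨2, by
  rw [show 2 ^ 2 = 2 * 2 from rfl, pow_mul, pow_two a]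
  rcases ha with rfl | rfl | rfl | rfl | rfl | rfl | rfl | rfl <;> simp [qi_sq, qj_sq, qk_sq]⟩

/-- the element of order three -/
def om (h2 : (2 : F) ≠ 0) : ℍ[F]ˣ :=
  ⟨mq (-2⁻¹) 2⁻¹ 2⁻¹ 2⁻¹, mq (-2⁻¹) (-2⁻¹) (-2⁻¹) (-2⁻¹),
    by ext <;> simp <;> field_simp <;> ring, by ext <;> simp <;> field_simp <;> ring⟩

section
variable (h2 : (2 : F) ≠ 0)

theorem val_om : (om h2).1 = mq (-2⁻¹) 2⁻¹ 2⁻¹ 2⁻¹ := rfl
theorem inv_om : ((om h2)⁻¹).1 = mq (-2⁻¹) (-2⁻¹) (-2⁻¹) (-2⁻¹) := rfl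

theorem om_H1 : om h2 ∈ H1 F := by
  rw [mem_H1, normSq_def', val_om]
  simp only [mq_re, mq_imI, mq_imJ, mq_imK]
  field_simp
  ring

theorem om_cube : om h2 ^ 3 = 1 := by
  rw [pow_three', mul_eq_one_iff_eq_inv]
  ext <;> simp [val_om, inv_om, -Units.val_inv_eq_inv_val] <;> field_simp <;> ring

theorem om_qi : om h2 * qi * (om h2)⁻¹ = qk := by
  rw [mul_inv_eq_iff_eq_mul]
  ext <;> simp [val_om, val_qi, val_qk]

theorem om_qj : om h2 * qj * (om h2)⁻¹ = qi := by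
  rw [mul_inv_eq_iff_eq_mul]
  ext <;> simp [val_om, val_qi, val_qj]

theorem om_qk : om h2 * qk * (om h2)⁻¹ = qj := by
  rw [mul_inv_eq_iff_eq_mul]
  ext <;> simp [val_om, val_qk, val_qj]

variable [Finite F]

theorem nor_of {g : ℍ[F]ˣ} (hi : g * qi * g⁻¹ ∈ Q8 F) (hj : g * qj * g⁻¹ ∈ Q8 F) :
    g ∈ normalizer (Q8 F : Set ℍ[F]ˣ) :=
  mem_normalizer_of_cj_le (cj_le_iff.2 (Q8_le (mem_cj.2 (by simpa)) (mem_cj.2 (by simpa))))

theorem om_nor : om h2 ∈ normalizer (Q8 F : Set ℍ[F]ˣ) :=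
  nor_of (om_qi h2 ▸ qk_mem) (om_qj h2 ▸ qi_mem)

omit [Finite F] in
include h2 in
theorem mem_Q8_of_comm (hns : ¬ IsSquare (2 : F)) {g : ℍ[F]ˣ} (hg : g ∈ H1 F)
    (hc : Commute g qi) (hj : g * qj * g⁻¹ ∈ Q8 F) : g ∈ Q8 F := by
  obtain ⟨h3, h4⟩ := (comm_qi_iff h2).1 hc
  have h5 : g.1.re ^ 2 + g.1.imI ^ 2 = 1 := by simpa [mem_H1, normSq_def', h3, h4] using hg
  have h6 : (g * qj * g⁻¹).1 = mq 0 0 (g.1.re ^ 2 - g.1.imI ^ 2) (2 * g.1.re * g.1.imI) := by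
    rw [Units.val_mul, inv_eq_star hg]
    ext <;> simp [val_qj, h3, h4] <;> ring
  have h7 : g.1.re ^ 2 - g.1.imI ^ 2 = 0 ∨ 2 * g.1.re * g.1.imI = 0 := by
    rcases hj with e | e | e | e | e | e | e | e <;> rw [e, Quaternion.ext_iff] at h6 <;>
      simp only [val_qi, val_qj, val_qk, Units.val_neg, Units.val_one, imJ_neg, imK_neg, imJ_one,
        imK_one, mq_imJ, mq_imK, neg_zero] at h6 <;>
      first | exact .inl h6.2.2.1.symm | exact .inr h6.2.2.2.symm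
  rcases h7 with h7 | h7
  · exact absurd ⟨2 * g.1.re, by linear_combination -2 * h5 - 2 * h7⟩ hns
  · rcases mul_eq_zero.1 h7 with h7 | h7
    · have h8 := (mul_eq_zero.1 h7).resolve_left h2
      rcases eq_or_neg h2 normSq_qi hg rfl h8 hc.symm with e | e <;> simp [e, mem_Q8]
    · rcases scalar_H1 hg h7 h3 h4 with e | e <;> simp [e, mem_Q8]

include h2 in
theorem mem_Q8_of_pm (hns : ¬ IsSquare (2 : F)) {g : ℍ[F]ˣ} (hg : g ∈ H1 F)
    (hn : g ∈ normalizer (Q8 F : Set ℍ[F]ˣ)) (h : g * qi * g⁻¹ = qi ∨ g * qi * g⁻¹ = -qi (F := F)) :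
    g ∈ Q8 F := by
  rcases conj_qi_cases h2 (g := g) (by
    rcases h with e | e <;> simp [e]) with e | e
  · exact mem_Q8_of_comm h2 hns hg e (conj_mem_of_mem_normalizer hn qj_mem)
  · exact (mul_mem_cancel_left qj_mem).1 (mem_Q8_of_comm h2 hns (mul_mem (Q8_le_H1 qj_mem) hg) e
      (conj_mem_of_mem_normalizer (mul_mem (le_normalizer qj_mem) hn) qj_mem))

theorem nor_cases (hns : ¬ IsSquare (2 : F)) {g : ℍ[F]ˣ} (hg : g ∈ H1 F)
    (hn : g ∈ normalizer (Q8 F : Set ℍ[F]ˣ)) :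
    g ∈ Q8 F ∨ (om h2)⁻¹ * g ∈ Q8 F ∨ om h2 * g ∈ Q8 F := by
  have h0 : (g * qi * g⁻¹).1.re = 0 := re_conj g _
  have k : ∀ x : ℍ[F]ˣ, x * g * qi * (x * g)⁻¹ = x * (g * qi * g⁻¹) * x⁻¹ := fun x => by group
  have k1 : (om h2)⁻¹ * qk * (om h2)⁻¹⁻¹ = qi := by rw [← om_qi h2]; group
  have m1 := mem_Q8_of_pm h2 hns (mul_mem (om_H1 h2) hg) (mul_mem (om_nor h2) hn)
  have m2 := mem_Q8_of_pm h2 hns (mul_mem (inv_mem (om_H1 h2)) hg) (mul_mem (inv_mem (om_nor h2)) hn)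
  rw [k] at m1 m2
  rcases conj_mem_of_mem_normalizer hn qi_mem with e | e | e | e | e | e | e | e
  · simp [e] at h0
  · simp [e] at h0
  · exact .inl (mem_Q8_of_pm h2 hns hg hn (.inl e))
  · exact .inl (mem_Q8_of_pm h2 hns hg hn (.inr e))
  · exact .inr (.inr (m1 (.inl (by rw [e, om_qj]))))
  · exact .inr (.inr (m1 (.inr (by rw [e, mul_neg, neg_mul, om_qj]))))
  · exact .inr (.inl (m2 (.inl (by rw [e, k1]))))
  · exact .inr (.inl (m2 (.inr (by rw [e, mul_neg, neg_mul, k1]))))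

include h2 in
theorem isSyl_Q8 (hns : ¬ IsSquare (2 : F)) : IsSyl 2 (Q8 F) (H1 F) :=
  isSyl_of_tri two_Q8 Q8_le_H1 (om_cube h2) (om_nor h2) fun _ => nor_cases h2 hns

omit [Finite F] in
theorem Q8_le_of_not_comm {R : Subgroup ℍ[F]ˣ} {r s : ℍ[F]ˣ} (hr : r ∈ R) (hs : s ∈ R)
    (h3 : r ∈ Q8 F) (h4 : s ∈ Q8 F) (h : ¬ Commute r s) : Q8 F ≤ R := by
  have k : ∀ a : ℍ[F]ˣ, a * a = -1 → a ∈ R ∨ -a ∈ R → a ∈ R := fun a ha h => h.elim id fun h => by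
    rwa [← inv_mem_iff, inv_eq_of_mul_eq_one_right (show a * -a = 1 by rw [mul_neg, ha, neg_neg])]
  have k1 : qj ∈ R → qk ∈ R → Q8 F ≤ R := fun h1 h3 => Q8_le (qjk (F := F) ▸ mul_mem h1 h3) h1
  have k2 : qk ∈ R → qi ∈ R → Q8 F ≤ R := fun h1 h3 => Q8_le h3 (qki (F := F) ▸ mul_mem h1 h3)
  have ki := k qi qi_sq
  have kj := k qj qj_sq
  have kk := k qk qk_sq
  rcases h3 with rfl | rfl | rfl | rfl | rfl | rfl | rfl | rfl <;>
    rcases h4 with rfl | rfl | rfl | rfl | rfl | rfl | rfl | rfl <;>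
    first
      | (refine absurd ?_ h; simp; done)
      | (refine Q8_le (ki ?_) (kj ?_) <;> (simp [hr, hs]; done))
      | (refine k1 (kj ?_) (kk ?_) <;> (simp [hr, hs]; done))
      | (refine k2 (kk ?_) (ki ?_) <;> (simp [hr, hs]; done))

theorem npc (hns : ¬ IsSquare (2 : F)) {L : Subgroup ℍ[F]ˣ} (hQ : Q8 F ≤ L) (hL : L ≤ H1 F)
    (ho : om h2 ∉ L) : HasNormalPComplement 2 L := by
  obtain ⟨P, hP⟩ := ((isSyl_Q8 h2 hns).of_le hQ hL).exists_sylow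
  refine H7.hasNPC_of_normalizer_centralizer_sylow P fun R hR _ g hg hc => ?_
  have og : Odd (orderOf g.1) := by rw [Subgroup.orderOf_coe]; exact hc.odd_of_right
  rw [hP] at hR
  refine mem_centralizer_iff.2 fun r hr => Subtype.ext ?_
  have h1 := conj_mem_of_mem_normalizer hg hr
  by_cases hrc : Commute r.1 (g.1 * r.1 * g.1⁻¹)
  · by_cases h0 : r.1.1.re = 0
    · exact (comm_of_conj h2 og (hL r.2) h0 hrc).symm
    · have h6 : r.1 ∈ Q8 F := hR hr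
      rcases mem_Q8.1 h6 with e | e | e | e | e | e | e | e <;>
        simp [e, val_qi, val_qj, val_qk] at h0 ⊢
  · have h3 := Q8_le_of_not_comm (mem_map_of_mem L.subtype hr) (mem_map_of_mem L.subtype h1)
      (hR hr) (hR h1) hrc
    have h4 : ∀ a ∈ Q8 F, g.1 * a * g.1⁻¹ ∈ Q8 F := fun a ha => by
      obtain ⟨b, hb, rfl⟩ := h3 ha
      exact hR (conj_mem_of_mem_normalizer hg hb)
    have h5 : g.1 ∈ Q8 F := by
      rcases nor_cases h2 hns (hL g.2) (nor_of (h4 _ qi_mem) (h4 _ qj_mem)) with e | e | e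
      · exact e
      · exact absurd (inv_mem_iff.1 ((mul_mem_cancel_right g.2).1 (hQ e))) ho
      · exact absurd ((mul_mem_cancel_right g.2).1 (hQ e)) ho
    obtain ⟨k, hk⟩ := isPGroup_iff_forall.1 two_Q8 _ h5
    have h6 : g.1 = 1 := orderOf_eq_one_iff.1 ((og.coprime_two_right.pow_right k).eq_one_of_dvd
      (orderOf_dvd_of_pow_eq_one hk))
    simp [h6]

theorem exists_axis (hns : ¬ IsSquare (2 : F)) {L : Subgroup ℍ[F]ˣ} (hQ : Q8 F ≤ L)
    (hL : L ≤ H1 F) (ho : om h2 ∉ L) : ∃ u, (u = qi ∨ u = qj ∨ u = qk) ∧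
      ∀ a ∈ L, Odd (orderOf a) → Commute a u := by
  have hm : ∀ x : L, x ∈ pPrimeCore 2 L ↔ Odd (orderOf x.1) := fun x => by
    rw [H36.mem_pPrimeCore_iff_of_hasNPC (npc h2 hns hQ hL ho), Subgroup.orderOf_coe,
      Nat.two_dvd_ne_zero, Nat.odd_iff]
  by_cases hb : pPrimeCore 2 L = ⊥
  · refine ⟨qi, .inl rfl, fun a ha h => ?_⟩
    have := (hm ⟨a, ha⟩).2 h
    rw [hb, mem_bot] at this
    rw [show a = 1 from congrArg Subtype.val this]
    exact Commute.one_left _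
  have := Agent.S0205.result (H2.coprime_card_pPrimeCore 2 L).odd_of_right
  obtain ⟨p, M, -, hM, hMO, h0, ⟨hc, -⟩, -⟩ := H2.exists_elementaryAbelian_normal_le _ hb
  obtain ⟨⟨a, haM⟩, ha1⟩ := (nontrivial_iff_exists_ne 1).1 ((nontrivial_iff_ne_bot M).2 h0)
  have h1 : ∀ g ∈ L, Commute a.1 (g * a.1 * g⁻¹) := fun g hg =>
    congrArg (fun x : M => x.1.1) (hc.is_comm.comm ⟨a, haM⟩ ⟨_, hM.conj_mem a haM ⟨g, hg⟩⟩)
  have key : ∀ u ∈ H1 F, u.1.re = 0 → ∀ x : F, x ≠ 0 → a.1.1 = (a.1.1.re : ℍ[F]) + x • u.1 →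
      ∀ b ∈ L, Odd (orderOf b) → Commute b u := fun u hu ru x hx e b hb ob => by
    refine comm_of_conj h2 ob hu ru (Units.ext ?_)
    have h3 := congrArg Units.val (h1 b hb)
    have e2 : (b * a.1 * b⁻¹).1 = (a.1.1.re : ℍ[F]) + x • (b * u * b⁻¹).1 := by
      rw [Units.val_mul, Units.val_mul, Units.val_mul, Units.val_mul]
      conv_lhs => rw [e]
      rw [mul_add, add_mul, ← coe_commutes, mul_assoc, Units.mul_inv, mul_one, mul_smul_comm,
        smul_mul_assoc]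
    rw [Units.val_mul, Units.val_mul (b * a.1 * b⁻¹), e2] at h3
    rw [Units.val_mul, Units.val_mul (b * u * b⁻¹)]
    generalize (b * u * b⁻¹).1 = v at h3
    generalize a.1.1.re = c at e h3
    rw [e] at h3
    simp only [mul_add, add_mul, coe_mul_eq_smul, mul_coe_eq_smul, smul_mul_assoc, mul_smul_comm,
      smul_add] at h3
    have h4 : x • x • (u.1 * v) = x • x • (v * u.1) := by
      rw [smul_comm x c u.1, smul_comm x c v] at h3
      linear_combination (norm := abel1) h3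
    exact smul_right_injective _ hx (smul_right_injective _ hx h4)
  have h3 := congrArg Units.val (h1 _ (hQ qi_mem))
  have h4 := congrArg Units.val (h1 _ (hQ qj_mem))
  simp only [Units.val_mul, val_qi, val_qj, inv_qi, inv_qj, Quaternion.ext_iff, re_mul, imI_mul,
    imJ_mul, imK_mul, mq_re, mq_imI, mq_imJ, mq_imK] at h3 h4
  have k : ∀ x : F, 2 * (2 * x) = 0 → x = 0 := fun x hx =>
    (mul_eq_zero.1 ((mul_eq_zero.1 hx).resolve_left h2)).resolve_left h2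
  have e1 : a.1.1.imI * a.1.1.imJ = 0 := k _ (by linear_combination -h3.2.2.2)
  have e2 : a.1.1.imI * a.1.1.imK = 0 := k _ (by linear_combination h3.2.2.1)
  have e3 : a.1.1.imJ * a.1.1.imK = 0 := k _ (by linear_combination -h4.2.1)
  by_cases a1 : a.1.1.imI = 0
  · by_cases a2 : a.1.1.imJ = 0
    · have a3 : a.1.1.imK ≠ 0 := fun a3 => ha1 (Subtype.ext (Subtype.ext
        (eq_one_of_odd h2 (scalar_H1 (hL a.2) a1 a2 a3) ((hm a).1 (hMO haM)))))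
      exact ⟨qk, by simp, key _ (Q8_le_H1 qk_mem) (by simp [val_qk]) _ a3
        (by ext <;> simp [val_qk, a1, a2])⟩
    · exact ⟨qj, by simp, key _ (Q8_le_H1 qj_mem) rfl _ a2
        (by ext <;> simp [val_qj, a1, (mul_eq_zero.1 e3).resolve_left a2])⟩
  · exact ⟨qi, by simp, key _ (Q8_le_H1 qi_mem) rfl _ a1 (by
      ext <;> simp [val_qi, (mul_eq_zero.1 e1).resolve_left a1, (mul_eq_zero.1 e2).resolve_left a1])⟩

omit [Finite F] in
include h2 in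
theorem scalar_of_two {b : ℍ[F]ˣ} (h : (Commute b qi ∧ Commute b qj) ∨
    (Commute b qj ∧ Commute b qk) ∨ (Commute b qk ∧ Commute b qi)) :
    b.1.imI = 0 ∧ b.1.imJ = 0 ∧ b.1.imK = 0 := by
  have h3 : Commute b qi ∧ Commute b qj := by
    rcases h with h | h | h
    · exact h
    · exact ⟨qjk (F := F) ▸ h.1.mul_right h.2, h.1⟩
    · exact ⟨h.2, qki (F := F) ▸ h.1.mul_right h.2⟩
  obtain ⟨h4, h5⟩ := (comm_qi_iff h2).1 h3.1
  have h6 := congrArg (fun x : ℍ[F]ˣ => x.1.imK) h3.2.eq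
  simp [val_qj] at h6
  exact ⟨(mul_eq_zero.1 (show 2 * b.1.imI = 0 by linear_combination h6)).resolve_left h2, h4, h5⟩

theorem le_Q8 (hns : ¬ IsSquare (2 : F)) {A L : Subgroup ℍ[F]ˣ} (hQ : Q8 F ≤ A) (hA : A ≤ L)
    (hc : cj (om h2) A ≤ L) (hL : L ≤ H1 F) (ho : om h2 ∉ L) : A ≤ Q8 F := by
  obtain ⟨u, hu, h⟩ := exists_axis h2 hns (hQ.trans hA) hL ho
  refine (((isSyl_Q8 h2 hns).of_le hQ (hA.trans hL)).eq_of_isPGroup
    (isPGroup_iff_forall.2 fun a ha => ?_)).ge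
  obtain ⟨k, n, hn, hk⟩ := Nat.exists_eq_two_pow_mul_odd (orderOf_pos a).ne'
  have ob : Odd (orderOf (a ^ 2 ^ k)) := by
    rwa [orderOf_pow_of_dvd (by positivity) ⟨n, hk⟩, hk, Nat.mul_div_cancel_left _ (by positivity)]
  refine ⟨k, ?_⟩
  have hb := pow_mem ha (2 ^ k)
  generalize a ^ 2 ^ k = b at ob hb
  have h1 := h b (hA hb) ob
  have h3 := h _ (hc (conj_mem_cj hb)) (((MulAut.conj (om h2)).orderOf_eq b).symm ▸ ob)
  have h4 : ∀ v, Commute (om h2 * b * (om h2)⁻¹) (om h2 * v * (om h2)⁻¹) → Commute b v :=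
    fun v hv => by simpa [mul_assoc] using hv.map (MulAut.conj (om h2)⁻¹)
  obtain ⟨e1, e2, e3⟩ := scalar_of_two h2 (b := b) (by
    rcases hu with rfl | rfl | rfl
    · exact .inl ⟨h1, h4 _ ((om_qj h2).symm ▸ h3)⟩
    · exact .inr (.inl ⟨h1, h4 _ ((om_qk h2).symm ▸ h3)⟩)
    · exact .inr (.inr ⟨h1, h4 _ ((om_qi h2).symm ▸ h3)⟩))
  exact eq_one_of_odd h2 (scalar_H1 (hL (hA hb)) e1 e2 e3) ob

end

end H91.QM
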