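/- Subgroups of the quaternionic unitary group containing all blocks `Q8`. -/
import Cfsg.Agent.H91.PrnQ8

set_option autoImplicit false

namespace H91.QM

open Subgroup H98 Cfsg H86 H86.FW Quaternion

variable {F : Type*} [Field F] {ι : Type*} [Fintype ι] [DecidableEq ι]

/-- the quaternionic unitary group -/
def UU (ι F : Type*) [Field F] [Fintype ι] [DecidableEq ι] : Subgroup (Matrix ι ι ℍ[F])ˣ where
  carrier := {g | (g⁻¹).1 = star g.1}
  one_mem' := by simp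
  mul_mem' := fun {a b} ha hb => by
    change ((a * b)⁻¹).1 = star (a.1 * b.1)
    rw [mul_inv_rev, Units.val_mul, star_mul, ha, hb]
  inv_mem' := fun {a} ha => by
    change a.1 = star (a⁻¹).1
    rw [ha, star_star]

theorem inv_apply {g : (Matrix ι ι ℍ[F])ˣ} (hg : g ∈ UU ι F) (a b : ι) :
    (g⁻¹).1 a b = star (g.1 b a) := by
  rw [show (g⁻¹).1 = star g.1 from hg, Matrix.star_apply]

theorem frame_UU : Frame (H1 F) (UU ι F) := fun w => by
  have h1 : ∀ a b, (mon w)⁻¹.1 a b = if b = pm w a then ((co w b)⁻¹).1 else 0 := fun a b => by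
    rw [← map_inv, mon_apply, co_inv, map_inv]
    by_cases h : b = pm w a
    · simp [h]
    · rw [if_neg h, if_neg fun e => h (by rw [e]; simp)]
  constructor
  · intro h
    have h2 : ∀ i, co w i ∈ H1 F := fun i => by
      have := inv_apply h ((pm w)⁻¹ i) i
      rw [h1, mon_apply, if_pos (by simp), if_pos (by simp)] at this
      have h3 : ((normSq (co w i).1 : F) : ℍ[F]) = ((1 : F) : ℍ[F]) := by
        rw [← self_mul_star, ← this, Units.mul_inv]; rfl
      exact coe_injective h3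
    exact ⟨h2, Finset.prod_eq_one fun i _ => h2 i⟩
  · refine fun h => Matrix.ext fun a b => ?_
    rw [h1, Matrix.star_apply, mon_apply]
    split_ifs
    exacts [inv_eq_star (h.1 b), (star_zero _).symm]

/-- matrices fixing the coordinate vectors outside `J` -/
def Fx (J : Finset ι) (F : Type*) [Field F] : Subgroup (Matrix ι ι ℍ[F])ˣ where
  carrier := {g | ∀ b ∉ J, ∀ a, g.1 a b = if a = b then 1 else 0}
  one_mem' := fun _ _ _ => rfl
  mul_mem' := fun {g h} hg hh b hb a => by simp [Matrix.mul_apply, hh b hb, hg b hb]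
  inv_mem' := fun {g} hg b hb a => by
    have := sum_inv g⁻¹ a b
    simpa [hg b hb, -Units.val_inv_eq_inv_val, -Matrix.coe_units_inv] using this

variable {J : Finset ι} {K : Subgroup (Matrix ι ι ℍ[F])ˣ}

theorem off_eq {g : (Matrix ι ι ℍ[F])ˣ} (hU : g ∈ UU ι F) (hg : g ∈ Fx J F) {a b : ι}
    (h : a ∉ J ∨ b ∉ J) (hab : a ≠ b) : g.1 a b = 0 := by
  rcases h with h | h
  · have := inv_mem hg a h b
    rwa [inv_apply hU, if_neg hab.symm, star_eq_zero] at this
  · rw [hg b h, if_neg hab]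

theorem co_eq_one {w : FW ι ℍ[F]ˣ Unit} (h : mon w ∈ Fx J F) {a : ι} (ha : a ∉ J) :
    pm w a = a ∧ co w a = 1 := by
  have h1 := h a ha a
  rw [mon_apply, if_pos rfl] at h1
  split_ifs at h1 with e
  exacts [⟨e.symm, Units.ext h1⟩, absurd h1 zero_ne_one]

theorem base_mem_Fx {d : ι → ℍ[F]ˣ} (h : ∀ a ∉ J, d a = 1) : mon (base d) ∈ Fx J F :=
  fun b hb a => by
    rw [mon_base]
    split_ifs with e
    exacts [by rw [e, h b hb, Units.val_one], rfl]

theorem mul_base (g : Matrix ι ι ℍ[F]) (d : ι → ℍ[F]ˣ) (a b : ι) :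
    (g * (mon (base d)).1) a b = g a b * d b := by
  simp [Matrix.mul_apply, mon_base]

theorem base_mul (g : Matrix ι ι ℍ[F]) (d : ι → ℍ[F]ˣ) (a b : ι) :
    ((mon (base d)).1 * g) a b = d a * g a b := by
  simp [Matrix.mul_apply, mon_base]

theorem mul_blk_mul (g h : Matrix ι ι ℍ[F]) (i : ι) (s : ℍ[F]ˣ) (a b : ι) :
    (g * (mon (blk i s)).1 * h) a b = (g * h) a b + g a i * (s - 1) * h i b := by
  rw [Matrix.mul_apply, Matrix.mul_apply, ← Finset.add_sum_erase _ _ (Finset.mem_univ i),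
    ← Finset.add_sum_erase _ _ (Finset.mem_univ i), blk_apply, mul_base, Pi.mulSingle_eq_same,
    Finset.sum_congr rfl fun c hc => by
      rw [mul_base, Pi.mulSingle_eq_of_ne (Finset.ne_of_mem_erase hc), Units.val_one, mul_one]]
  noncomm_ring

theorem conj_blk' (w : FW ι ℍ[F]ˣ Unit) (a : ι) (s : ℍ[F]ˣ) :
    w * blk a s * w⁻¹ = blk (pm w a) (co w (pm w a) * s * (co w (pm w a))⁻¹) := by
  refine ext' (fun c => ?_) (by simp) rfl
  rw [blk_apply, co_conj_base, co_blk]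
  split_ifs with h
  · simp [h]
  · rw [Pi.mulSingle_eq_of_ne fun e => h (by rw [← e]; simp), mul_one, mul_inv_cancel]

theorem eq_base {w : FW ι ℍ[F]ˣ Unit} (h : pm w = 1) : w = base (co w) :=
  ext' (fun _ => rfl) h rfl

theorem exists_base [Finite F] {y : (Matrix ι ι ℍ[F])ˣ} (h : ∀ a b, a ≠ b → y.1 a b = 0) :
    ∃ d, y = mon (base d) := by
  have h1 : ∀ a, y.1 a a * (y⁻¹).1 a a = 1 := fun a => by
    have := sum_inv y a a
    rwa [if_pos rfl, Fintype.sum_eq_single a fun c hc => by rw [h a c hc.symm, zero_mul]] at this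
  refine ⟨fun a => ⟨_, _, h1 a, mul_eq_one_comm.1 (h1 a)⟩, Units.ext (Matrix.ext fun a b => ?_)⟩
  rw [mon_base]
  split_ifs with e
  exacts [by rw [e], h a b e]

/-- the involution with `-1` on `J` -/
def zz (J : Finset ι) (F : Type*) [Field F] : (Matrix ι ι ℍ[F])ˣ :=
  mon (base fun a => if a ∈ J then -1 else 1)

theorem zz_comm {g : (Matrix ι ι ℍ[F])ˣ} (hU : g ∈ UU ι F) (hg : g ∈ Fx J F) :
    g * zz J F = zz J F * g := by
  refine Units.ext (Matrix.ext fun a b => ?_)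
  rw [zz, Units.val_mul, Units.val_mul, mul_base, base_mul]
  by_cases ha : a ∈ J <;> by_cases hb : b ∈ J <;> simp only [ha, hb, if_true, if_false]
  · simp
  · rw [off_eq hU hg (.inr hb) fun e => hb (e ▸ ha)]; simp
  · rw [off_eq hU hg (.inl ha) fun e => ha (e ▸ hb)]; simp
  · simp

theorem base_eq_iff {d e : ι → ℍ[F]ˣ} : mon (base d) = mon (base e) ↔ d = e :=
  (mon_inj.comp base_injective).eq_iff

theorem sign_cases {a b : ι} (ha : a ∈ J) (hb : b ∈ J) (hab : a ≠ b)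
    (hJ : ∀ x ∈ J, x = a ∨ x = b) {ε : ι → ℍ[F]ˣ} (hε : ∀ a, ε a = 1 ∨ ε a = -1)
    (h : mon (base ε) ∈ Fx J F) : mon (base ε) = 1 ∨ mon (base ε) = zz J F ∨
      mon (base ε) = mon (blk a (-1)) ∨ mon (base ε) = mon (blk b (-1)) := by
  have k : ∀ d : ι → ℍ[F]ˣ, ε a = d a → ε b = d b → (∀ x ∉ J, d x = 1) →
      mon (base ε) = mon (base d) := fun d h1 h3 h4 => base_eq_iff.2 (funext fun x => by
    by_cases hx : x ∈ J
    · rcases hJ x hx with rfl | rfl
      exacts [h1, h3]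
    · rw [h4 x hx]; exact (co_eq_one h hx).2)
  have k1 : ∀ c ∈ J, ∀ x ∉ J, (Pi.mulSingle c (-1) : ι → ℍ[F]ˣ) x = 1 := fun c hc x hx =>
    Pi.mulSingle_eq_of_ne (ne_of_mem_of_not_mem hc hx).symm _
  rcases hε a with e1 | e1 <;> rcases hε b with e2 | e2
  · exact .inl ((k 1 e1 e2 fun _ _ => rfl).trans (by simp))
  · exact .inr (.inr (.inr (k _ (by simp [e1, hab]) (by simp [e2]) (k1 b hb))))
  · exact .inr (.inr (.inl (k _ (by simp [e1]) (by simp [e2, hab.symm]) (k1 a ha))))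
  · exact .inr (.inl (k _ (by simp [e1, ha]) (by simp [e2, hb]) fun x hx => if_neg hx))

/-- the hypotheses of the induction -/
structure Cx (J : Finset ι) (K : Subgroup (Matrix ι ι ℍ[F])ˣ) : Prop where
  U : K ≤ UU ι F
  fx : K ≤ Fx J F
  bl : ∀ i ∈ J, ∀ s ∈ Q8 F, mon (blk i s) ∈ K
  nb : ∀ g ∈ K, ∀ i ∈ J, ∀ w, g * mon (blk i (-1)) * g⁻¹ = mon w → pm w = 1

theorem Cx.sub (h : Cx J K) {I : Finset ι} (hI : I ⊆ J) : Cx I (K ⊓ Fx I F) :=
  ⟨inf_le_left.trans h.U, inf_le_right, fun i hi s hs => ⟨h.bl i (hI hi) s hs,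
    base_mem_Fx fun _ ha => Pi.mulSingle_eq_of_ne (ne_of_mem_of_not_mem hi ha).symm _⟩,
    fun g hg i hi => h.nb g hg.1 i (hI hi)⟩

theorem key_q (h2 : (2 : F) ≠ 0) (u : ℍ[F]) :
    1 + u * (qi.1 - 1) * star u + (1 + u * (qi.1 - 1) * star u) - 1 ≠ 0 := fun h => by
  have h1 : normSq (u * qi.1 * star u) = normSq u * normSq u := by
    rw [map_mul, map_mul, normSq_qi, normSq_star, mul_one]
  have h3 : (u * qi.1 * star u).re = 0 := by simp [val_qi]; ring
  rw [mul_sub, sub_mul, mul_one, self_mul_star] at h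
  generalize u * qi.1 * star u = X at h h1 h3
  generalize normSq u = n at h h1
  simp [Quaternion.ext_iff, h3, add_self_eq_zero, ← two_mul X.imI, ← two_mul X.imJ,
    ← two_mul X.imK, h2] at h
  rw [normSq_def', h3, h.2.1, h.2.2.1, h.2.2.2] at h1
  have h4 : n = 0 := mul_self_eq_zero.1 (by linear_combination -h1)
  simp [h4] at h

theorem diag_ne (h2 : (2 : F) ≠ 0) {g : (Matrix ι ι ℍ[F])ˣ} (hg : g ∈ UU ι F) {a b : ι}
    (hab : b ≠ a) {q : ℍ[F]ˣ} {ε : ι → ℍ[F]ˣ} (hε : ∀ a, ε a = 1 ∨ ε a = -1)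
    (h4 : mon (blk b q) = g * mon (base ε) * g⁻¹ * mon (blk a qi) * (g * mon (base ε) * g⁻¹)⁻¹)
    (c : ι) : (g⁻¹ * mon (blk a qi * blk b q) * g).1 c c ≠ 0 := by
  have h7 : (mon (blk a qi * blk b q)).1 = (mon (blk a qi)).1 + (mon (blk b q)).1 - 1 := by
    rw [blk_apply, blk_apply, ← map_mul]
    ext1 x y
    simp only [Matrix.sub_apply, Matrix.add_apply, mon_base, Matrix.one_apply, Pi.mul_apply]
    split_ifs with e
    · by_cases h8 : x = a
      · simp [h8, hab.symm]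
      · simp [h8]
    · simp
  have h8 : (g⁻¹ * mon (blk b q) * g).1 c c = (g⁻¹ * mon (blk a qi) * g).1 c c := by
    rw [show g⁻¹ * mon (blk b q) * g = mon (base ε) * (g⁻¹ * mon (blk a qi) * g) *
      mon (base ε⁻¹) by rw [h4, map_inv, map_inv]; group, Units.val_mul, mul_base,
      Units.val_mul, base_mul]
    rcases hε c with e | e <;> simp [e]
  have h9 := conj_blk g⁻¹ a qi c c
  rw [inv_inv, if_pos rfl, ← star_star (g.1 a c), ← inv_apply hg] at h9
  have h10 := key_q h2 ((g⁻¹).1 c a)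
  rw [← h9] at h10
  nth_rewrite 2 [← h8] at h10
  rw [Units.val_mul, Units.val_mul, h7]
  simpa only [mul_add, add_mul, mul_sub, sub_mul, mul_one, Units.inv_mul, Units.val_mul,
    Matrix.add_apply, Matrix.sub_apply, Matrix.one_apply_eq] using h10

variable [Finite F] (h2 : (2 : F) ≠ 0) (h : Cx J K)
  (ih : ∀ I ⊂ J, ∀ L : Subgroup (Matrix ι ι ℍ[F])ˣ, Cx I L → L ≤ Mon ι F)
include h2 h ih

theorem Cx.c1 {c : (Matrix ι ι ℍ[F])ˣ} (hc : c ∈ K) {ε : ι → ℍ[F]ˣ}
    (hε : ∀ a, ε a = 1 ∨ ε a = -1) (he : mon (base ε) ∈ K) (h1 : mon (base ε) ≠ 1)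
    (hz : mon (base ε) ≠ zz J F) {d : ι → ℍ[F]ˣ} (hd : c * mon (base ε) * c⁻¹ = mon (base d)) :
    c ∈ Mon ι F := by
  have hy : mon (base d) ∈ K := hd ▸ mul_mem (mul_mem hc he) (inv_mem hc)
  have h3 : ∀ a, d a = 1 ∨ d a = -1 := fun a => by
    refine sq_eq_one h2 (((frame_UU _).1 (h.U hy)).1 a) ?_
    have h4 : ε * ε = 1 := funext fun a => by rcases hε a with e | e <;> simp [e]
    have : mon (base (d * d)) = mon (base 1) := by
      rw [map_mul, map_mul, ← hd, conj_mul, ← map_mul, ← map_mul, h4]; simp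
    exact congrFun (base_eq_iff.1 this) a
  refine mem_range_of_col fun i => ?_
  by_cases hi : i ∈ J
  swap
  · exact ⟨i, fun b hb => ⟨off_eq (h.U hc) (h.fx hc) (.inr hi) hb,
      off_eq (h.U (inv_mem hc)) (h.fx (inv_mem hc)) (.inl hi) hb.symm⟩⟩
  classical
  have h4 : J.filter (fun a => d a = ε i) ⊂ J := by
    refine Finset.filter_ssubset.2 ?_
    by_contra h4
    push Not at h4
    have h5 : ∀ a ∉ J, d a = 1 := fun a ha => (co_eq_one (h.fx hy) ha).2
    rw [mul_inv_eq_iff_eq_mul] at hd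
    rcases hε i with e | e
    · have : d = 1 := funext fun a => by
        by_cases ha : a ∈ J
        exacts [(h4 a ha).trans e, h5 a ha]
      exact h1 (by simpa [this] using hd)
    · have : mon (base d) = zz J F := base_eq_iff.2 (funext fun a => by
        split_ifs with ha
        exacts [(h4 a ha).trans e, h5 a ha])
      rw [this, ← zz_comm (h.U hc) (h.fx hc)] at hd
      exact hz (mul_left_cancel hd)
  have h5 : ∀ s ∈ Q8 F, c * mon (blk i s) * c⁻¹ ∈ Mon ι F := fun s hs => by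
    refine ih _ h4 _ (h.sub h4.subset) (mem_inf.2 ⟨mul_mem (mul_mem hc (h.bl i hi s hs))
      (inv_mem hc), fun b hb a => ?_⟩)
    have h6 : c.1 b i = 0 := by
      by_cases hb' : b ∈ J
      swap
      · exact off_eq (h.U hc) (h.fx hc) (.inl hb') fun e => hb' (e ▸ hi)
      have h7 := congrArg (fun x : (Matrix ι ι ℍ[F])ˣ => x.1 b i) (mul_inv_eq_iff_eq_mul.1 hd)
      simp only [Units.val_mul, mul_base, base_mul] at h7
      rw [Finset.mem_filter, not_and] at hb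
      rcases h3 b with e | e <;> rcases hε i with e' | e'
      · exact absurd (e.trans e'.symm) (hb hb')
      · exact eq_zero_of_neg h2 (by simpa [e, e'] using h7)
      · exact eq_zero_of_neg h2 (by simpa [e, e'] using h7.symm)
      · exact absurd (e.trans e'.symm) (hb hb')
    rw [conj_blk, inv_apply (h.U hc), h6, star_zero, mul_zero, add_zero]
  exact col_of_conj h2 (h5 _ qi_mem) (h5 _ qj_mem)

theorem Cx.c2 {g : (Matrix ι ι ℍ[F])ˣ} (hg : g ∈ K) (hM : g ∉ Mon ι F) {ε : ι → ℍ[F]ˣ}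
    (hε : ∀ a, ε a = 1 ∨ ε a = -1) (he : mon (base ε) ∈ K)
    (hy : g * mon (base ε) * g⁻¹ ∈ Mon ι F) : mon (base ε) = 1 ∨ mon (base ε) = zz J F := by
  by_contra hn
  obtain ⟨h1, hz⟩ := not_or.1 hn
  obtain ⟨w, hw⟩ := hy
  have hwK : mon w ∈ K := hw ▸ mul_mem (mul_mem hg he) (inv_mem hg)
  obtain ⟨a, hab⟩ : ∃ a, pm w a ≠ a := by
    by_contra h3
    push Not at h3
    refine hM (h.c1 h2 ih hg hε he h1 hz (d := co w) ?_)
    rw [← hw, ← eq_base (Equiv.ext h3)]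
  have hww : w * w = 1 := mon_inj (by
    have h4 : ε * ε = 1 := funext fun a => by rcases hε a with e | e <;> simp [e]
    rw [map_mul, hw, conj_mul, ← map_mul, ← map_mul, h4]; simp)
  have ha : a ∈ J := by_contra fun ha => hab (co_eq_one (h.fx hwK) ha).1
  have hb : pm w a ∈ J := by_contra fun hb => hab ((pm w).injective (co_eq_one (h.fx hwK) hb).1)
  have h3 := conj_blk' w a qi
  obtain ⟨b, hb0⟩ : ∃ b, pm w a = b := ⟨_, rfl⟩
  rw [hb0] at hab hb h3
  generalize hq : co w b * qi * (co w b)⁻¹ = q at h3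
  have hqq : q * q = -1 := by rw [← hq, conj_mul, qi_sq]; simp
  have hβ := h.bl a ha qi qi_mem
  have h4 : mon (blk b q) = mon w * mon (blk a qi) * (mon w)⁻¹ := by
    rw [← h3, map_mul, map_mul, map_inv]
  have hβ' : mon (blk b q) ∈ K := h4 ▸ mul_mem (mul_mem hwK hβ) (inv_mem hwK)
  have h5 : Commute (blk a qi * blk b q) w := by
    have : w * blk b q * w⁻¹ = blk a qi := by
      rw [← h3, ← mul_assoc, ← mul_assoc, hww, one_mul, mul_assoc, ← mul_inv_rev, hww]; simp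
    rw [Commute, SemiconjBy, eq_comm, ← mul_inv_eq_iff_eq_mul, ← conj_mul, h3, this]
    exact commute_blk hab _ _
  obtain ⟨v, hv⟩ := h.c1 h2 ih (c := g⁻¹ * mon (blk a qi * blk b q) * g) (mul_mem (mul_mem
    (inv_mem hg) (by rw [map_mul]; exact mul_mem hβ hβ')) hg) hε he h1 hz (d := ε) (by
      have := (h5.map mon).eq
      rw [hw] at this
      rw [mul_inv_eq_iff_eq_mul]
      calc _ = g⁻¹ * (mon (blk a qi * blk b q) * (g * mon (base ε) * g⁻¹)) * g := by group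
        _ = _ := by rw [this]; group)
  have h6 : pm v = 1 := Equiv.ext fun c => by_contra fun (hc : pm v c ≠ c) =>
    diag_ne h2 (h.U hg) hab hε (by rw [h4, hw]) c (by rw [← hv, mon_apply, if_neg hc.symm])
  have h7 : blk a (-1) * blk b (-1) = (base (Pi.mulSingle a (-1) * Pi.mulSingle b (-1)) :
    FW ι ℍ[F]ˣ Unit) := by rw [blk_apply, blk_apply, map_mul]
  have h8 : ∀ x, (Pi.mulSingle a (-1) * Pi.mulSingle b (-1) : ι → ℍ[F]ˣ) x =
      if x = a ∨ x = b then -1 else 1 := fun x => by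
    by_cases e : x = a
    · simp [e, hab.symm]
    · by_cases e' : x = b <;> simp [e, e', hab]
  by_cases hJ : ∀ x ∈ J, x = a ∨ x = b
  · rcases sign_cases ha hb hab.symm hJ hε (h.fx he) with e | e | e | e
    · exact h1 e
    · exact hz e
    · exact hab (by rw [← hb0, h.nb g hg a ha w (by rw [hw, e])]; rfl)
    · exact hab (by rw [← hb0, h.nb g hg b hb w (by rw [hw, e])]; rfl)
  push Not at hJ
  obtain ⟨x, hx, h9⟩ := hJ
  refine hM (inv_mem_iff.1 (h.c1 h2 ih (inv_mem hg) (ε := Pi.mulSingle a (-1) * Pi.mulSingle b (-1))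
    (fun x => by rw [h8]; split_ifs <;> simp) (by
      rw [← h7, map_mul]
      exact mul_mem (h.bl a ha _ neg_one_mem) (h.bl b hb _ neg_one_mem)) (fun e => ?_) (fun e => ?_)
    (d := co v * co v) ?_))
  · have := congrFun (base_eq_iff.1 (e.trans (by simp : _ = mon (base 1)))) a
    rw [h8, if_pos (.inl rfl)] at this
    exact neg_one_ne' h2 this
  · have := congrFun (base_eq_iff.1 e) x
    rw [h8, if_neg (not_or.2 h9), if_pos hx] at this
    exact neg_one_ne' h2 this.symm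
  · have h10 : (blk a (-1) * blk b (-1) : FW ι ℍ[F]ˣ Unit) =
        blk a qi * blk b q * (blk a qi * blk b q) := by
      rw [← (commute_blk hab.symm _ _).mul_mul_mul_comm, ← map_mul, ← map_mul, qi_sq, hqq]
    rw [map_mul base (co v), ← eq_base h6, map_mul mon v, hv, ← h7, h10, map_mul mon (_ * _)]
    group

omit ih in
theorem Cx.diag {N : Subgroup (Matrix ι ι ℍ[F])ˣ} (hNK : N ≤ K)
    (hn : ∀ g ∈ K, ∀ n ∈ N, g * n * g⁻¹ ∈ N) (hc : ∀ x ∈ N, ∀ y ∈ N, Commute x y)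
    (ho : ∀ x ∈ N, Odd (orderOf x)) {u : (Matrix ι ι ℍ[F])ˣ} (hu : u ∈ N) {a b : ι} (hab : a ≠ b) :
    u.1 a b = 0 := by
  by_cases ha : a ∈ J
  swap
  · exact off_eq (h.U (hNK hu)) (h.fx (hNK hu)) (.inl ha) hab
  have e1 : ∀ (y : Matrix ι ι ℍ[F]) (s : ℍ[F]ˣ) x c, c ≠ a →
      (y * (mon (blk a s)).1) x c = y x c ∧ ((mon (blk a s)).1 * y) c x = y c x := fun y s x c hc => by
    simp [blk_apply, mul_base, base_mul, hc]
  have e2 : ∀ (y : Matrix ι ι ℍ[F]) x, (y * (mon (blk a (-1 : ℍ[F]ˣ))).1) x a = -y x a ∧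
      ((mon (blk a (-1 : ℍ[F]ˣ))).1 * y) a x = -y a x := fun y x => by
    simp [blk_apply, mul_base, base_mul]
  have ht := h.bl a ha _ neg_one_mem
  have htt : mon (blk a (-1)) * mon (blk a (-1 : ℍ[F]ˣ)) = 1 := by simp [← map_mul]
  generalize hT : mon (blk a (-1 : ℍ[F]ˣ)) = t at e2 ht htt
  have hy := mul_mem hu (hn t ht _ (inv_mem hu))
  have h1 : t * (u * (t * u⁻¹ * t⁻¹)) * t = (u * (t * u⁻¹ * t⁻¹))⁻¹ := by
    simp [mul_assoc, inv_eq_of_mul_eq_one_right htt, htt]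
  suffices H : u * (t * u⁻¹ * t⁻¹) = 1 by
    have h3 : u * t = t * u := by
      rw [← mul_inv_eq_one, ← H]; group
    have h4 := congrArg (fun x : (Matrix ι ι ℍ[F])ˣ => x.1 a b) h3
    simp only [Units.val_mul] at h4
    rw [(e2 _ _).2, ← hT, (e1 _ _ _ _ hab.symm).1] at h4
    exact eq_zero_of_neg h2 h4.symm
  generalize u * (t * u⁻¹ * t⁻¹) = y at hy h1
  have h3 : ∀ c, c ≠ a → y.1 c a = -star (y.1 a c) := fun c hc => by
    rw [← inv_apply (h.U (hNK hy)), ← h1, Units.val_mul, Units.val_mul, (e2 _ _).1, ← hT,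
      (e1 _ _ _ _ hc).2, neg_neg]
  have h4 : ∀ c, c ≠ a → y.1 a c = 0 := fun c hca => by
    have h5 : ∀ s ∈ Q8 F, s⁻¹ = -s → star (y.1 a c) * s * y.1 a c = 0 := fun s hs e => by
      have h6 := congrArg (fun x : (Matrix ι ι ℍ[F])ˣ => x.1 c c)
        (hc _ hy _ (hn _ (h.bl a ha s hs) _ hy)).eq
      simp only [← map_inv, Units.val_mul, ← mul_assoc] at h6
      rw [(e1 _ _ _ _ hca).1, mul_blk_mul, mul_assoc, mul_assoc, mul_assoc, (e1 _ _ _ _ hca).2,
        ← mul_assoc y.1, mul_blk_mul, e, h3 c hca, Units.val_neg] at h6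
      exact eq_zero_of_neg h2 (by linear_combination (norm := noncomm_ring) h6)
    have h6 := h5 qi qi_mem qi_inv
    have h7 := congrArg normSq h6
    rw [map_mul, map_mul, normSq_star, normSq_qi, mul_one, map_zero, mul_self_eq_zero] at h7
    exact (prime_q h2 (by rw [star_mul_self, h7, coe_zero]) h6 (h5 qj qj_mem qj_inv)
      (h5 qk qk_mem qk_inv)).elim star_eq_zero.1 id
  have h5 : t * y = y * t := Units.ext (Matrix.ext fun c e => by
    rw [Units.val_mul, Units.val_mul]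
    by_cases hca : c = a <;> by_cases hea : e = a
    · rw [hca, hea, (e2 _ _).1, (e2 _ _).2]
    · rw [hca, (e2 _ _).2, ← hT, (e1 _ _ _ _ hea).1, h4 e hea, neg_zero]
    · rw [hea, (e2 _ _).1, ← hT, (e1 _ _ _ _ hca).2, h3 c hca, h4 c hca]; simp
    · rw [← hT, (e1 _ _ _ _ hea).1, (e1 _ _ _ _ hca).2])
  rw [h5, mul_assoc, htt, mul_one, eq_inv_iff_mul_eq_one, ← pow_two] at h1
  exact orderOf_eq_one_iff.1 ((ho y hy).coprime_two_right.eq_one_of_dvd
    (orderOf_dvd_of_pow_eq_one h1))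

theorem Cx.ab (hJ : ∀ a, ∃ b ∈ J, b ≠ a) {N : Subgroup (Matrix ι ι ℍ[F])ˣ} (hNK : N ≤ K)
    (hn : ∀ g ∈ K, ∀ n ∈ N, g * n * g⁻¹ ∈ N) (hc : ∀ x ∈ N, ∀ y ∈ N, Commute x y)
    (ho : ∀ x ∈ N, Odd (orderOf x)) (h0 : N ≠ ⊥) : K ≤ Mon ι F := by
  obtain ⟨⟨w, hw⟩, hw1⟩ := (nontrivial_iff_exists_ne 1).1 ((nontrivial_iff_ne_bot N).2 h0)
  obtain ⟨d, rfl⟩ := exists_base fun a b => h.diag h2 hNK hn hc ho hw (a := a) (b := b)
  obtain ⟨a, hd⟩ : ∃ a, d a ≠ 1 := by
    by_contra h3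
    push Not at h3
    exact hw1 (Subtype.ext (by simp [show d = 1 from funext h3]))
  have ha : a ∈ J := by_contra fun ha => hd (co_eq_one (h.fx (hNK hw)) ha).2
  have h1 : d a ∈ H1 F := ((frame_UU _).1 (h.U (hNK hw))).1 a
  have h3 : Odd (orderOf (d a)) := (ho _ hw).of_dvd_nat (orderOf_dvd_of_pow_eq_one (by
    have := pow_orderOf_eq_one (mon (base d))
    rw [← map_pow, ← map_pow, ← map_one mon, ← map_one base] at this
    exact congrFun (base_eq_iff.1 this) a))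
  obtain ⟨s, hs, h4⟩ : ∃ s ∈ Q8 F, d a * s * (d a)⁻¹ * s⁻¹ ≠ 1 := by
    by_contra h4
    push Not at h4
    have h5 : ∀ s ∈ Q8 F, Commute (d a) s := fun s hs =>
      mul_inv_eq_iff_eq_mul.1 (mul_inv_eq_one.1 (h4 s hs))
    obtain ⟨e1, e2, e3⟩ := scalar_of_two h2 (.inl ⟨h5 _ qi_mem, h5 _ qj_mem⟩)
    exact hd (eq_one_of_odd h2 (scalar_H1 h1 e1 e2 e3) h3)
  have h5 : mon (blk a (d a * s * (d a)⁻¹ * s⁻¹)) ∈ N := by
    have := mul_mem hw (hn _ (h.bl a ha s hs) _ (inv_mem hw))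
    rw [← mul_assoc, ← mul_assoc, ← map_inv mon, ← map_mul, ← map_mul, conj_blk', ← map_inv,
      ← map_inv, ← map_mul, pm_base, Equiv.Perm.one_apply, ← map_mul] at this
    exact this
  have h6 := mul_mem (conj_H1 (d a) (Q8_le_H1 hs)) (inv_mem (Q8_le_H1 hs))
  generalize d a * s * (d a)⁻¹ * s⁻¹ = n at h4 h5 h6
  have h7 : n.1.re - 1 ≠ 0 := fun e => h4 (by
    have h8 : ∀ s ∈ Q8 F, n.1 * (s * n * s⁻¹).1 = (s * n * s⁻¹).1 * n.1 := fun s hs => by
      have := hc _ h5 _ (hn _ (h.bl a ha s hs) _ h5)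
      rw [← map_inv, ← map_inv, ← map_mul, ← map_mul, ← map_mul, ← map_mul, Commute, SemiconjBy,
        ← map_mul, ← map_mul, ← map_mul, ← map_mul] at this
      exact congrArg Units.val (blk_injective a (mon_inj this))
    have h9 := h8 _ qi_mem
    have h10 := h8 _ qj_mem
    simp only [Units.val_mul, val_qi, val_qj, inv_qi, inv_qj, Quaternion.ext_iff, re_mul, imI_mul,
      imJ_mul, imK_mul, mq_re, mq_imI, mq_imJ, mq_imK] at h9 h10
    have k : ∀ x : F, 2 * (2 * x) = 0 → x = 0 := fun x hx =>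
      (mul_eq_zero.1 ((mul_eq_zero.1 hx).resolve_left h2)).resolve_left h2
    have e1 : n.1.imI * n.1.imJ = 0 := k _ (by linear_combination -h9.2.2.2)
    have e2 : n.1.imI * n.1.imK = 0 := k _ (by linear_combination h9.2.2.1)
    have e3 : n.1.imJ * n.1.imK = 0 := k _ (by linear_combination -h10.2.1)
    rw [mem_H1, normSq_def', sub_eq_zero.1 e] at h6
    have e4 : n.1.imI ^ 3 = 0 := by linear_combination n.1.imI * h6 - n.1.imJ * e1 - n.1.imK * e2
    have e5 : n.1.imJ ^ 3 = 0 := by linear_combination n.1.imJ * h6 - n.1.imI * e1 - n.1.imK * e3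
    have e6 : n.1.imK ^ 3 = 0 := by linear_combination n.1.imK * h6 - n.1.imI * e2 - n.1.imJ * e3
    ext <;> simp [sub_eq_zero.1 e, eq_zero_of_pow_eq_zero e4, eq_zero_of_pow_eq_zero e5,
      eq_zero_of_pow_eq_zero e6])
  intro u hu
  obtain ⟨e, he⟩ := exists_base (y := u * mon (blk a (-1)) * u⁻¹) fun c e hce => by
    have h8 := h.diag h2 hNK hn hc ho (hn u hu _ h5) hce
    have h9 := h.diag h2 hNK hn hc ho (hn u hu _ (inv_mem h5)) hce
    rw [← map_inv, ← map_inv, conj_blk, inv_eq_star h6] at h9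
    rw [conj_blk] at h8 ⊢
    rw [if_neg hce, zero_add] at h8 h9 ⊢
    have h10 : (n.1 - 1) + (star n.1 - 1) = ((n.1.re - 1) * 2) • (1 : ℍ[F]) := by
      ext <;> simp; ring
    have h11 : ((n.1.re - 1) * 2) • (u.1 c a * (u⁻¹).1 a e) = 0 := by
      rw [← mul_one (u.1 c a), ← smul_mul_assoc, ← mul_smul_comm, ← h10, mul_add, add_mul, h8, h9,
        add_zero]
    rw [Units.val_neg, Units.val_one, mul_sub, sub_mul, mul_neg, mul_one, neg_mul,
      (smul_eq_zero.1 h11).resolve_left (mul_ne_zero h7 h2)]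
    simp
  obtain ⟨b, hb, hba⟩ := hJ a
  refine h.c1 h2 ih hu (ε := Pi.mulSingle a (-1)) (fun x => ?_) (h.bl a ha _ neg_one_mem)
    (fun e => ?_) (fun e => ?_) he
  · by_cases e : x = a <;> simp [e]
  · exact neg_one_ne' h2 (by
      simpa using congrFun (base_eq_iff.1 (e.trans (by simp : _ = mon (base 1)))) a)
  · exact neg_one_ne' h2 (by simpa [hb, hba] using (congrFun (base_eq_iff.1 e) b).symm)

omit h2 ih in
theorem Cx.zz_mem : zz J F ∈ K :=
  base_mem_of_blk (R := K.comap mon) fun i => by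
    split_ifs with hi
    exacts [h.bl i hi _ neg_one_mem, by simp]

omit h2 h ih [Finite F] in
theorem mem_sign {e : (Matrix ι ι ℍ[F])ˣ} : e ∈ SS (zpowers (-1 : ℍ[F]ˣ)) ⊥ ↔
    ∃ ε : ι → ℍ[F]ˣ, (∀ a, ε a = 1 ∨ ε a = -1) ∧ e = mon (base ε) := by
  have k : ∀ x : ℍ[F]ˣ, x ∈ zpowers (-1) ↔ x = 1 ∨ x = -1 := fun x =>
    H59.mem_zpowers_of_sq (by simp)
  refine ⟨fun he => ?_, ?_⟩
  · obtain ⟨w, rfl⟩ := SS_le he
    rw [mem_SS] at he
    exact ⟨co w, fun a => (k _).1 (he.1 a), congrArg mon (eq_base he.2)⟩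
  · rintro ⟨ε, h, rfl⟩
    exact base_mem_SS fun a => (k _).2 (h a)

theorem Cx.tiz {a b : ι} (ha : a ∈ J) (hb : b ∈ J) (hab : b ≠ a) :
    TIz ((Mon ι F).subgroupOf K) ((SS (zpowers (-1 : ℍ[F]ˣ)) ⊥).subgroupOf K) ⟨_, h.zz_mem⟩
      ⟨_, h.bl a ha _ neg_one_mem⟩ := by
  refine ⟨mem_center_iff.2 fun g => Subtype.ext (zz_comm (h.U g.2) (h.fx g.2)),
    mem_sign.2 ⟨_, fun x => by split_ifs <;> simp, rfl⟩, fun _ he => SS_le he,
    fun g hg => mem_normalizer_of_cj_le ?_, fun e he => ?_, fun g hg e he hm => ?_,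
    blk_mem_SS a (mem_zpowers _), fun e => neg_one_ne' h2 ?_, fun e => neg_one_ne' h2 ?_⟩
  · rintro _ ⟨e, he, rfl⟩
    obtain ⟨w, hw⟩ := hg
    obtain ⟨ε, h1, h3⟩ := mem_sign.1 he
    refine mem_sign.2 ⟨co (w * base ε * w⁻¹), fun x => ?_, ?_⟩
    · rw [co_conj_base]
      rcases h1 ((pm w)⁻¹ x) with e | e <;> rw [e] <;> simp
    · rw [← eq_base (by simp), map_mul, map_mul, map_inv, hw, ← h3]
      rfl
  · obtain ⟨ε, h1, h3⟩ := mem_sign.1 he
    have h4 : ε * ε = 1 := funext fun a => by rcases h1 a with e | e <;> simp [e]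
    refine Subtype.ext ?_
    rw [Subgroup.coe_mul, show e.1 = _ from h3, ← map_mul, ← map_mul, h4]
    simp
  · obtain ⟨ε, h1, h3⟩ := mem_sign.1 he
    have h4 : e.1 = mon (base ε) := h3
    refine (h.c2 h2 ih g.2 hg h1 (h4 ▸ e.2) (h4 ▸ hm)).imp (fun h5 => Subtype.ext ?_)
      fun h5 => Subtype.ext ?_ <;> exact h4.trans h5
  · simpa using congrFun (base_eq_iff.1 ((congrArg Subtype.val e).trans
      (by simp : _ = mon (base 1)))) a
  · simpa [hb, hab] using (congrFun (base_eq_iff.1 (congrArg Subtype.val e)) b).symm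

theorem Cx.step : K ≤ Mon ι F := by
  by_cases hJ : ∀ a ∈ J, ∀ b ∈ J, b = a
  · have k : ∀ {i b : ι}, b ≠ i → b ∉ J ∨ i ∉ J := fun {i b} hb => by
      by_contra h1
      push Not at h1
      exact hb (hJ i h1.2 b h1.1)
    exact fun g hg => mem_range_of_col fun i => ⟨i, fun b hb => ⟨off_eq (h.U hg) (h.fx hg) (k hb) hb,
      off_eq (h.U (inv_mem hg)) (h.fx (inv_mem hg)) (k hb).symm hb.symm⟩⟩
  push Not at hJ
  obtain ⟨a, ha, b, hb, hab⟩ := hJ
  have ht := h.tiz h2 ih ha hb hab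
  by_cases h3 : ∀ x ∈ J, x = a ∨ x = b
  · have h4 := ht.zstar fun e he => by
      obtain ⟨ε, h1, h4⟩ := mem_sign.1 he
      have h5 : e.1 = mon (base ε) := h4
      have h6 : mon (blk b (-1)) = mon (blk a (-1)) * zz J F := by
        rw [zz, blk_apply, blk_apply, ← map_mul, ← map_mul, base_eq_iff]
        ext1 x
        by_cases hx : x ∈ J
        · rcases h3 x hx with rfl | rfl <;> simp [hx, hab, hab.symm]
        · simp [hx, ne_of_mem_of_not_mem ha hx |>.symm, ne_of_mem_of_not_mem hb hx |>.symm]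
      simp only [Subtype.ext_iff, h5, Subgroup.coe_mul, ← h6]
      exact sign_cases ha hb hab.symm h3 h1 (h.fx (h5 ▸ e.2))
    by_cases h5 : oddCore K = ⊥
    · rw [h5, sup_bot_eq, subgroupOf_eq_top] at h4
      exact h4
    have := Agent.S0205.result (H2.coprime_card_pPrimeCore 2 K).odd_of_right
    obtain ⟨p, N, -, hN, hNO, h0, ⟨hc, -⟩, -⟩ := H2.exists_elementaryAbelian_normal_le _ h5
    refine h.ab h2 ih (fun x => ?_) (map_subtype_le N) ?_ ?_ ?_
      (by rwa [Ne, map_eq_bot_iff_of_injective _ K.subtype_injective])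
    · by_cases e : a = x
      exacts [⟨b, hb, e ▸ hab⟩, ⟨a, ha, e⟩]
    · rintro g hg _ ⟨n, hn, rfl⟩
      exact ⟨_, hN.conj_mem n hn ⟨g, hg⟩, rfl⟩
    · rintro _ ⟨x, hx, rfl⟩ _ ⟨y, hy, rfl⟩
      exact congrArg (fun x : N => x.1.1) (hc.is_comm.comm ⟨x, hx⟩ ⟨y, hy⟩)
    · rintro _ ⟨x, hx, rfl⟩
      rw [coe_subtype, Subgroup.orderOf_coe]
      exact (H2.coprime_card_pPrimeCore 2 K).odd_of_right.of_dvd_nat (orderOf_dvd_natCard _ (hNO hx))
  push Not at h3
  obtain ⟨c, hc, hca, hcb⟩ := h3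
  refine ht.emb.elim subgroupOf_eq_top.1 fun ⟨X, hX, hE, H⟩ => False.elim ?_
  have L : ∀ b ∈ J, b ≠ a → ∀ c ∈ J, c ≠ a → c ≠ b → ∃ w, ∃ hw : mon w ∈ K, ⟨_, hw⟩ ∈ X ∧
      ∀ x ∈ J, x ≠ a → x ≠ b → x = pm w a := fun b hb hab c hc hca hcb => by
    have hs := hE (mul_mem ht.tE (h.tiz h2 ih hb ha hab.symm).tE)
    have h1 : ∀ x, co (blk a (-1) * blk b (-1) : FW ι ℍ[F]ˣ Unit) x =
        if x = a ∨ x = b then -1 else 1 := fun x => by
      by_cases e : x = a
      · simp [co_mul, co_blk, e, hab.symm]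
      · by_cases e' : x = b <;> simp [co_mul, co_blk, e, e', hab]
    obtain ⟨⟨_, hw⟩, ⟨hd, w, rfl⟩, e⟩ := H _ ⟨hs, ht.EM (mul_mem ht.tE
      (h.tiz h2 ih hb ha hab.symm).tE)⟩ (.inl (ht.sq _ (mul_mem ht.tE
      (h.tiz h2 ih hb ha hab.symm).tE))) (fun e => neg_one_ne' h2 (by
        have := congrArg Subtype.val e
        rw [Subgroup.coe_mul, ← map_mul, Subgroup.coe_one, ← map_one mon, mon_inj.eq_iff] at this
        simpa [this] using (h1 a).symm)) (fun e => neg_one_ne' h2 (by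
        simp only [Subtype.ext_iff, Subgroup.coe_mul, ← map_mul, zz, mon_inj.eq_iff] at e
        simpa [e, hc, hca, hcb] using h1 c))
    refine ⟨w, hw, hd, fun x hx hxa hxb => ?_⟩
    simp only [Subtype.ext_iff, Subgroup.coe_mul, Subgroup.coe_inv, zz, ← map_mul, ← map_inv, mon_inj.eq_iff,
      conj_blk', mul_neg, mul_one, neg_mul, mul_inv_cancel] at e
    rcases e with e | e
    · have h3 := h1 a
      have h4 := h1 b
      rw [← e, co_blk] at h3 h4
      simp only [true_or, or_true, if_true, ite_eq_left_iff] at h3 h4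
      exact absurd ((by_contra fun e => neg_one_ne' h2 (h4 e).symm : b = _).trans
        (by_contra fun e => neg_one_ne' h2 (h3 e).symm : a = _).symm) hab
    · have h3 := congrArg (co · x) e
      simp only [co_blk, co_mul, map_mul, pm_blk, mul_one, inv_one, Equiv.Perm.one_apply, co_base,
        if_neg hxa, if_neg hxb, if_pos hx, one_mul, ite_eq_left_iff] at h3
      exact by_contra fun e => neg_one_ne' h2 (h3 e).symm
  obtain ⟨v, hv, hvX, h1⟩ := L b hb hab c hc hca hcb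
  obtain ⟨w, hw, hwX, h3⟩ := L c hc hca b hb hab hcb.symm
  have k : ∀ w (hw : mon w ∈ K), ⟨_, hw⟩ ∈ X → ∀ s ∈ Q8 F, s * s = -1 → ∃ q, q * q = -1 ∧
      ∃ hq : mon (blk a s * blk (pm w a) q) ∈ K, ⟨_, hq⟩ ∈ X := fun w hw hwX s hs e => by
    have h4 : mon (blk a s * blk (pm w a) (co w (pm w a) * s⁻¹ * (co w (pm w a))⁻¹)) =
        mon (blk a s) * (mon w * (mon (blk a s))⁻¹ * (mon w)⁻¹) := by
      rw [← conj_blk' w a s⁻¹, map_mul, map_mul, map_mul, map_inv, map_inv, map_inv]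
    refine ⟨_, by rw [conj_mul, ← mul_inv_rev, e]; simp, h4 ▸ mul_mem (h.bl a ha s hs) (mul_mem
      (mul_mem hw (inv_mem (h.bl a ha s hs))) (inv_mem hw)), ?_⟩
    convert mul_mem (hX.conj_mem _ hwX ⟨_, h.bl a ha s hs⟩) (inv_mem hwX) using 1
    exact Subtype.ext (h4.trans (by simp [mul_assoc]))
  obtain ⟨q, hq, m1, m2⟩ := k v hv hvX qi qi_mem qi_sq
  obtain ⟨r, hr, m3, m4⟩ := k w hw hwX qj qj_mem qj_sq
  have h4 : (⟨_, m1⟩ * ⟨_, m3⟩ : K) * (⟨_, m1⟩ * ⟨_, m3⟩) = ⟨_, h.zz_mem⟩ := by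
    refine Subtype.ext ?_
    simp only [Subgroup.coe_mul, zz, ← map_mul, ← h1 c hc hca hcb, ← h3 b hb hab hcb.symm, blk_apply,
      base_eq_iff]
    ext1 x
    by_cases e1 : x = a
    · simp [e1, ha, hab.symm, hca.symm, qij, qk_sq]
    by_cases e2 : x = b
    · simp [e2, hb, hab, hcb.symm, hr]
    by_cases e3 : x = c
    · simp [e3, hc, hca, hcb, hq]
    · simp [e1, e2, e3, show x ∉ J from fun hx => e3 ((h1 x hx e1 e2).trans (h1 c hc hca hcb).symm)]
  have h5 := ht.sq _ ht.zE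
  have h6 : (⟨_, h.zz_mem⟩ : K) ≠ 1 := fun e => neg_one_ne' h2 (by
    simpa [ha] using congrFun (base_eq_iff.1 ((congrArg Subtype.val e).trans
      (by simp : _ = mon (base 1)))) a)
  obtain ⟨d, -, e⟩ := H _ ⟨mul_mem m2 m4, mul_mem (⟨_, rfl⟩ : _ ∈ Mon ι F) (⟨_, rfl⟩ : _ ∈ Mon ι F)⟩
    (.inr h4) (fun e => h6 (by rw [← h4, e, one_mul])) fun e => h6 (by rw [← h4, e, h5])
  have h7 := ht.sq _ ht.tE
  have h8 := mem_center_iff.1 ht.cen
  generalize (⟨_, m1⟩ * ⟨_, m3⟩ : K) = s at e h4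
  refine h6 ?_
  rcases e with e | e
  · rw [← h4, ← e, conj_mul, h7, mul_one, mul_inv_cancel]
  · have := congrArg (fun x => x * x) e
    simp only [conj_mul, h7, mul_one, mul_inv_cancel] at this
    rw [mul_assoc, ← mul_assoc _ s, ← h8, mul_assoc, h5, mul_one, h4] at this
    exact this.symm

omit h ih in
theorem Cx.le_mon : ∀ {K : Subgroup (Matrix ι ι ℍ[F])ˣ}, Cx J K → K ≤ Mon ι F := by
  induction J using Finset.strongInduction with
  | H J ih => exact fun h => h.step h2 fun I hI _ => ih I hI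

end H91.QM
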