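/- The Sylow `2`-normaliser data of the quaternionic unitary group. -/
import Cfsg.Agent.H91.PrnInd

set_option autoImplicit false

namespace H91.QM

open Subgroup H98 Cfsg H86 H86.FW Quaternion

theorem avg {ι D : Type*} [Fintype ι] [Group D] {T : Subgroup (Equiv.Perm ι)} (hT : TD T)
    {R : Subgroup (FW ι D Unit)} (hR : ∀ τ ∈ T, top τ ∈ R) {u : D} (hu : u ^ 3 = 1) {f : ι → ℕ}
    (hf : ∑ c, f c = 2) (h : base (fun c => u ^ f c) ∈ R) : base (fun _ => u) ∈ R := by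
  classical
  let A : AddSubmonoid (ι → ℕ) :=
    { carrier := {f | base (fun c => u ^ f c) ∈ R}
      zero_mem' := by simp [← Pi.one_def]
      add_mem' := fun {f g} (h1 : _ ∈ R) (h3 : _ ∈ R) => by
        simpa [← map_mul, pow_add, Pi.mul_def] using mul_mem h1 h3 }
  have h1 : ∑ τ : T, (fun c => f (τ.1 c)) ∈ A := AddSubmonoid.sum_mem _ fun τ _ => by
    have := mul_mem (mul_mem (hR _ (inv_mem τ.2)) h) (inv_mem (hR _ (inv_mem τ.2)))
    rwa [top_mul_base, inv_inv] at this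
  obtain ⟨a, -⟩ := Finset.nonempty_of_sum_ne_zero (hf.trans_ne two_ne_zero)
  have h3 : ∀ c, ∑ τ : T, f (τ.1 c) = ∑ τ : T, f (τ.1 a) := fun c => by
    obtain ⟨σ, hσ, rfl⟩ := hT.trans a c
    exact Equiv.sum_comp (Equiv.mulRight (⟨σ, hσ⟩ : T)) fun τ => f (τ.1 a)
  obtain ⟨m, hm⟩ := hT.two.exists_card_eq
  have h4 : (∑ τ : T, f (τ.1 a)) ∣ 2 ^ (m + 1) := ⟨Fintype.card ι, by
    rw [pow_succ, ← hm, Nat.card_eq_fintype_card, ← smul_eq_mul, ← Finset.card_univ,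
      ← Finset.sum_const, Finset.sum_congr rfl fun τ _ => (hf.symm.trans (Equiv.sum_comp τ.1 f).symm),
      Finset.sum_comm, Finset.sum_congr rfl fun c _ => h3 c]
    simp [mul_comm]⟩
  have h5 : (base fun _ => u : FW ι D Unit) ^ 3 = 1 := by
    rw [← map_pow, ← map_one base]
    exact congrArg _ (funext fun _ => hu)
  obtain ⟨n, hn⟩ := exists_pow_eq_self_of_coprime (x := (base fun _ => u : FW ι D Unit))
    (((Nat.Coprime.pow_left (m + 1) (by norm_num : Nat.Coprime 2 3)).coprime_dvd_left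
      h4).coprime_dvd_right (orderOf_dvd_of_pow_eq_one h5))
  refine hn ▸ pow_mem ?_ n
  have h6 : base _ ∈ R := h1
  simpa [← map_pow, h3, Pi.pow_def] using h6

variable {F : Type*} [Field F] {ι : Type*} [Fintype ι] [DecidableEq ι]
  {T : Subgroup (Equiv.Perm ι)} {K : Subgroup (Matrix ι ι ℍ[F])ˣ} (h2 : (2 : F) ≠ 0)

theorem S_le_U : SS (Q8 F) T ≤ UU ι F := by
  rintro _ ⟨w, hw, rfl⟩
  exact (frame_UU w).2 ⟨fun i => Q8_le_H1 (hw.1 i), Finset.prod_eq_one fun i _ => Q8_le_H1 (hw.1 i)⟩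

/-- the element of order three -/
def xx (ι : Type*) [Fintype ι] [DecidableEq ι] : (Matrix ι ι ℍ[F])ˣ := mon (base fun _ => om h2)

theorem xx_U : xx h2 ι ∈ UU ι F :=
  (frame_UU _).2 ⟨fun _ => om_H1 h2, Finset.prod_eq_one fun _ _ => om_H1 h2⟩

theorem xx_cube : xx h2 ι ^ 3 = 1 := by
  rw [xx, ← map_pow, ← map_pow, ← map_one mon, ← map_one base, base_eq_iff]
  exact funext fun _ => om_cube h2

variable [Finite F]

theorem xx_nor : xx h2 ι ∈ normalizer (SS (Q8 F) T : Set (Matrix ι ι ℍ[F])ˣ) := by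
  refine mem_normalizer_of_cj_le ?_
  rintro _ ⟨_, ⟨w, hw, rfl⟩, rfl⟩
  change xx h2 ι * mon w * (xx h2 ι)⁻¹ ∈ _
  rw [xx, ← map_inv, ← map_mul, ← map_mul, mem_SS]
  exact ⟨fun i => conj_mem_of_mem_normalizer (om_nor h2) (hw.1 i), by simpa using hw.2.1⟩

variable (hns : ¬ IsSquare (2 : F)) (hT : TD T)
include hns

theorem two_col (hK : K ≤ UU ι F) (hS : SS (Q8 F) T ≤ K) {g : (Matrix ι ι ℍ[F])ˣ} (hg : g ∈ K)
    {i a b : ι} (hab : b ≠ a) {α : ℍ[F]} (hα : 2 * normSq α = 1)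
    (hc : ∀ c, g.1 c i = if c = a ∨ c = b then α else 0) :
    mon (base fun c => (om h2)⁻¹ ^ if c = a ∨ c = b then 1 else 0) ∈ K := by
  let u : ℍ[F]ˣ := ⟨α, (2 : F) • star α, by rw [mul_smul_comm, self_mul_star, Quaternion.smul_coe, hα]; rfl,
    by rw [smul_mul_assoc, star_mul_self, Quaternion.smul_coe, hα]; rfl⟩
  let ρ : ℍ[F]ˣ →* (Matrix ι ι ℍ[F])ˣ := (MulAut.conj g).toMonoidHom.comp
    ((mon.comp (blk i)).comp (MulAut.conj u⁻¹).toMonoidHom)
  have h1 : ∀ t c e, (ρ t).1 c e = (if c = e then 1 else 0) +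
      if (c = a ∨ c = b) ∧ (e = a ∨ e = b) then (2 : F)⁻¹ • (t.1 - 1) else 0 := fun t c e => by
    refine (conj_blk g i (u⁻¹ * t * u⁻¹⁻¹) c e).trans ?_
    rw [inv_apply (hK hg), hc, hc, inv_inv]
    by_cases h3 : c = a ∨ c = b <;> by_cases h4 : e = a ∨ e = b <;> simp only [h3, h4, if_true,
      if_false, and_true, and_false, zero_mul, star_zero, mul_zero, add_right_inj]
    have h5 : star α = (2 : F)⁻¹ • (u⁻¹).1 := by
      rw [show (u⁻¹).1 = (2 : F) • star α from rfl, inv_smul_smul₀ h2]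
    rw [h5, show α = u.1 from rfl, mul_smul_comm]
    simp [mul_sub, sub_mul, mul_assoc]
  have h3 : Q8 F ≤ H1 F ⊓ K.comap ρ := by
    have h3 := (isSyl_Q8 h2 hns).inf_of_le_normalizer (N := H1 F ⊓ K.comap ρ) inf_le_left
      fun q hq => mem_normalizer_of_cj_le (by
        rintro _ ⟨t, ht, rfl⟩
        refine ⟨conj_H1 q ht.1, ?_⟩
        have h4 := hS (base_mem_SS (d := fun _ => q) fun _ => hq)
        have := mul_mem (mul_mem h4 ht.2) (inv_mem h4)
        rw [← map_inv, ← map_inv] at this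
        refine (congrArg (· ∈ K) (Units.ext (Matrix.ext fun c e => ?_) : ρ (q * t * q⁻¹) = _)).mpr this
        rw [Units.val_mul, Units.val_mul, mul_base, base_mul, h1, h1]
        split_ifs <;> simp [mul_add, add_mul, mul_sub, sub_mul])
    have h4 := h3.card_le (isPGroup_cj u two_Q8) (by
      rintro _ ⟨s, hs, rfl⟩
      refine ⟨conj_H1 u (Q8_le_H1 hs), ?_⟩
      have := mul_mem (mul_mem hg (hS (blk_mem_SS i hs))) (inv_mem hg)
      simpa [ρ, mul_assoc] using this)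
    rw [card_cj] at h4
    exact inf_eq_left.1 (eq_of_le_of_card_ge inf_le_left h4)
  have h4 : ρ qi * mon (blk b qk) = mon (base fun c => (om h2)⁻¹ ^ if c = a ∨ c = b then 1 else 0) *
      (mon (blk a (-1 : ℍ[F]ˣ)) * mon (blk b qi) * ρ qj⁻¹) := by
    rw [blk_apply, blk_apply, blk_apply, ← mul_assoc, ← map_mul, ← map_mul, ← map_mul, ← map_mul]
    refine Units.ext (Matrix.ext fun c e => ?_)
    rw [Units.val_mul, Units.val_mul, mul_base, base_mul, h1, h1]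
    have k : ∀ c, c = a ∨ c = b ∨ c ≠ a ∧ c ≠ b ∧ a ≠ c ∧ b ≠ c := by tauto
    rcases k c with c1 | c1 | c1 <;> rcases k e with e1 | e1 | e1 <;>
      simp [c1, e1, hab, hab.symm, -Units.val_inv_eq_inv_val] <;>
      ext <;> simp [inv_om, val_qi, inv_qj, val_qk] <;> field_simp <;> ring
  exact (mul_mem_cancel_right (mul_mem (mul_mem (hS (blk_mem_SS a neg_one_mem))
    (hS (blk_mem_SS b qi_mem))) (h3 (inv_mem qj_mem)).2)).1
    (h4 ▸ mul_mem (h3 qi_mem).2 (hS (blk_mem_SS b qk_mem)))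

include hT

theorem cases_U [Nonempty ι] {g : (Matrix ι ι ℍ[F])ˣ} (hg : g ∈ UU ι F)
    (hn : ∀ s ∈ SS (Q8 F) T, g * s * g⁻¹ ∈ SS (Q8 F) T) :
    g ∈ SS (Q8 F) T ∨ (xx h2 ι)⁻¹ * g ∈ SS (Q8 F) T ∨ xx h2 ι * g ∈ SS (Q8 F) T := by
  obtain ⟨w, rfl, h1, h3, h4⟩ := cases_gen h2 frame_UU hT Q8_le_H1 qi_mem qj_mem fun s _ => hn s
  obtain ⟨i⟩ := ‹Nonempty ι›
  have k : ∀ u ∈ normalizer (Q8 F : Set ℍ[F]ˣ), u * co w i ∈ Q8 F →
      mon (base fun _ => u) * mon w ∈ SS (Q8 F) T := fun u hu h => by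
    rw [← map_mul, mem_SS]
    refine ⟨fun a => ?_, by simpa using h1⟩
    have := mul_mem (conj_mem_of_mem_normalizer hu (h3 a i)) h
    simpa [mul_assoc, co_mul] using this
  have h5 : ∀ s ∈ Q8 F, co w i * s * (co w i)⁻¹ ∈ Q8 F := fun s hs =>
    h4 (fun _ => s) (fun _ => hs) (Finset.prod_eq_one fun _ _ => Q8_le_H1 hs) i
  rcases nor_cases h2 hns (((frame_UU w).1 hg).1 i) (nor_of (h5 _ qi_mem) (h5 _ qj_mem)) with
    e | e | e
  · exact .inl (by simpa [← Pi.one_def] using k 1 (one_mem _) (by rwa [one_mul]))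
  · refine .inr (.inl ?_)
    rw [xx, ← map_inv, ← map_inv]
    exact k _ (inv_mem (om_nor h2)) e
  · exact .inr (.inr (k _ (om_nor h2) e))

theorem xx_mem [Nonempty ι] (hK : K ≤ UU ι F) (hS : SS (Q8 F) T ≤ K) {g : (Matrix ι ι ℍ[F])ˣ}
    (hg : g ∈ K) {i : ι} {w : FW ι ℍ[F]ˣ Unit} (hw : g * mon (blk i (-1)) * g⁻¹ = mon w)
    (h0 : pm w ≠ 1) : xx h2 ι ∈ K := by
  have h1 := isSyl_of_tri (isPGroup_SS two_Q8 hT.two) S_le_U (xx_cube h2) (xx_nor h2)
    fun g hg hn => cases_U h2 hns hT hg fun s hs => conj_mem_of_mem_normalizer hn hs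
  wlog hwS : mon w ∈ SS (Q8 F) T generalizing g w
  · obtain ⟨_, ⟨hm, v, rfl⟩, h3⟩ := (h1.of_le (le_inf hS SS_le) (inf_le_left.trans hK)).exists_cj_le
      (isPGroup_zpowers (x := mon w) (k := 1) (by
        rw [pow_one, pow_two, ← hw, conj_mul, ← map_mul, ← map_mul]; simp))
      (zpowers_le.2 (mem_inf.2 ⟨hw ▸ mul_mem (mul_mem hg (hS (blk_mem_SS i neg_one_mem)))
        (inv_mem hg), w, rfl⟩))
    refine this (mul_mem hm hg) (w := v * w * v⁻¹) (by
      rw [map_mul, map_mul, map_inv, ← hw]; group) (by simpa [mul_inv_eq_one] using h0) ?_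
    rw [map_mul, map_mul, map_inv]
    exact h3 (conj_mem_cj (mem_zpowers _))
  obtain ⟨a, hab⟩ : ∃ a, pm w a ≠ a := by
    by_contra h
    push Not at h
    exact h0 (Equiv.ext h)
  have E : ∀ c, (if c = pm w a then (co w c).1 else 0) =
      (if c = a then 1 else 0) - (2 : F) • (g.1 c i * star (g.1 a i)) := fun c => by
    rw [← mon_apply, ← hw, conj_blk, inv_apply (hK hg), two_smul]
    simp only [Units.val_neg, Units.val_one]
    noncomm_ring
  have h3 : 2 * normSq (g.1 a i) = 1 := by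
    have := E a
    rw [if_neg hab.symm, if_pos rfl, self_mul_star, Quaternion.smul_coe, eq_comm, sub_eq_zero] at this
    exact coe_injective this.symm
  have h4 : ∀ c, c ≠ a → g.1 c i = -((if c = pm w a then (co w c).1 else 0) * g.1 a i) :=
    fun c hc => by
      rw [E, if_neg hc, zero_sub, neg_mul, neg_neg, smul_mul_assoc, mul_assoc, star_mul_self,
        mul_coe_eq_smul, smul_smul, h3, one_smul]
  have h5 := two_col h2 hns hK hS (mul_mem (hS (blk_mem_SS (pm w a) (mul_mem neg_one_mem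
    (inv_mem ((mem_SS.1 hwS).1 (pm w a)))))) hg) (i := i) hab h3 fun c => by
      rw [Units.val_mul, blk_apply, base_mul]
      by_cases c1 : c = a
      · simp [c1, hab.symm]
      · by_cases c2 : c = pm w a <;> simp [c1, c2, h4 _ hab, h4 c c1]
  have := avg hT (R := K.comap mon) (fun τ hτ => hS (top_mem_SS hτ))
    (by rw [inv_pow, om_cube, inv_one]) (by
      rw [Fintype.sum_eq_add a _ hab.symm fun c hc => if_neg (not_or.2 hc)]; simp) h5
  rw [← inv_mem_iff, xx, ← map_inv, ← map_inv]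
  exact this

theorem key_U [Nonempty ι] (H : Subgroup (Matrix ι ι ℍ[F])ˣ) (hS : SS (Q8 F) T ≤ H)
    (hH : H ≤ UU ι F) : xx h2 ι ∈ H ⊔ cj (xx h2 ι) H ∨ cj (xx h2 ι) H = H := by
  have hK : H ⊔ cj (xx h2 ι) H ≤ UU ι F := sup_le hH (cj_le_of_le_of_mem hH (xx_U h2))
  have hS' := hS.trans (le_sup_left (b := cj (xx h2 ι) H))
  refine or_iff_not_imp_left.2 fun hx => ?_
  have hM := Cx.le_mon h2 (J := Finset.univ) ⟨hK, fun _ _ b hb => absurd (Finset.mem_univ b) hb,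
    fun i _ s hs => hS' (blk_mem_SS i hs),
    fun g hg i _ w hw => by_contra fun h0 => hx (xx_mem h2 hns hT hK hS' hg hw h0)⟩
  have h1 : ∀ i, H.comap (mon.comp (blk i)) ≤ Q8 F := fun i => by
    refine le_Q8 h2 hns (L := (H ⊔ cj (xx h2 ι) H).comap (mon.comp (blk i)))
      (fun s hs => hS (blk_mem_SS i hs)) (comap_mono le_sup_left) ?_
      (fun s hs => by simpa [co_blk] using ((frame_UU _).1 (hK hs)).1 i) fun ho => hx ?_
    · rintro _ ⟨s, hs, rfl⟩
      have := conj_mem_cj (g := xx h2 ι) hs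
      rw [MonoidHom.comp_apply, xx, ← map_inv mon, ← map_mul, ← map_mul, conj_blk'] at this
      exact mem_sup_right this
    · refine base_mem_of_blk (R := (H ⊔ cj (xx h2 ι) H).comap mon) fun j => ?_
      obtain ⟨τ, hτ, rfl⟩ := hT.trans i j
      rw [← top_mul_blk]
      exact mul_mem (mul_mem (hS' (top_mem_SS hτ)) ho) (inv_mem (hS' (top_mem_SS hτ)))
  refine cj_eq_self (mem_normalizer_of_cj_le ?_)
  rintro _ ⟨y, hy, rfl⟩
  obtain ⟨w, rfl⟩ := hM (mem_sup_left hy)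
  have h3 : ∀ c, ∀ s ∈ Q8 F, co w c * s * (co w c)⁻¹ ∈ Q8 F := fun c s hs => by
    obtain ⟨a, rfl⟩ := (pm w).surjective c
    refine h1 (pm w a) ?_
    rw [mem_comap, MonoidHom.comp_apply, ← conj_blk', map_mul, map_mul, map_inv]
    exact mul_mem (mul_mem hy (hS (blk_mem_SS a hs))) (inv_mem hy)
  refine (mul_mem_cancel_right (inv_mem hy)).1 (hS ?_)
  change xx h2 ι * mon w * (xx h2 ι)⁻¹ * (mon w)⁻¹ ∈ _
  rw [xx, ← map_inv mon, ← map_inv mon, ← map_mul, ← map_mul, ← map_mul, mem_SS]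
  refine ⟨fun c => ?_, by simp⟩
  simpa [co_mul, co_inv] using comm_mem_of_tri (om_nor h2) (nor_cases h2 hns
    (((frame_UU w).1 (hH hy)).1 c) (nor_of (h3 c _ qi_mem) (h3 c _ qj_mem)))

omit hns hT in
include h2 in
theorem tri3_U (k : ℕ) : ∃ (S : Subgroup (UU (Fin (2 ^ k)) F)) (x : UU (Fin (2 ^ k)) F), Tri3 S x := by
  obtain ⟨T, hT⟩ := exists_td k
  by_cases hns : IsSquare (2 : F)
  · obtain ⟨r, hr⟩ := hns
    have h0 : r ≠ 0 := fun e => h2 (by rw [hr, e, mul_zero])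
    have h1 : r⁻¹ * r⁻¹ + r⁻¹ * r⁻¹ = 1 := by field_simp; linear_combination hr
    obtain ⟨S, hS⟩ := tri3_frame h2 frame_UU hT (Fintype.card_fin _) normSq_qi normSq_qj
      ⟨⟨mq r⁻¹ r⁻¹ 0 0, mq r⁻¹ (-r⁻¹) 0 0, by ext <;> simp [h1, -mul_inv_rev],
        by ext <;> simp [h1, -mul_inv_rev]⟩, by simpa [mem_H1, normSq_def', pow_two] using h1, _, rfl⟩
      (.inr fun _ h => h)
    exact ⟨S, 1, hS⟩
  · exact ⟨_, _, tri3_sub S_le_U (xx_U h2) (isPGroup_SS two_Q8 hT.two) (xx_cube h2) (xx_nor h2)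
      (fun g hg => cases_U h2 hns hT hg) (key_U h2 hns hT)⟩

end H91.QM
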