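/- Pronormality of subgroups of odd index in classical groups of dimension a power of two. -/
import Cfsg.Agent.H91.PrnKey
import Cfsg.Agent.H91.PrnBN
import Cfsg.Agent.H59.UField

set_option autoImplicit false

namespace H91.QM

open Subgroup H98 Cfsg H86 H86.FW Quaternion Matrix

variable {F : Type*} [Field F] {ι κ : Type*} [Fintype ι] [DecidableEq ι] [Fintype κ] [DecidableEq κ]
  {a b : F} (h2 : (2 : F) ≠ 0) (hab : a ^ 2 + b ^ 2 = -1)

/-- the splitting of the quaternion algebra -/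
def ph : ℍ[F] ≃+* Matrix (Fin 2) (Fin 2) F where
  toFun q := !![q.re + a * q.imI - b * q.imK, b * q.imI + q.imJ + a * q.imK;
    b * q.imI - q.imJ + a * q.imK, q.re - a * q.imI + b * q.imK]
  invFun m := mq ((m 0 0 + m 1 1) / 2) (-(a * (m 0 0 - m 1 1) + b * (m 0 1 + m 1 0)) / 2)
    ((m 0 1 - m 1 0) / 2) ((b * (m 0 0 - m 1 1) - a * (m 0 1 + m 1 0)) / 2)
  left_inv q := by
    ext <;> simp <;> field_simp
    · ring
    · linear_combination -2 * q.imI * hab
    · ring
    · linear_combination -2 * q.imK * hab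
  right_inv m := by
    ext i j
    fin_cases i <;> fin_cases j <;> simp <;> field_simp
    · linear_combination -(m 0 0 - m 1 1) * hab
    · linear_combination -(m 0 1 + m 1 0) * hab
    · linear_combination -(m 0 1 + m 1 0) * hab
    · linear_combination (m 0 0 - m 1 1) * hab
  map_mul' p q := by
    ext i j
    fin_cases i <;> fin_cases j <;> simp [Matrix.mul_apply, Fin.sum_univ_two]
    · linear_combination (-p.imI * q.imI - p.imK * q.imK) * hab
    · linear_combination (p.imK * q.imI - p.imI * q.imK) * hab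
    · linear_combination (p.imI * q.imK - p.imK * q.imI) * hab
    · linear_combination (-p.imI * q.imI - p.imK * q.imK) * hab
  map_add' p q := by
    ext i j
    fin_cases i <;> fin_cases j <;> simp <;> ring

theorem ph_apply (q : ℍ[F]) : ph h2 hab q = !![q.re + a * q.imI - b * q.imK,
    b * q.imI + q.imJ + a * q.imK; b * q.imI - q.imJ + a * q.imK, q.re - a * q.imI + b * q.imK] := rfl

theorem det_ph (q : ℍ[F]) : (ph h2 hab q).det = normSq q := by
  rw [ph_apply, det_fin_two_of, normSq_def']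
  linear_combination (-q.imI ^ 2 - q.imK ^ 2) * hab

variable (e : κ ≃ ι × Fin 2)

/-- the splitting of the matrix algebra -/
def Ph : Matrix ι ι ℍ[F] ≃+* Matrix κ κ F :=
  (ph h2 hab).mapMatrix.trans ((compRingEquiv ι (Fin 2) F).trans (reindexRingEquiv F e.symm))

theorem Ph_apply (g : Matrix ι ι ℍ[F]) (x y : κ) :
    Ph h2 hab e g x y = ph h2 hab (g (e x).1 (e y).1) (e x).2 (e y).2 := rfl

theorem det_Ph (w : FW ι ℍ[F]ˣ Unit) : (Ph h2 hab e (mon w).1).det = ∏ i, normSq (co w i).1 := by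
  have h : Ph h2 hab e (mon w).1 = (((blockDiagonal fun i => ph h2 hab (co w i).1).submatrix id
      (Equiv.prodCongrRight fun _ => pm w))).submatrix (e.trans (Equiv.prodComm _ _))
      (e.trans (Equiv.prodComm _ _)) := by
    ext x y
    rw [Ph_apply, mon_apply]
    simp only [submatrix_apply, blockDiagonal_apply, Equiv.trans_apply, Equiv.prodComm_apply, id,
      Prod.snd_swap, Prod.fst_swap, Equiv.prodCongrRight, Equiv.coe_fn_mk]
    split_ifs <;> simp
  rw [h, det_submatrix_equiv_self, det_permute', det_blockDiagonal, Equiv.Perm.sign_prodCongrRight]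
  simp [det_ph]

/-- transport of a matrix group -/
def emb {X : Type*} [Group X] (j : X →* Matrix κ κ F) : X →* (Matrix ι ι ℍ[F])ˣ :=
  (((Ph h2 hab e).symm : _ →* _).comp j).toHomUnits

theorem mem_emb {X : Type*} [Group X] (j : X →* Matrix κ κ F) {g : (Matrix ι ι ℍ[F])ˣ} :
    g ∈ (emb h2 hab e j).range ↔ ∃ x, j x = Ph h2 hab e g.1 :=
  exists_congr fun _ => Units.ext_iff.trans (Ph h2 hab e).symm_apply_eq

theorem exists_surj {X : Type*} [Group X] {j : X →* Matrix κ κ F} (hj : Function.Injective j)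
    {G : Subgroup (Matrix ι ι ℍ[F])ˣ} (h : ∀ g, g ∈ G ↔ ∃ x, j x = Ph h2 hab e g.1) :
    ∃ f : G →* X, Function.Surjective f := by
  obtain rfl : G = (emb h2 hab e j).range := Subgroup.ext fun g => (h g).trans (mem_emb _ _ _ _).symm
  have φ := (MonoidHom.ofInjective (f := emb h2 hab e j) fun x y h =>
    hj ((Ph h2 hab e).symm.injective (congrArg Units.val h))).symm
  exact ⟨φ.toMonoidHom, φ.surjective⟩

/-- the index set of the symplectic group -/
def eS (ι : Type*) : ι ⊕ ι ≃ ι × Fin 2 where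
  toFun := Sum.elim (·, 0) (·, 1)
  invFun p := if p.2 = 0 then .inl p.1 else .inr p.1
  left_inv := by rintro (i | i) <;> simp
  right_inv := by rintro ⟨i, r⟩; fin_cases r <;> simp

theorem Ph_star (g : Matrix ι ι ℍ[F]) : Ph h2 hab (eS ι) (star g) * Matrix.J ι F =
    Matrix.J ι F * (Ph h2 hab (eS ι) g)ᵀ := by
  ext (i | i) (j | j) <;>
    simp [Matrix.J, mul_apply, Fintype.sum_sum_type, one_apply, Ph_apply, eS, ph_apply] <;> ring

theorem exists_ab (F : Type*) [Field F] [Finite F] : ∃ a b : F, a ^ 2 + b ^ 2 = -1 := by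
  have : NeZero (ringChar F) := ⟨CharP.ringChar_ne_zero_of_finite F⟩
  obtain ⟨a, b, h⟩ := CharP.sq_add_sq F (ringChar F) (-1)
  exact ⟨a, b, by simpa using h⟩

omit hab in
include h2 in
theorem sp_surj [Finite F] : ∃ f : UU ι F →* symplecticGroup ι F, Function.Surjective f := by
  obtain ⟨a, b, hab⟩ := exists_ab F
  refine exists_surj h2 hab (eS ι) (j := Submonoid.subtype _) Subtype.val_injective fun g => ?_
  refine Iff.trans ?_ (⟨fun h => ⟨⟨_, h⟩, rfl⟩, fun ⟨x, h⟩ => h ▸ x.2⟩ :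
    Ph h2 hab (eS ι) g.1 ∈ symplecticGroup ι F ↔ _)
  rw [SymplecticGroup.mem_iff, mul_assoc, ← Ph_star,
    ← mul_assoc, ← map_mul]
  refine ⟨fun h => by rw [← show (g⁻¹).1 = star g.1 from h]; simp, fun h => ?_⟩
  have h1 := congrArg (· * Matrix.J ι F) h
  simp only [mul_assoc, J_squared, mul_neg, mul_one, neg_inj, EmbeddingLike.map_eq_one_iff] at h1
  exact Units.inv_eq_of_mul_eq_one_right h1

theorem pn_psp {t : ℕ} (m : Fin t → ℕ) (F : Fin t → Type*) [∀ i, Field (F i)] [∀ i, Fintype (F i)]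
    (hm : ∀ i, ∃ k : ℕ, m i = 2 ^ k) (h2 : ∀ i, (2 : F i) ≠ 0) : PN (Π i, PSp (m i) (F i)) := by
  choose f hf using fun i => sp_surj (ι := Fin (m i)) (h2 i)
  refine (pn_pi (G := fun i => UU (Fin (m i)) (F i)) fun i => ?_).of_surj (Pi.monoidHom fun i =>
    ((QuotientGroup.mk' _).comp (f i)).comp (Pi.evalMonoidHom _ i))
    (Function.Surjective.piMap fun i => (QuotientGroup.mk'_surjective _).comp (hf i))
  obtain ⟨k, hk⟩ := hm i
  rw [hk]
  exact tri3_U (h2 i) k

/-- the index set -/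
def eL (k : ℕ) : Fin (2 ^ (k + 1)) ≃ Fin (2 ^ k) × Fin 2 := finProdFinEquiv.symm

omit hab in
include h2 in
theorem pn_sl [Finite F] (k : ℕ) : PN (SpecialLinearGroup (Fin (2 ^ (k + 1))) F) := by
  obtain ⟨a, b, hab⟩ := exists_ab F
  let j : SpecialLinearGroup (Fin (2 ^ (k + 1))) F →* _ := (Units.coeHom _).comp SpecialLinearGroup.toGL
  obtain ⟨f, hf⟩ := exists_surj h2 hab (eL k) (j := j) Subtype.val_injective fun _ => mem_emb _ _ _ _
  have hG : Frame ⊤ (emb h2 hab (eL k) j).range := fun w => by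
    rw [mem_emb, ← det_Ph h2 hab (eL k)]
    exact ⟨fun ⟨x, h⟩ => ⟨fun _ => trivial, h ▸ x.2⟩, fun h => ⟨⟨_, h.2⟩, rfl⟩⟩
  refine PN.of_surj ?_ f hf
  cases k with
  | zero =>
    obtain ⟨S, x, h⟩ := tri3_U h2 0
    rw [show (emb h2 hab (eL 0) j).range = UU _ F from Subgroup.ext fun g => ?_]
    · exact h.pn
    have : Unique (Fin (2 ^ 0)) := inferInstanceAs (Unique (Fin 1))
    obtain ⟨d, rfl⟩ := exists_base (y := g) fun a b h => absurd (Subsingleton.elim a b) h
    rw [hG, frame_UU]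
    simp [mem_H1, Unique.forall_iff]
  | succ k =>
    obtain ⟨T, hT⟩ := exists_td (k + 1)
    obtain ⟨S, h⟩ := tri3_frame h2 hG hT (Fintype.card_fin _) trivial trivial
      ⟨⟨mq 1 1 0 0, mq 2⁻¹ (-2⁻¹) 0 0, by ext <;> simp; field_simp; ring,
        by ext <;> simp; field_simp; ring⟩, trivial, 1, rfl⟩
      (.inl (Fin.nontrivial_iff_two_le.2 (Nat.le_self_pow k.succ_ne_zero 2)))
    exact h.pn

/-- the unitary involution -/
def cq (σ : F →+* F) (q : ℍ[F]) : ℍ[F] := mq (σ q.re) (-σ q.imI) (-σ q.imJ) (-σ q.imK)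

/-- the unitary group of the quaternion algebra -/
def GQ {σ : F →+* F} (h : ∀ x, σ (σ x) = x) : Subgroup ℍ[F]ˣ where
  carrier := {g | (g⁻¹).1 = cq σ g.1}
  one_mem' := by ext <;> simp [cq]
  mul_mem' := fun {x y} hx hy => by
    change ((x * y)⁻¹).1 = cq σ (x.1 * y.1)
    rw [_root_.mul_inv_rev, Units.val_mul, hx, hy]
    ext <;> simp [cq] <;> ring
  inv_mem' := fun {x} hx => by
    change x.1 = cq σ (x⁻¹).1
    rw [hx]
    ext <;> simp [cq, h]

omit hab in
include h2 in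
theorem pn_su [Fintype F] {q : ℕ} (hF : Fintype.card F = q ^ 2) (k : ℕ) :
    PN (SU (2 ^ (k + 1 + 1)) F q) := by
  have hσ := H59.frob_frob hF
  have hq := H59.frob_apply hF
  obtain ⟨θ, h0, hθ⟩ := H59.exists_trace_zero_ne_zero (H59.frob_ne_id hF) hσ
  obtain ⟨l, hl⟩ := H59.exists_norm_eq' (H59.frob_ne_id hF) hσ (μ := 2⁻¹) (by simp [map_ofNat])
  generalize H59.frob hF = σ at hσ hq hθ hl
  obtain ⟨a, b, hab, ha, hb⟩ : ∃ a b : F, a ^ 2 + b ^ 2 = -1 ∧ σ a = -a ∧ σ b = -b := by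
    obtain ⟨i, hi⟩ := (FiniteField.isSquare_neg_one_iff (F := F)).2 (by
      rw [hF, Nat.pow_mod]
      have : q % 4 < 4 := Nat.mod_lt _ (by norm_num)
      interval_cases q % 4 <;> simp)
    have h1 : i ≠ 0 := fun e => by simp [e] at hi
    have h3 : σ θ = -θ := by linear_combination hθ
    rcases mul_self_eq_mul_self_iff.1 (show σ i * σ i = i * i by
      rw [← map_mul, ← hi, map_neg, map_one]) with h | h
    · refine ⟨(θ - θ⁻¹) / 2, i * (θ + θ⁻¹) / 2, ?_, ?_, ?_⟩
      · field_simp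
        linear_combination -(θ ^ 2 + 1) ^ 2 * hi
      · simp [map_ofNat, h3]; ring
      · simp [map_ofNat, h3, h]; ring
    · exact ⟨i, 0, by linear_combination -hi, h, by simp⟩
  let j : SU (2 ^ (k + 1 + 1)) F q →* _ :=
    ((Units.coeHom _).comp SpecialLinearGroup.toGL).comp (Subgroup.subtype _)
  obtain ⟨f, hf⟩ := exists_surj h2 hab (eL (k + 1)) (j := j)
    (Subtype.val_injective.comp Subtype.val_injective) fun _ => mem_emb _ _ _ _
  have h1 : ∀ g : Matrix (Fin (2 ^ (k + 1))) (Fin (2 ^ (k + 1))) ℍ[F],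
      ((Ph h2 hab (eL (k + 1)) g).map σ)ᵀ = Ph h2 hab (eL (k + 1)) (of fun x y => cq σ (g y x)) := by
    intro g
    ext x y
    rw [transpose_apply, map_apply, Ph_apply, Ph_apply, of_apply]
    generalize (eL (k + 1) x).2 = r
    generalize (eL (k + 1) y).2 = s
    fin_cases r <;> fin_cases s <;> simp [ph_apply, cq, ha, hb] <;> ring
  have h3 : ∀ w : FW (Fin (2 ^ (k + 1))) ℍ[F]ˣ Unit, (Ph h2 hab (eL (k + 1)) (mon w).1)ᵀ *
      (Ph h2 hab (eL (k + 1)) (mon w).1).map σ = 1 ↔ ∀ i, co w i ∈ GQ hσ := fun w => by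
    rw [← transpose_inj, transpose_mul, h1, transpose_transpose, transpose_one, ← map_mul,
      EmbeddingLike.map_eq_one_iff, Units.mul_eq_one_iff_eq_inv, ← map_inv, ← Matrix.ext_iff]
    refine ⟨fun h i => ?_, fun h x y => ?_⟩
    · have := (h ((pm w)⁻¹ i) i).symm
      rw [of_apply, mon_apply, mon_apply, co_inv, map_inv, if_pos (by simp), if_pos (by simp),
        show pm w ((pm w)⁻¹ i) = i by simp] at this
      exact this
    · rw [of_apply, mon_apply, mon_apply, co_inv, map_inv]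
      by_cases e : y = pm w x
      · simpa [e] using (h y).symm
      · rw [if_neg e, if_neg fun e' => e (by rw [e']; simp)]
        ext <;> simp [cq]
  have hG : Frame (GQ hσ) (emb h2 hab (eL (k + 1)) j).range := fun w => by
    rw [mem_emb, ← det_Ph h2 hab (eL (k + 1)), ← h3]
    exact ⟨fun ⟨x, h⟩ => h ▸ ⟨(H55.mem_SU_iff_transpose_mul σ hq _).1 x.2, x.1.2⟩,
      fun h => ⟨⟨⟨_, h.2⟩, (H55.mem_SU_iff_transpose_mul σ hq _).2 h.1⟩, rfl⟩⟩
  obtain ⟨T, hT⟩ := exists_td (k + 1)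
  have h4 : σ l * l + σ l * l = 1 := by rw [hl]; field_simp; ring
  obtain ⟨S, h⟩ := tri3_frame h2 hG hT (Fintype.card_fin _)
    (by change _ = _; ext <;> simp [cq, inv_qi, val_qi, -Units.val_inv_eq_inv_val])
    (by change _ = _; ext <;> simp [cq, inv_qj, val_qj, -Units.val_inv_eq_inv_val])
    ⟨⟨mq l l 0 0, cq σ (mq l l 0 0), by ext <;> simp [cq, mul_comm l, h4],
      by ext <;> simp [cq, h4]⟩, rfl, l, rfl⟩
    (.inl (Fin.nontrivial_iff_two_le.2 (Nat.le_self_pow k.succ_ne_zero 2)))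
  exact h.pn.of_surj f hf

end H91.QM
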