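import Cfsg.Agent.H34.R5Spec

/-! Tower R5 (S3194): `JobFC`. -/

set_option autoImplicit false

namespace H91.R5FC
open Cfsg Subgroup H41.IT H34.R5

universe u

theorem exists_ab {Y : Type u} [Group Y] [Nontrivial Y] (h : Group.IsSolvable Y) :
    ∃ K : Subgroup Y, K.Normal ∧ K ≠ ⊥ ∧ ∀ a ∈ K, ∀ b ∈ K, a * b = b * a := by
  classical
  have ex : ∃ n, derivedSeries Y n = ⊥ := h.1
  have h0 : Nat.find ex ≠ 0 := fun e => by
    have := Nat.find_spec ex
    rw [e, derivedSeries_zero] at this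
    exact top_ne_bot this
  obtain ⟨n, hn⟩ := Nat.exists_eq_succ_of_ne_zero h0
  refine ⟨derivedSeries Y n, inferInstance, Nat.find_min ex (by omega), fun a ha b hb => ?_⟩
  have := Nat.find_spec ex
  rw [hn, derivedSeries_succ, commutator_eq_bot_iff_le_centralizer] at this
  exact (this ha b hb).symm

theorem exists_prime {Y : Type u} [Group Y] [Finite Y] [Nontrivial Y] (h : Group.IsSolvable Y)
    (hc : ∀ A : Subgroup Y, IsMulCommutative A → IsCyclic A) :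
    ∃ K : Subgroup Y, K.Normal ∧ (Nat.card K).Prime := by
  obtain ⟨K, hK, h0, ab⟩ := exists_ab h
  obtain ⟨r, hr, hd⟩ := Nat.exists_prime_and_dvd (n := Nat.card K) (by
    rwa [Ne, card_eq_one])
  have := Fact.mk hr
  obtain ⟨z, hz⟩ := exists_prime_orderOf_dvd_card' r hd
  let K1 : Subgroup Y :=
    { carrier := {w | w ∈ K ∧ w ^ r = 1}
      one_mem' := ⟨one_mem _, one_pow _⟩
      mul_mem' := fun {a b} ha hb => ⟨mul_mem ha.1 hb.1, by
        rw [Commute.mul_pow (ab a ha.1 b hb.1), ha.2, hb.2, one_mul]⟩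
      inv_mem' := fun {a} ha => ⟨inv_mem ha.1, by rw [inv_pow, ha.2, inv_one]⟩ }
  obtain ⟨w, hw⟩ := (hc K1 ⟨⟨fun a b => Subtype.ext (ab _ a.2.1 _ b.2.1)⟩⟩).exists_generator
  have h1 : Nat.card K1 ∣ r := by
    rw [← orderOf_eq_card_of_forall_mem_zpowers hw]
    exact orderOf_dvd_of_pow_eq_one (Subtype.ext w.2.2)
  have h2 : r ∣ Nat.card K1 := by
    rw [← hz, ← orderOf_coe]
    exact orderOf_dvd_natCard K1 ⟨z.2, by
      rw [← hz, ← coe_pow, pow_orderOf_eq_one, coe_one]⟩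
  refine ⟨K1, ⟨fun a ha g => ⟨hK.conj_mem a ha.1 g, by rw [conj_pow, ha.2, mul_one, mul_inv_cancel]⟩⟩, ?_⟩
  rwa [Nat.dvd_antisymm h1 h2]

theorem mixed {Y : Type u} [Group Y] [Finite Y] {K : Subgroup Y} [K.Normal]
    (hK : (Nat.card K).Prime)
    (hc : ∀ A : Subgroup Y, (∃ p q : ℕ, p.Prime ∧ q.Prime ∧ Nat.card A = p * q) → IsCyclic A)
    {r : ℕ} (hr : r.Prime) (hne : r ≠ Nat.card K) (hd : r ∣ Nat.card Y) :
    ∃ g : Y, orderOf g = Nat.card K * r := by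
  have := Fact.mk hr
  obtain ⟨g, hg⟩ := exists_prime_orderOf_dvd_card' r hd
  have h1 : K ⊓ zpowers g = ⊥ := inf_eq_bot_of_coprime (by
    rw [Nat.card_zpowers, hg]; exact (Nat.coprime_primes hK hr).2 hne.symm)
  have h2 : Nat.card ↥(zpowers g ⊔ K) = Nat.card K * r := by
    rw [← card_mul_index (K.subgroupOf (zpowers g ⊔ K)),
      Nat.card_congr (subgroupOfEquivOfLe (le_sup_right : K ≤ zpowers g ⊔ K)).toEquiv,
      ← relIndex, relIndex_sup_right, ← inf_relIndex_right, h1, relIndex_bot_left, Nat.card_zpowers, hg]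
  obtain ⟨w, hw⟩ := (hc _ ⟨_, _, hK, hr, h2⟩).exists_generator
  exact ⟨w, by rw [orderOf_coe, orderOf_eq_card_of_forall_mem_zpowers hw, h2]⟩

theorem jobFC : JobFC.{u} := by
  intro QC X _ _ hX V L a s hs ha hV hL V0 Vc hC ⟨k, hk⟩ hsd
  obtain ⟨q, -⟩ := QC X V L hV V0 Vc hC
  by_cases hp : ∀ r : ℕ, r.Prime → r ∣ L.index → r = s
  · exact Or.inl ⟨_, Nat.eq_prime_pow_of_unique_prime_dvd index_ne_zero_of_finite (hp _)⟩
  push Not at hp
  obtain ⟨r0, p0, d0, n0⟩ := hp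
  have da : ∀ r : ℕ, r.Prime → r ∣ L.index → r ≠ s → r ∣ a := fun r p d n =>
    ((Nat.Prime.dvd_mul p).1 (d.trans hk)).resolve_right fun e =>
      n ((Nat.prime_dvd_prime_iff_eq p hs).1 (p.dvd_of_dvd_pow e))
  have : Nontrivial (X ⧸ L) := Finite.one_lt_card_iff_nontrivial.1
    (hs.one_lt.trans_le (Nat.le_of_dvd Nat.card_pos hsd))
  obtain ⟨K, hK, hKp⟩ := exists_prime (Y := X ⧸ L) inferInstance fun A h => q A (Or.inl h)
  have lift : ∀ g : X ⧸ L, ∃ x : X, orderOf g ∣ orderOf x := fun g => by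
    obtain ⟨x, rfl⟩ := QuotientGroup.mk'_surjective L g
    exact ⟨x, orderOf_map_dvd _ x⟩
  right
  by_cases e : Nat.card K = s
  · obtain ⟨g, hg⟩ := mixed hKp (fun A h => q A (Or.inr h)) p0 (e ▸ n0) d0
    obtain ⟨x, hx⟩ := lift g
    rw [hg, e] at hx
    exact ⟨x, r0, p0, da r0 p0 d0 n0, (Dvd.intro_left _ rfl).trans hx, (Dvd.intro _ rfl).trans hx⟩
  · obtain ⟨g, hg⟩ := mixed hKp (fun A h => q A (Or.inr h)) hs (Ne.symm e) hsd
    obtain ⟨x, hx⟩ := lift g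
    rw [hg] at hx
    exact ⟨x, _, hKp, da _ hKp (card_subgroup_dvd_card K) e, (Dvd.intro _ rfl).trans hx,
      (Dvd.intro_left _ rfl).trans hx⟩

end H91.R5FC
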