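import Cfsg.Agent.H8.WZKit

/-! Tower WZ: `JobSplit`. -/

set_option autoImplicit false
set_option linter.unusedSectionVars false

namespace H91.WZ
open Cfsg Cfsg.FusionSystem H92 H86 H35.G2S Subgroup H8.WZ

universe u

variable {Ω : Type*} [Group Ω] {S A B P D : Subgroup Ω} {k : ℕ} {a b : Ω} {f : Ω → Ω}

theorem oddAut_af {α : MulAut P} (h : (orderOf α).Coprime 2) : OddAut P (af α) :=
  ⟨fun _ => af_mem α, fun _ hx _ hy => (mulOn_af α).map_mul hx hy, orderOf α,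
    Nat.coprime_two_right.1 h, fun x _ => by
      rw [← Equiv.Perm.coe_pow, ← map_pow, pow_orderOf_eq_one, af_one_apply]⟩

theorem q8_gq (hk : k ≠ 0) (h : GQ A (2 * k) a b) (m : ℤ) :
    GQ (q8 k a b m) 2 (a ^ (k : ℤ)) (b * a ^ m) := by
  rw [q8, ← zpow_natCast]
  exact h.Q8_sub hk m

theorem kk (a : Ω) (k : ℕ) : a ^ (k : ℤ) * a ^ (k : ℤ) = a ^ (2 * k) := by
  rw [← zpow_add, ← zpow_natCast]; congr 1; push_cast; ring

/-- An element of `A` is a power of `a` or has square `z`. -/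
theorem zp_or (h : GQ A (2 * k) a b) {r : Ω} (hr : r ∈ A) :
    r ∈ zpowers a ∨ ∃ m : ℤ, r = b * a ^ m := by
  obtain ⟨i, rfl | rfl⟩ := (h.mem r).1 hr
  exacts [.inl ⟨i, rfl⟩, .inr ⟨i, rfl⟩]

theorem fix_of_zp (hk : k ≠ 0) (h : GQ A (2 * k) a b) (hD : D ≤ A) (h2 : IsPGroup 2 D)
    (hf : OddAut D f) (e : ∀ r ∈ D, r ∈ zpowers a → f r ∈ zpowers a) : ∀ r ∈ D, f r = r := by
  have hf' := hf.restrict (Y := D ⊓ zpowers a) inf_le_left fun r hr => ⟨hf.mem r hr.1, e r hr.1 hr.2⟩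
  refine hf.fix_of_index_two h2 inf_le_left (hf'.fix_of_abelian (h2.to_le inf_le_left) ?_ ?_) ?_
  · rintro _ ⟨-, i, rfl⟩ _ ⟨-, j, rfl⟩
    exact zpow_mul_comm a i j
  · intro w hw ww
    rcases h.eq_of_sq (by omega) (hD hw.1) ww with rfl | rfl
    · exact hf.map_one
    · refine (h.eq_of_sq (by omega) (hD (hf.mem _ hw.1)) ?_).resolve_left fun e => ?_
      · rw [← hf.mul _ hw.1 _ hw.1, ww, hf.map_one]
      · exact h.z_ne_one (by omega) ((hf.eq_one_iff hw.1).1 e)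
  · intro c hc d hd c1 d1
    obtain ⟨i, rfl⟩ := (zp_or h (hD hc)).resolve_left fun e => c1 ⟨hc, e⟩
    obtain ⟨j, rfl⟩ := (zp_or h (hD hd)).resolve_left fun e => d1 ⟨hd, e⟩
    exact ⟨D.mul_mem (D.inv_mem hc) hd, j - i, by group⟩

theorem fpf_of {c d : Ω} (h : GQ D 2 c d) (hf : OddAut D f) (e : ¬ ∀ r ∈ D, f r = r) : Fpf D f := by
  intro r hr r2
  have key : f r ≠ r := fun e1 => e (by
    have e2 := hf.fix_zpowers hr e1
    rcases h.zpowers_eq_of_orderOf_four hr r2 with k | k | k <;> rw [k] at e2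
    · exact h.fix_of_oddAut hf (by rw [e2 _ (mem_zpowers _)]; exact mem_zpowers _)
    · exact h.swap.fix_of_oddAut hf (by rw [e2 _ (mem_zpowers _)]; exact mem_zpowers _)
    · exact (h.shift 1).swap.fix_of_oddAut hf (by
        rw [zpow_one, e2 _ (mem_zpowers _)]; exact mem_zpowers _))
  exact ⟨key, fun e1 => key (hf.fix_of_two hr (by rw [e1, hf.map_inv hr, e1, inv_inv]))⟩

/-- Odd automorphisms of subgroups of a quaternion group. -/
theorem side (hk : k ≠ 0) (h : GQ A (2 * k) a b) (hD : D ≤ A) (h2 : IsPGroup 2 D)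
    (hf : OddAut D f) : Side A k a b D f := by
  refine ⟨hD, hf.mem, or_iff_not_imp_left.2 fun e => ?_⟩
  have sq : ∀ r ∈ D, r ∈ zpowers a → f r ∉ zpowers a → r * r = a ^ (2 * k) := fun r hr h1 h3 => by
    obtain ⟨m, hm⟩ := (zp_or h (hD (hf.mem r hr))).resolve_left h3
    exact h.sq_eq_of_orderOf_four (by omega) (hD hr)
      (by rw [← hf.orderOf_eq hr, hm, h.orderOf_ba (by omega)])
  obtain ⟨r, hr, ⟨i, rfl⟩, h3⟩ : ∃ r ∈ D, r ∈ zpowers a ∧ f r ∉ zpowers a := by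
    by_contra hne
    push Not at hne
    exact e (fix_of_zp hk h hD h2 hf hne)
  obtain ⟨m, hm⟩ := (zp_or h (hD (hf.mem _ hr))).resolve_left h3
  have g8 := q8_gq hk h m
  have hq : ∀ j : ℤ, a ^ j * a ^ j = a ^ (2 * k) → a ^ j ∈ q8 k a b m := fun j e => by
    rcases h.eq_of_zpow_sq e with e | e <;> rw [e]
    · exact g8.a_mem'
    · rw [zpow_neg]; exact inv_mem g8.a_mem'
  have h4 : ∀ j : ℤ, a ^ j ∈ D → a ^ j ∈ q8 k a b m := fun j hj => by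
    by_cases h5 : f (a ^ j) ∈ zpowers a
    · have h6 := mul_mem hj hr
      have h7 := sq _ h6 (mul_mem ⟨j, rfl⟩ ⟨i, rfl⟩) (by
        rw [hf.mul _ hj _ hr]; exact fun e => h3 ((mul_mem_cancel_left h5).1 e))
      rw [← zpow_add] at h7
      have := mul_mem (hq _ h7) (inv_mem (hq _ (sq _ hr ⟨i, rfl⟩ h3)))
      rwa [zpow_add, mul_inv_cancel_right] at this
    · exact hq j (sq _ hj ⟨j, rfl⟩ h5)
  have e1 : D = q8 k a b m := by
    refine le_antisymm (fun g hg => ?_) ?_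
    · obtain ⟨j, rfl | rfl⟩ := (h.mem g).1 (hD hg)
      · exact h4 j hg
      · have := mul_mem g8.b_mem (h4 (j - m) (by
          convert mul_mem (inv_mem (hm ▸ hf.mem _ hr)) hg using 1; group))
        convert this using 1; group
    · rw [g8.eq_closure, closure_le]
      rintro _ (rfl | rfl)
      · rcases h.eq_of_zpow_sq (sq _ hr ⟨i, rfl⟩ h3) with e | e
        · exact e ▸ hr
        · exact inv_mem_iff.1 (by rw [← zpow_neg, ← e]; exact hr)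
      · exact hm ▸ hf.mem _ hr
  exact ⟨m, e1, fpf_of (e1 ▸ g8) hf e⟩

/-- One side of the frame. -/
structure AB (S A B : Subgroup Ω) (k : ℕ) (a b : Ω) : Prop where
  k0 : k ≠ 0
  gq : GQ A (2 * k) a b
  pm : ∀ s ∈ S, s * a * s⁻¹ = a ∨ s * a * s⁻¹ = a⁻¹
  n : ∀ s ∈ S, ∀ r ∈ A, s * r * s⁻¹ ∈ A
  c : ∀ s ∈ S, (∀ r ∈ A, s * r = r * s) → s ∈ B
  comm : ∀ r ∈ A, ∀ s ∈ B, r * s = s * r

theorem ab_of {W : Subgroup Ω} {x y u w : Ω} (h : GS S W k x y u w) :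
    AB S (qq k x y u) (qq k x y⁻¹ (u * w)) k (wu x y 1 (-1)) (u * wu x y (2 * k) 0) := by
  refine ⟨h.wr.kpos.ne', h.wr.GQ_Y, fun s hs => ?_, fun s hs r hr => h.norm_q hs hr,
    fun s hs => h.cent_q hs, fun r hr s hs => h.comm_q hr hs⟩
  have e : ∀ (g : Ω) (i j : ℤ), g * wu x y i j * wu x y 1 (-1) * (g * wu x y i j)⁻¹ =
      g * wu x y 1 (-1) * g⁻¹ := fun g i j => by
    conv_rhs => rw [← h.wr.u_conj_u i j 1 (-1)]
    group
  have e1 : u * wu x y 1 (-1) * u⁻¹ = (wu x y 1 (-1))⁻¹ := by rw [h.wr.z_conj, h.wr.u_inv, neg_neg]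
  have e2 : w * wu x y 1 (-1) * w⁻¹ = (wu x y 1 (-1))⁻¹ := by rw [h.z_conj, h.wr.u_inv]
  obtain ⟨i, j, rfl | rfl | rfl | rfl⟩ := h.cases hs
  · exact .inl (h.wr.u_conj_u _ _ _ _)
  · exact .inr (by rw [e, e1])
  · exact .inr (by rw [e, e2])
  · left
    calc _ = u * (w * wu x y 1 (-1) * w⁻¹) * u⁻¹ := by rw [e]; group
      _ = (u * wu x y 1 (-1) * u⁻¹)⁻¹ := by rw [e2]; group
      _ = _ := by rw [e1, inv_inv]

namespace AB

variable (h : AB S A B k a b)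
include h

theorem cent {s : Ω} (hs : s ∈ S) {m : ℤ} (e1 : s * a * s⁻¹ = a)
    (e2 : s * (b * a ^ m) * s⁻¹ = b * a ^ m) : s ∈ B := by
  refine h.c s hs fun r hr => ?_
  have c1 : Commute s a := mul_inv_eq_iff_eq_mul.1 e1
  have c2 : Commute s (b * a ^ m) := mul_inv_eq_iff_eq_mul.1 e2
  obtain ⟨i, rfl | rfl⟩ := ((h.gq.shift m).mem r).1 hr
  exacts [(c1.zpow_right i).eq, (c2.mul_right (c1.zpow_right i)).eq]

theorem cent8 {s : Ω} (hs : s ∈ S) {m : ℤ} (e1 : s * a ^ (k : ℤ) = a ^ (k : ℤ) * s)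
    (e2 : s * (b * a ^ m) = b * a ^ m * s) : s ∈ B := by
  refine h.cent hs ((h.pm s hs).resolve_right fun e => h.gq.z_ne_one (by have := h.k0; omega) ?_)
    (mul_inv_eq_iff_eq_mul.2 e2)
  rw [← kk]
  nth_rewrite 1 [← mul_inv_eq_iff_eq_mul.2 e1]
  rw [← conj_zpow, e, inv_zpow, inv_mul_cancel]

theorem sup_of_fpf (hP : P ≤ S) (hf : OddAut P f) (hA : ∀ r ∈ P ⊓ A, f r ∈ A)
    (hi : a ^ (k : ℤ) ∈ P) (e : Fpf (P ⊓ A) f) : P = P ⊓ A ⊔ P ⊓ B := by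
  have k0 := h.k0
  have hi' : a ^ (k : ℤ) ∈ P ⊓ A := ⟨hi, h.gq.a_mem k⟩
  have e1 := e _ hi' (by rw [kk]; exact h.gq.z_ne_one (by omega))
  obtain ⟨n, hn⟩ : ∃ n : ℤ, f (a ^ (k : ℤ)) = b * a ^ n := by
    refine (zp_or h.gq (hA _ hi')).resolve_left fun ⟨j, hj⟩ => ?_
    have h4 := h.gq.sq_eq_of_orderOf_four (by omega) (hA _ hi')
      ((hf.orderOf_eq hi).trans (q8_gq k0 h.gq 0).ord)
    rw [← hj] at h4 e1
    rcases h.gq.eq_of_zpow_sq h4 with e | e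
    exacts [e1.1 e, e1.2 (e.trans (zpow_neg _ _))]
  have hc : b * a ^ n ∈ P ⊓ A := ⟨hn ▸ hf.mem _ hi, h.gq.ba_mem n⟩
  have g8 := q8_gq k0 h.gq n
  have r1 : a ^ (k : ℤ) * (b * a ^ n) * (a ^ (k : ℤ))⁻¹ = (b * a ^ n)⁻¹ := g8.swap.rel
  have r2 : b * a ^ n * a * (b * a ^ n)⁻¹ = a⁻¹ := (h.gq.shift n).rel
  have r3 : a ^ (k : ℤ) * a * (a ^ (k : ℤ))⁻¹ = a := by group
  refine le_antisymm (fun g hg => ?_) (sup_le inf_le_left inf_le_left)
  have key : ∀ r ∈ P ⊓ A, r * g * a * (r * g)⁻¹ = a →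
      r * g * (b * a ^ n) * (r * g)⁻¹ = b * a ^ n → g ∈ P ⊓ A ⊔ P ⊓ B := fun r hr c1 c2 => by
    have h1 := mul_mem hr.1 hg
    simpa using mul_mem (mem_sup_left (inv_mem hr)) (mem_sup_right (S := P ⊓ A) (T := P ⊓ B)
      ⟨h1, h.cent (hP h1) c1 c2⟩)
  have cj : ∀ r c : Ω, r * g * c * (r * g)⁻¹ = r * (g * c * g⁻¹) * r⁻¹ := fun r c => by group
  have h5 : g * (b * a ^ n) * g⁻¹ = b * a ^ n ∨ g * (b * a ^ n) * g⁻¹ = (b * a ^ n)⁻¹ := by
    obtain ⟨t, ht, rfl⟩ := hf.surj hg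
    rw [← hn, ← hf.map_inv ht, ← hf.mul _ ht _ hi, ← hf.mul _ (mul_mem ht hi) _ (inv_mem ht),
      ← conj_zpow]
    refine (h.pm t (hP ht)).imp (fun e => by rw [e]) fun e => by rw [e, inv_zpow, hf.map_inv hi]
  rcases h.pm g (hP hg) with c1 | c1 <;> rcases h5 with c2 | c2
  · exact key 1 (one_mem _) (by simpa using c1) (by simpa using c2)
  · exact key _ hi' (by rw [cj, c1, r3]) (by rw [cj, c2, ← conj_inv, r1, inv_inv])
  · exact key _ hc (by rw [cj, c1, ← conj_inv, r2, inv_inv]) (by rw [cj, c2]; group)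
  · refine key _ (mul_mem hc hi') ?_ ?_
    · rw [cj, c1, ← conj_inv, show ∀ c d : Ω, c * d * a * (c * d)⁻¹ = c * (d * a * d⁻¹) * c⁻¹ from
        fun c d => by group, r3, r2, inv_inv]
    · rw [cj, c2, ← conj_inv, show ∀ c d t : Ω, c * d * t * (c * d)⁻¹ = c * (d * t * d⁻¹) * c⁻¹ from
        fun c d t => by group, r1]
      group

end AB

theorem jobSplit : JobSplit.{u} := by
  intro Ω _ S _ C W k x y u w hC h hk hR P hP α hα ho
  obtain ⟨W', h'⟩ := h.swap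
  have h1 := ab_of h
  have h2 := ab_of h'
  rw [h.qq_swap] at h2
  have hS : IsPGroup 2 S := by
    obtain ⟨e, he⟩ := h.wr.pow2
    exact .of_card (n := 2 * e + 6) (by rw [h.card, he]; ring)
  have hr := top_or_essential_radical hS hC hP
  have hPS : P ≤ S := (isRadical_iff.1 hr).1
  have hP2 := hS.to_le hPS
  unfold Split
  generalize qq k x y u = A, qq k x y⁻¹ (u * w) = B, wu x y 1 (-1) = a, wu x y⁻¹ 1 (-1) = c,
    u * wu x y (2 * k) 0 = b, u * w * wu x y⁻¹ (2 * k) 0 = d at *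
  have hA : ∀ β ∈ C.autGroup P, ∀ r ∈ P ⊓ A, af β r ∈ P ⊓ A := fun β hβ r hr =>
    ⟨af_mem β hr.1, (mor_af hPS hβ).mem_of_stronglyClosed hR hr.1 hr.2⟩
  have sd : ∀ β ∈ C.autGroup P, (orderOf β).Coprime 2 → Side A k a b (P ⊓ A) (af β) :=
    fun β hβ hb => side h1.k0 h1.gq inf_le_right (hP2.to_le inf_le_left)
      ((oddAut_af hb).restrict inf_le_left (hA β hβ))
  obtain ⟨m, m1, m2⟩ : ∃ m : ℤ, a ^ (k : ℤ) ∈ P ⊓ A ∧ b * a ^ m ∈ P ⊓ A := by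
    by_cases e : ∀ β ∈ C.autGroup P, (orderOf β).Coprime 2 → ∀ r ∈ P ⊓ A, af β r = r
    · have : A ≤ P := le_of_chain hS hR (centralizerIn_le_of_centric (top_or_essential_centric hP))
        hr le_rfl (fun g hg => h1.n g (hPS hg)) (fun _ => A) 0 rfl (fun _ _ i hi => by omega)
        (fun β hβ hb r h3 h4 => e β hβ hb r ⟨h3, h4⟩) fun i hi => by omega
      exact ⟨0, ⟨this (h1.gq.a_mem _), h1.gq.a_mem _⟩, this (h1.gq.ba_mem _), h1.gq.ba_mem _⟩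
    · push Not at e
      obtain ⟨β, hβ, hb, r, h3, h4⟩ := e
      obtain ⟨m, e, -⟩ := (sd β hβ hb).2.2.resolve_left fun e => h4 (e r h3)
      exact ⟨m, e ▸ (q8_gq h1.k0 h1.gq m).a_mem', e ▸ (q8_gq h1.k0 h1.gq m).b_mem⟩
  have hf := oddAut_af ho
  have cB : ∀ g ∈ P, (∀ r ∈ P ⊓ A, g * r = r * g) → g ∈ P ⊓ B := fun g hg e =>
    ⟨hg, h1.cent8 (hPS hg) (e _ m1) (e _ m2)⟩
  have hB : ∀ g ∈ P ⊓ B, af α g ∈ P ⊓ B := fun g hg => cB _ (hf.mem g hg.1) fun r hr => by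
    obtain ⟨t, ht, rfl⟩ := (hf.restrict inf_le_left (hA α hα)).surj hr
    exact (hf.comm_iff hg.1 ht.1).2 (h1.comm t ht.2 g hg.2).symm
  have s1 := sd α hα ho
  have s2 := side h2.k0 h2.gq inf_le_right (hP2.to_le inf_le_left) (hf.restrict inf_le_left hB)
  rcases s1.2.2 with e1 | ⟨n, e1, e⟩
  · rcases s2.2.2 with e2 | ⟨n, e2, e⟩
    · refine .inl fun g hg => hf.fix_of_coset hP2 inf_le_left e2 hg
        (cB _ (mul_mem (inv_mem hg) (hf.mem g hg)) fun r hr => ?_)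
      have := e1 _ ⟨P.mul_mem (P.mul_mem hg hr.1) (P.inv_mem hg), h1.n g (hPS hg) r hr.2⟩
      rw [hf.mul _ (mul_mem hg hr.1) _ (inv_mem hg), hf.mul _ hg _ hr.1, hf.map_inv hg,
        e1 r hr] at this
      calc _ = g⁻¹ * (af α g * r * (af α g)⁻¹) * af α g := by group
        _ = _ := by rw [this]; group
    · exact .inr ⟨_, _, (h2.sup_of_fpf hPS hf (fun r hr => (hB r hr).2)
        (e2 ▸ (q8_gq h2.k0 h2.gq n).a_mem' : _ ∈ P ⊓ B).1 e).trans (sup_comm _ _), s1, s2⟩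
  · exact .inr ⟨_, _, h1.sup_of_fpf hPS hf (fun r hr => (hA α hα r hr).2) m1.1 e, s1, s2⟩

end H91.WZ
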